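import Cfsg.Agent.H5.QJ1
import Cfsg.Agent.H20.SA0

/-! S2886: interface (plan in `notes/EA.md`). -/

set_option autoImplicit false
set_option linter.unusedVariables false
set_option linter.unusedSectionVars false

open Cfsg
namespace H13.EA
open Subgroup H18 H17.GS H17.TS
open H5.QJ (Am TC KX CS Od N2)
open H19 hiding eq_bot_mono
open H28.SF (Hm)
open scoped MatrixGroups

universe u v

section Amb
variable {G : Type v} [Group G]

/-- the configuration of the noncentral case -/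
structure Cf (D : Subgroup G) (l : G) (J H W B : Subgroup G) (φ : G → G) : Prop where
  lW : l ∈ W
  l1 : l ≠ 1
  sW : Syl 2 W J
  c4 : 4 ≤ #W
  ex : ∀ a ∈ J, E2 a → a * a = 1
  nt : ∀ a ∈ J, a * a = 1 → a ≠ 1 → ¬ TC a D ∧ D ⊓ C[a] ≤ H
  HD : H ≤ D ⊓ N(J)
  JH : J ≤ N(H)
  sB : Syl 2 B H
  Bl : B ≤ C[l] ⊓ N(W)
  WB : W ≤ N(B)
  sU : ∃ U, Syl 2 U D ∧ B ≤ U ∧ W ≤ N(U)
  hm : Hm φ H
  cJ : ∀ x ∈ H, φ x ∈ C(J) ⊓ N(H)
  nB : ∀ x ∈ B, φ x ∈ N(B)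
  cl : ∀ x ∈ H, ∀ y ∈ H, ∃ w ∈ H, φ w = x * φ y * x⁻¹
  k1 : ∀ x ∈ H, ∀ a ∈ J, φ (x * a * x⁻¹ * a⁻¹) = 1
  k2 : ∀ x ∈ H, φ x = 1 → x ∈ J

/-- `W` contains an inner involution -/
def K3 (D : Subgroup G) : Prop := ∀ l J H W B φ, Cf D l J H W B φ → W ⊓ D ≠ ⊥
/-- the configuration produces a `2`-central pair -/
def DS (l : G) (D : Subgroup G) : Prop := ∀ J H W B φ, Cf D l J H W B φ →
  ∃ w ∈ W, ∃ b ∈ D, ∃ y ∈ H, b * w * b⁻¹ = y * w ∧ φ y ≠ 1 ∧ TC (φ y) D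
/-- the facts for the noncentral case -/
def NF (D : Subgroup G) : Prop := K3 D ∧ ∀ l ∈ D, l * l = 1 → l ≠ 1 → TC l D ∨ KX l D ∨ DS l D

/-- the maps of the central case -/
structure Hx (U D : Subgroup G) (φ : G → G) : Prop where
  hm : Hm φ U
  nU : ∀ x ∈ U, φ x ∈ N(U)
  ex : (∀ x ∈ U, φ x ∈ D) ∨ ∃ u ∈ C(U), u * u = 1 ∧ u ≠ 1 ∧ Hm φ (D ⊓ C[u])
/-- the central case, elementary centre -/
structure BV (U D : Subgroup G) : Prop where
  syl : Syl 2 U D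
  ex : ∀ a ∈ Z(U), a * a = 1
  al : ∀ φ, Hx U D φ → ∀ e ∈ N(U), e * e = 1 → (∀ x ∈ U, φ x ∈ D → x ∈ C[e]) → e ∈ Z(U)
  be : ∀ φ, Hx U D φ → (∀ x ∈ U, φ x ∈ C(Z(U))) → ∃ X ≤ U, (∀ x ∈ X, φ x ∈ D) ∧ Z(U) ≤ ⁅X, X⁆
/-- `H5.QJ.BU.tr` -/
def TR (U D : Subgroup G) : Prop := ∀ (Δ Δ' : Set G) (σ : G → G), Od U D Δ → Od U D Δ' → Hm σ Z(U) → (∀ a ∈ Z(U), σ a ∈ Z(U)) →
  (∀ a ∈ Z(U), σ a = 1 → a = 1) → ∀ u ∈ Δ, (∀ a ∈ Z(U), σ a ∈ Δ' ↔ a * u ∈ Δ) → u = 1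
/-- the centre of `U` is a four-group -/
structure C4 (U D : Subgroup G) : Prop where
  c4 : #Z(U) = 4
  gen : ∀ H ≤ D, (∀ u ∈ Z(U), u ≠ 1 → D ⊓ C[u] ≤ H) → D ≤ H
  fx : ∀ a ∈ Z(U), ∀ b ∈ Z(U), a ≠ 1 → b ≠ 1 → a ≠ b → ∀ φ ψ : G → G, Hm φ (D ⊓ C[a]) → Hm ψ (D ⊓ C[b]) →
    (∀ x ∈ U, φ x = 1 → x = 1) → (∀ x ∈ U, ψ x = 1 → x = 1) → (∀ x ∈ U, φ x ∈ N(U) ⊓ C(Z(U))) →
    φ a = b → ψ b = a → φ b = a * b → False
/-- all facts -/
def KA (D : Subgroup G) : Prop := Am D ∧ NF D ∧ (CS D ∨ ∃ U, BV U D ∧ (TR U D ∨ C4 U D))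
end Amb

section
variable (X : Type v) [Group X]
/-- the facts hold in a model of the automorphism group -/
def KQ : Prop := ∃ (A : Type) (_ : Group A) (_ : Finite A) (D : Subgroup A), Nonempty (D ≃* X) ∧ KA D
theorem KQ.congr {X : Type v} [Group X] {X' : Type u} [Group X'] (e : X ≃* X') : KQ X → KQ X' :=
  fun ⟨A, _, _, D, ⟨f⟩, h⟩ => ⟨A, _, ‹_›, D, ⟨f.trans e⟩, h⟩

/-- an outer involution has a commuting conjugate -/
def EL : Prop := ∀ σ : MulAut X, σ * σ = 1 → σ ∉ Inn X → ∃ l : X, l * σ l⁻¹ * (l * σ l⁻¹) = 1 ∧ l * σ l⁻¹ ∉ center X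
/-- a four-group of automorphisms whose inner elements come from involutions -/
structure F4 (σ ρ : MulAut X) : Prop where
  s2 : σ * σ = 1
  r2 : ρ * ρ = 1
  cm : σ * ρ = ρ * σ
  s1 : σ ≠ 1
  r1 : ρ ≠ 1
  ne : σ ≠ ρ
  inn : ∀ a : X, MulAut.conj a = σ ∨ MulAut.conj a = ρ ∨ MulAut.conj a = σ * ρ → a * a = 1
/-- double covers -/
def HV : Prop := ∀ σ ρ : MulAut X, F4 X σ ρ → (∀ x, ρ x = x → σ x = x) → ¬ ∀ x, (σ * ρ) x = x → σ x = x
/-- covers with centre of order four -/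
def HW : Prop := ∀ σ ρ : MulAut X, F4 X σ ρ → (∀ c ∈ center X, σ c = c ∧ ρ c = c) →
  ¬ ∀ τ ∈ closure {σ, ρ}, τ ≠ 1 → ∀ x, τ x = x → MulAut.conj x ∈ N(closure {σ, ρ})
end

/-- the conclusion -/
def Go (G : Type u) [Group G] : Prop := Nonempty (G ≃* alternatingGroup (Fin 12))

/-- a standard subgroup centralized by a `2`-central involution, with elementary noncyclic Sylow subgroups of the centralizer -/
structure Su {G : Type u} [Group G] (L T : Subgroup G) (z : G) : Prop where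
  sim : Sim (⊤ : Subgroup G)
  std : IsStandardSubgroup L
  hT : Syl 2 T ⊤
  Tz : T ≤ C[z]
  zK : z ∈ C(L)
  zz : z * z = 1
  z1 : z ≠ 1
  oc : ∀ t : G, t * t = 1 → t ≠ 1 → O(C[t]) = ⊥
  el : ∀ x ∈ C(L), E2 x → x * x = 1
  c4 : 4 ≤ #(T ⊓ C(L))
  ev : IsOfEvenType G
  kp : IsKpGroup 2 G
  nc : ¬ IsOfEvenCharacteristic G
  inC : InC 2 L

section
variable (X : Type) [Group X]
def NS : Prop := ∀ {G : Type u} [Group G] [Finite G] {L T : Subgroup G} {z : G}, Su L T z → Z(L) = ⊥ →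
  Nonempty (L ≃* X) → Go G
/-- centre of order `n` -/
def NV (n : ℕ) : Prop := ∀ {G : Type u} [Group G] [Finite G] {L T : Subgroup G} {z : G}, Su L T z → Nat.card (center L) = n →
  Nonempty (L ⧸ center L ≃* X) → False
/-- any centre -/
def NA : Prop := ∀ {G : Type u} [Group G] [Finite G] {L T : Subgroup G} {z : G}, Su L T z → Nonempty (L ⧸ center L ≃* X) → False
/-- facts for the double covers -/
def CV : Prop := ∀ (M : Type u) [Group M] [Finite M], IsQuasisimple M → Nat.card (center M) = 2 →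
  Nonempty ((M ⧸ center M) ≃* X) → EL M ∧ HV M
/-- facts for the covers with centre `2²` -/
def CW : Prop := ∀ (M : Type u) [Group M] [Finite M], IsQuasisimple M → Nat.card (center M) = 4 → (∀ c ∈ center M, c * c = 1) →
  Nonempty ((M ⧸ center M) ≃* X) → EL M ∧ HW M
/-- goal for a simple group `X` -/
def OS : Prop := Finite X → IsSimpleGroup X → center X = ⊥ → KQ X ∨ NS.{u} X
/-- goal for the double covers of `X` -/
def OV : Prop := Finite X → IsSimpleGroup X → center X = ⊥ → CV.{u} X ∨ NV.{u} X 2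
/-- goal for the covers with centre `2²` -/
def OW : Prop := Finite X → IsSimpleGroup X → center X = ⊥ → CW.{u} X ∨ NV.{u} X 4
end

/-! ### the framework -/

def GEN : Prop := ∀ {G : Type u} [Group G] [Finite G] {L T : Subgroup G} {z : G}, Su L T z → Z(L) = ⊥ → KQ L → False
def COV : Prop := ∀ {G : Type u} [Group G] [Finite G] {L T : Subgroup G} {z : G}, Su L T z → Nat.card (center L) = 2 →
  EL L → HV L → False
def COW : Prop := ∀ {G : Type u} [Group G] [Finite G] {L T : Subgroup G} {z : G}, Su L T z → Nat.card (center L) = 4 →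
  EL L → HW L → False
/-- elementary centres of order at least four -/
def M4 : Prop := ∀ (M : Type u) [Group M] [Finite M], InC 2 M → (∀ c ∈ center M, c * c = 1) → 4 ≤ Nat.card (center M) →
  Nat.card (center M) = 4 ∧ ∃ (F : Type) (_ : Field F) (_ : Fintype F),
    Fintype.card F = 4 ∧ (Nonempty (M ⧸ center M ≃* PSL(3, F)) ∨ Nonempty (M ⧸ center M ≃* PSU 6 F 2) ∨
      Nonempty (M ⧸ center M ≃* Lie.twistedE6 F 2)) ∨
    Fintype.card F = 2 ∧ Nonempty (M ⧸ center M ≃* POmega F (quadFormPlus 4 F)) ∨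
    Fintype.card F = 8 ∧ Nonempty (M ⧸ center M ≃* Lie.Sz F 4)

/-! ### wrappers of the standard form theorems -/

def BN : Prop := ∀ {G : Type u} [Group G] [Finite G] {L T : Subgroup G} {z : G}, Su L T z → IsBenderGroup (L ⧸ center L) → False
def WA : Prop := NS.{u} (alternatingGroup (Fin 6)) ∧ ∀ (F : Type) [Field F] [Fintype F], Fintype.card F = 2 → NS.{u} PSL(4, F)
def W4 : Prop := ∀ (F : Type) [Field F] [Fintype F], Fintype.card F = 4 → NA.{u} PSL(3, F) ∧ NA.{u} (Lie.chevG2.group F)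
def WM : Prop := NA.{u} Spor.M12 ∧ NA.{u} Spor.J2 ∧ NA.{u} Spor.Suz
def WS : Prop := NS.{u} Spor.M23 ∧ NS.{u} Spor.J4
def WV1 : Prop := ∀ (F : Type) [Field F] [Fintype F], (Fintype.card F = 2 → NV.{u} (PSp 3 F) 2) ∧ (Fintype.card F = 4 →
  NV.{u} (PSU 6 F 2) 2 ∧ NV.{u} (PSU 6 F 2) 4 ∧ NV.{u} (Lie.twistedE6 F 2) 2 ∧ NV.{u} (Lie.twistedE6 F 2) 4)
def WV2 : Prop := NV.{u} Spor.HS 2 ∧ NV.{u} Spor.Ru 2 ∧ NV.{u} Spor.Fi22 2 ∧ NV.{u} Spor.BabyMonster 2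

/-! ### ports from `S1817` -/

def PA : Prop := ∀ (F : Type) [Field F] [Fintype F], IsTwoPowerNeighbourPrime (Fintype.card F) → 7 ≤ Fintype.card F → KQ PSL(2, F)
def PB1 : Prop := ∀ (F : Type) [Field F] [Fintype F], (Fintype.card F ≤ 3 → KQ PSL(3, F)) ∧ (Fintype.card F = 9 → KQ (PSU 3 F 3))
def PB2 : Prop := KQ Spor.M11 ∧ KQ Spor.M22
def PE : Prop := ∀ (F : Type) [Field F] [Fintype F] [CharP F 2], 8 ≤ Fintype.card F → KQ PSL(3, F)
def PF : Prop := ∀ (F : Type) [Field F] [Fintype F] [CharP F 2], 4 ≤ Fintype.card F → KQ (PSp 2 F)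
def PG2 : Prop := ∀ (F : Type) [Field F] [Fintype F] [CharP F 2], 4 ≤ Fintype.card F → KQ (Lie.chevG2.group F)
def PH : Prop := ∀ (F : Type) [Field F] [Fintype F] [CharP F 2] (q : ℕ), IsPrimePow q → Fintype.card F = q ^ 3 →
  KQ (Lie.twistedD4 F q)
def PI : Prop := ∀ (F : Type) [Field F] [Fintype F] (m : ℕ), 1 ≤ m → Fintype.card F = 2 ^ (2 * m + 1) →
  KQ (Lie.twistedF4 F (2 ^ m))

/-! ### new facts: groups of Lie type -/

def LA4 : Prop := ∀ (F : Type) [Field F] [Fintype F] [CharP F 2], 4 ≤ Fintype.card F → OS.{u} PSL(4, F)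
def LA : Prop := ∀ (F : Type) [Field F] [Fintype F] [CharP F 2] (n : ℕ), 5 ≤ n → OS.{u} PSL(n, F)
def LC1 : Prop := ∀ (F : Type) [Field F] [Fintype F] (m : ℕ), 3 ≤ m → Fintype.card F = 2 → OS.{u} (PSp m F)
def LC : Prop := ∀ (F : Type) [Field F] [Fintype F] [CharP F 2] (m : ℕ), 3 ≤ m → 4 ≤ Fintype.card F → OS.{u} (PSp m F)
def LU4 : Prop := ∀ (F : Type) [Field F] [Fintype F] [CharP F 2] (q : ℕ), Fintype.card F = q ^ 2 → OS.{u} (PSU 4 F q)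
def LU : Prop := ∀ (F : Type) [Field F] [Fintype F] [CharP F 2] (n q : ℕ), Fintype.card F = q ^ 2 → 5 ≤ n → OS.{u} (PSU n F q)
def LD4 : Prop := ∀ (F : Type) [Field F] [Fintype F] [CharP F 2], OS.{u} (POmega F (quadFormPlus 4 F))
def LD : Prop := ∀ (F : Type) [Field F] [Fintype F] [CharP F 2] (m : ℕ), 5 ≤ m → OS.{u} (POmega F (quadFormPlus m F))
def LD2 : Prop := ∀ (F : Type) [Field F] [Fintype F] [CharP F 2] (m : ℕ) (a b : F), 4 ≤ m →
  (∀ z₁ z₂ : F, z₁ ^ 2 + a * z₁ * z₂ + b * z₂ ^ 2 = 0 → z₁ = 0 ∧ z₂ = 0) → OS.{u} (POmega F (quadFormMinus (m - 1) F a b))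
def LF1 : Prop := ∀ (F : Type) [Field F] [Fintype F], Fintype.card F = 2 → OS.{u} (Lie.chevF4.group F)
def LF : Prop := ∀ (F : Type) [Field F] [Fintype F] [CharP F 2], 4 ≤ Fintype.card F → OS.{u} (Lie.chevF4.group F)
def LE : Prop := ∀ (F : Type) [Field F] [Fintype F] [CharP F 2],
  OS.{u} (Lie.chevE6.group F) ∧ OS.{u} (Lie.chevE7.group F) ∧ OS.{u} (Lie.chevE8.group F)
def LE2 : Prop := ∀ (K : Type) [Field K] [Fintype K] [CharP K 2] (q : ℕ), IsPrimePow q → Fintype.card K = q ^ 2 →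
  OS.{u} (Lie.twistedE6 K q)
def LT : Prop := OS.{u} Lie.TitsGroup
def L43 : Prop := ∀ (F : Type) [Field F] [Fintype F], Fintype.card F = 3 → OS.{u} PSL(4, F)
def G23 : Prop := ∀ (F : Type) [Field F] [Fintype F], Fintype.card F = 3 → OS.{u} (Lie.chevG2.group F)
def U43 : Prop := ∀ (F : Type) [Field F] [Fintype F], Fintype.card F = 9 → OS.{u} (PSU 4 F 3)

/-! ### new facts: sporadic groups -/

def SM24 : Prop := OS.{u} M24
def SJ3 : Prop := ∀ (F : Type) [Field F] [Fintype F] (ω : F), Fintype.card F = 4 → ω ^ 2 + ω + 1 = 0 → OS.{u} (Spor.J3 F ω)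
def SHS : Prop := OS.{u} Spor.HS
def SRu : Prop := OS.{u} Spor.Ru
def SCo1 : Prop := OS.{u} Spor.Co1
def SCo2 : Prop := OS.{u} Spor.Co2
def SF22 : Prop := OS.{u} Spor.Fi22
def SF23 : Prop := OS.{u} Spor.Fi23
def SF24 : Prop := OS.{u} Spor.Fi24'
def STh : Prop := OS.{u} Spor.Th
def SB : Prop := OS.{u} Spor.BabyMonster
def SM : Prop := OS.{u} Spor.Monster

/-! ### new facts: covers -/

def VO82 : Prop := ∀ (F : Type) [Field F] [Fintype F], Fintype.card F = 2 → OV.{u} (POmega F (quadFormPlus 4 F))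
def WO82 : Prop := ∀ (F : Type) [Field F] [Fintype F], Fintype.card F = 2 → OW.{u} (POmega F (quadFormPlus 4 F))
def VF42 : Prop := ∀ (F : Type) [Field F] [Fintype F], Fintype.card F = 2 → OV.{u} (Lie.chevF4.group F)
def VU43 : Prop := ∀ (F : Type) [Field F] [Fintype F], Fintype.card F = 9 → OV.{u} (PSU 4 F 3)
def VM22 : Prop := OV.{u} Spor.M22
def VCo1 : Prop := OV.{u} Spor.Co1

end H13.EA
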