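import Cfsg.Agent.H27.MS1

/-! S5899: chunk `FF`. -/

set_option autoImplicit false
set_option linter.unusedVariables false

namespace H13.MS
open Cfsg Subgroup H18 H17.GS H28.S H2.GW
open H19 hiding eq_bot_mono
open H28.NG hiding Hyp Uniq Ch
open H27.MS
open scoped MatrixGroups

universe u

section core
variable {M : Type u} [CommGroup M] [Finite M] {X : Type} [Group X] [Finite X]

def W8 (ρ : X →* MulAut M) : Prop :=
  ∃ W : Subgroup M, #W = 8 ∧ (∀ g, ∀ w ∈ W, ρ g w ∈ W) ∧ ∃ g, ∃ w ∈ W, ρ g w ≠ w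

def St (ρ : X →* MulAut M) (z : M) : Subgroup X := (MulAction.stabilizer (MulAut M) z).comap ρ
theorem mem_St {ρ : X →* MulAut M} {z : M} {g : X} : g ∈ St ρ z ↔ ρ g z = z := Iff.rfl

theorem trf {ρ : X →* MulAut M} {a b a' b' : X} (k : X) (h : ∀ v, ρ a v = v → ρ b v = v) (ea : a' * k = k * a)
    (eb : b' * k = k * b) (v : M) (hv : ρ a' v = v) : ρ b' v = v := by
  obtain ⟨w, rfl⟩ := (ρ k).surjective v
  rw [← MulAut.mul_apply, ← map_mul, ea, map_mul, MulAut.mul_apply] at hv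
  rw [← MulAut.mul_apply, ← map_mul, eb, map_mul, MulAut.mul_apply, h w ((ρ k).injective hv)]

theorem fin7 (ρ : X →* MulAut M) (sq : ∀ v : M, v * v = 1) (cX : Nat.card X = 168) {z : M} {a b x p q r : X}
    (h24 : 24 ∣ #(St ρ z)) (nt : St ρ z ≠ ⊤) (ox : orderOf x = 7) (aa : a * a = 1)
    (h : ∀ v, ρ a v = v → ρ b v = v) (hp : p ∈ St ρ z) (hq : q ∈ St ρ z) (hr : r ∈ St ρ z) (e1 : a = x * p)
    (e2 : b = x ^ 2 * q) (e3 : b * a = x ^ 4 * r) : W8 ρ := by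
  classical
  have cH : #(St ρ z) = 24 := by
    obtain ⟨k, hk⟩ := h24
    have d : 24 * k ∣ 24 * 7 := by rw [← hk]; exact (card_subgroup_dvd_card _).trans cX.dvd
    rcases (Nat.dvd_prime Nat.prime_seven).1 (Nat.dvd_of_mul_dvd_mul_left (by norm_num) d) with rfl | rfl
    · exact hk
    · exact absurd (eq_top_of_card_eq _ (hk.trans cX.symm)) nt
  have cx : #(zpowers x) = 7 := (Nat.card_zpowers x).trans ox
  have cp : IsComplement' (zpowers x) (St ρ z) := isComplement'_of_coprime (by rw [cx, cH, cX])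
    (by rw [cx, cH]; norm_num)
  obtain ⟨Z, hZ⟩ : ∃ Z : ℕ → M, ∀ i, Z i = ρ (x ^ i) z := ⟨_, fun _ => rfl⟩
  have ev : ∀ i, ∀ s ∈ St ρ z, ρ (x ^ i * s) z = Z i := fun i s hs => by
    rw [map_mul, MulAut.mul_apply, mem_St.1 hs, hZ]
  have orb : ∀ g, ∃ i < 7, ρ g z = Z i := fun g => by
    obtain ⟨⟨⟨k, hk⟩, ⟨s, hs⟩⟩, rfl, -⟩ := cp.existsUnique g
    obtain ⟨i, hi, rfl⟩ := Finset.mem_image.1 (mem_zpowers_iff_mem_range_orderOf.1 hk)
    exact ⟨i, ox ▸ Finset.mem_range.1 hi, ev i s hs⟩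
  have inj : ∀ i < 7, ∀ j < 7, Z i = Z j → i = j := fun i hi j hj e => by
    have m : (x ^ i)⁻¹ * x ^ j ∈ St ρ z := by
      rw [mem_St, map_mul, MulAut.mul_apply, ← hZ, ← e, hZ, ← MulAut.mul_apply, ← map_mul, inv_mul_cancel, map_one]
      rfl
    have := disjoint_def.1 cp.disjoint (mul_mem (inv_mem (npow_mem_zpowers x i)) (npow_mem_zpowers x j)) m
    exact pow_injOn_Iio_orderOf (ox ▸ hi) (ox ▸ hj) (inv_mul_eq_one.1 this)
  have sh : ∀ i, ρ x (Z i) = Z (i + 1) := fun i => by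
    rw [hZ, hZ, ← MulAut.mul_apply, ← map_mul, pow_succ']
  have z0 : Z 0 = z := by rw [hZ, pow_zero, map_one]; rfl
  have a1 : ρ a z = Z 1 := by rw [e1, ← ev 1 p hp, pow_one]
  have r4 : Z 2 * Z 4 = z * Z 1 := by
    have := h (z * ρ a z) (by
      rw [map_mul, ← MulAut.mul_apply, ← map_mul, aa, map_one, mul_comm]; rfl)
    rwa [map_mul, ← MulAut.mul_apply, ← map_mul, e3, ev 4 r hr, a1, e2, ev 2 q hq] at this
  have r5 : Z 3 * Z 5 = Z 1 * Z 2 := by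
    have := congrArg (ρ x) r4
    rwa [map_mul, map_mul, sh, sh, sh, ← z0, sh] at this
  have r6 : Z 4 * Z 6 = Z 2 * Z 3 := by
    have := congrArg (ρ x) r5
    rwa [map_mul, map_mul, sh, sh, sh, sh] at this
  have tw : ∀ v w : M, z * v * (z * w) = v * w := fun v w => by
    rw [mul_mul_mul_comm, sq, one_mul]
  let W := closure (Set.range fun g => z * ρ g z)
  have mW : ∀ g, z * ρ g z ∈ W := fun g => subset_closure ⟨g, rfl⟩
  have mZ : ∀ i, z * Z i ∈ W := fun i => hZ i ▸ mW _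
  have le : ∀ A B : Subgroup M, #(A ⊔ B) ≤ #A * #B := fun A B =>
    (Nat.le_mul_of_pos_right _ (card_pos _)).trans (card_sup_mul_inf (by simp [normalizer_eq_top])).le
  have l2 : ∀ v : M, #(zpowers v) ≤ 2 := fun v => by
    rw [Nat.card_zpowers]; exact orderOf_le_of_pow_eq_one two_pos (by rw [pow_two, sq])
  have c8 : #W ≤ 8 := by
    let Y := zpowers (z * Z 1) ⊔ zpowers (z * Z 2) ⊔ zpowers (z * Z 3)
    have y1 : z * Z 1 ∈ Y := mem_sup_left (mem_sup_left (mem_zpowers _))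
    have y2 : z * Z 2 ∈ Y := mem_sup_left (mem_sup_right (mem_zpowers _))
    have y3 : z * Z 3 ∈ Y := mem_sup_right (mem_zpowers _)
    have cn : ∀ {u v w t : M}, z * u ∈ Y → z * w ∈ Y → z * t ∈ Y → u * v = w * t → z * v ∈ Y := fun {u v w t} i j k e => by
      have := mul_mem i (mul_mem j k)
      rwa [tw, ← e, mul_assoc, ← mul_assoc u, sq, one_mul] at this
    have y0 : z * z ∈ Y := sq z ▸ one_mem _
    have y4 := cn y2 y0 y1 r4
    have : W ≤ Y := (closure_le _).2 (by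
      rintro _ ⟨g, rfl⟩
      obtain ⟨i, hi, e⟩ := orb g
      change z * ρ g z ∈ Y
      rw [e]
      interval_cases i
      exacts [z0 ▸ y0, y1, y2, y3, y4, cn y3 y1 y2 r5, cn y4 y2 y3 r6])
    refine (card_le this).trans ((le _ _).trans ?_)
    exact (Nat.mul_le_mul ((le _ _).trans (Nat.mul_le_mul (l2 _) (l2 _))) (l2 _))
  have c7 : 7 ≤ #W := by
    have := Nat.card_le_card_of_injective (fun i : Fin 7 => (⟨z * Z i, mZ i⟩ : W)) fun i j e =>
      Fin.ext (inj _ i.2 _ j.2 (mul_left_cancel (congrArg Subtype.val e)))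
    simpa using this
  have n1 : z * Z 1 ≠ 1 := fun e => absurd (inj 0 (by norm_num) 1 (by norm_num)
    (z0.trans (mul_left_cancel ((sq z).trans e.symm)))) (by norm_num)
  have ev2 : 2 ∣ #W := orderOf_eq_prime (p := 2) (by rw [pow_two, sq]) n1 ▸ W.orderOf_dvd_natCard (mZ 1)
  refine ⟨W, by omega, fun g w hw => ?_, x, _, mZ 1, fun e => ?_⟩
  · refine closure_induction (fun _ ⟨k, e⟩ => ?_) (by simp) (fun _ _ _ _ i j => by rw [map_mul]; exact mul_mem i j)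
      (fun _ _ i => by rw [map_inv]; exact inv_mem i) hw
    rw [← e, map_mul, ← MulAut.mul_apply, ← map_mul, ← tw]
    exact mul_mem (mW _) (mW _)
  · rw [map_mul, sh, ← z0, sh, mul_comm] at e
    exact absurd (inj 2 (by norm_num) 0 (by norm_num) (mul_right_cancel e)) (by norm_num)

abbrev L := SL(3, ZMod 2)
def mk (A : Matrix (Fin 3) (Fin 3) (ZMod 2)) (h : A.det = 1 := by decide +kernel) : L := ⟨A, h⟩
def mz : L := mk !![1,0,1;0,1,0;0,0,1]
def mv : L := mk !![1,1,0;0,1,0;0,0,1]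
def mw : L := mk !![1,0,0;0,1,1;0,0,1]
def cl : List L := [mk !![1,0,0;0,1,0;1,0,1], mk !![1,0,0;1,1,0;1,0,1], mk !![1,0,0;1,0,1;0,1,0], mk !![1,0,0;1,0,1;1,1,0],
  mk !![1,0,0;0,1,0;1,1,1], mk !![1,0,0;1,1,0;0,1,1], mk !![0,1,0;1,0,0;1,0,1], mk !![0,1,0;0,0,1;1,0,0],
  mk !![0,0,1;0,1,0;1,0,0], mk !![0,1,0;0,1,1;1,0,0], mk !![0,1,0;1,0,0;0,0,1], mk !![0,1,0;1,0,0;1,1,1],
  mk !![0,0,1;1,0,0;0,1,0], mk !![0,0,1;1,0,0;1,1,0], mk !![0,1,0;1,0,0;0,1,1], mk !![1,0,0;0,1,0;0,0,1],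
  mk !![1,0,0;1,1,0;0,0,1], mk !![1,0,0;0,0,1;0,1,0], mk !![1,0,0;0,0,1;1,1,0], mk !![1,0,0;1,1,0;1,1,1],
  mk !![1,0,0;0,1,0;0,1,1]]

theorem inv0 : ∀ a b c d e f g h i : ZMod 2, !![a,b,c;d,e,f;g,h,i] * !![a,b,c;d,e,f;g,h,i] = 1 →
    (!![a,b,c;d,e,f;g,h,i] = 1 ∨ ∃ k ∈ cl, !![a,b,c;d,e,f;g,h,i] * k.1 = k.1 * mz.1) ∧
    (!![a,b,c;d,e,f;g,h,i] * mz.1 = mz.1 * !![a,b,c;d,e,f;g,h,i] → ∃ k ∈ [1, mz, mv, mv * mz, mw, mw * mz],
      !![a,b,c;d,e,f;g,h,i] = k.1) := by decide +kernel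

theorem inv1 (a : L) (h : a * a = 1) : (a = 1 ∨ ∃ k, a * k = k * mz) ∧
    (a * mz = mz * a → a ∈ [1, mz, mv, mv * mz, mw, mw * mz]) := by
  have := inv0 (a 0 0) (a 0 1) (a 0 2) (a 1 0) (a 1 1) (a 1 2) (a 2 0) (a 2 1) (a 2 2)
  rw [show !![a 0 0, a 0 1, a 0 2; a 1 0, a 1 1, a 1 2; a 2 0, a 2 1, a 2 2] = a.1 from (Matrix.eta_fin_three a.1).symm]
    at this
  obtain ⟨i, j⟩ := this (congrArg Subtype.val h)
  refine ⟨i.imp (fun e => Subtype.ext e) fun ⟨k, _, e⟩ => ⟨k, Subtype.ext e⟩, fun e => ?_⟩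
  obtain ⟨k, m, e⟩ := j (congrArg Subtype.val e)
  exact (Subtype.ext e : a = k) ▸ m

theorem pU : H19.PG 2 (zpowers (mv * mw) ⊔ zpowers mv) := by
  have o : ∀ x : L, x ^ 2 ^ 2 = 1 → H19.PG 2 (zpowers x) := fun x h => piG_zpowers.2 fun q hq d =>
    (Nat.prime_dvd_prime_iff_eq hq Nat.prime_two).1 (hq.dvd_of_dvd_pow (d.trans (orderOf_dvd_of_pow_eq_one h)))
  refine PiN.sup (o _ (by decide +kernel)) (o _ (by decide +kernel)) (zpowers_le.2 (mem_norm_of_cj_le ?_))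
  rw [cj_zpowers, show mv * (mv * mw) * mv⁻¹ = (mv * mw) ^ 3 from mul_inv_eq_of_eq_mul (by decide +kernel)]
  exact zpowers_le.2 (npow_mem_zpowers _ _)
theorem vU : mv ∈ zpowers (mv * mw) ⊔ zpowers mv := mem_sup_right (mem_zpowers _)
theorem wU : mw ∈ zpowers (mv * mw) ⊔ zpowers mv := (mul_mem_cancel_left vU).1 (mem_sup_left (mem_zpowers _))

theorem le4 {B : Subgroup L} (h : Abelem 2 B) : #B ≤ 4 := by
  obtain ⟨k, hk⟩ := (ab_pg h).exists_pow (card_pos _).ne'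
  have i := card_mul_relIndex (le_top : B ≤ ⊤)
  rw [card_top, H11.card_sl3_two, hk] at i
  have k3 : k < 4 := by
    by_contra n
    obtain ⟨j, rfl⟩ := Nat.exists_eq_add_of_le (not_lt.1 n)
    rw [pow_add, mul_assoc] at i
    omega
  interval_cases k <;> try omega
  obtain ⟨g, -, l⟩ := ((syl_iff Nat.prime_two).2 ⟨le_top, ab_pg h, by omega⟩).sle_cj le_top pU
  exact absurd (mul_comm_of_comm (abelem_J h g).1 (l vU) (l wU)) (by decide +kernel)

theorem core (ρ : L →* MulAut M) (sq : ∀ v : M, v * v = 1) {S : Subgroup L} (hS : Syl 2 S ⊤) {z : M}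
    (hz : S ≤ St ρ z) (nz : St ρ z ≠ ⊤) {a b : L} (aa : a * a = 1) (bb : b * b = 1) (ab : b * a = a * b)
    (a1 : a ≠ 1) (b1 : b ≠ 1) (ba : b ≠ a) (h : ∀ v, ρ a v = v → ρ b v = v) : W8 ρ := by
  obtain ⟨k, hk⟩ := (inv1 a aa).1.resolve_left a1
  obtain rfl : a = k * mz * k⁻¹ := eq_mul_inv_of_mul_eq hk
  obtain ⟨c, rfl⟩ : ∃ c, b = k * c * k⁻¹ := ⟨k⁻¹ * b * k, by group⟩
  have h' := trf k⁻¹ h (a' := mz) (b' := c) (by group) (by group)
  have hc := (inv1 c (conj_eq_one_iff.1 (conj_mul.symm.trans bb))).2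
    (conj_injective (conj_mul.symm.trans (ab.trans conj_mul)))
  obtain ⟨g, -, l⟩ := hS.sle_cj le_top pU
  have l' : cj g S ≤ St ρ (ρ g z) := fun s hs => by
    obtain ⟨t, ht, rfl⟩ := mem_cj'.1 hs
    rw [mem_St, ← MulAut.mul_apply, ← map_mul, inv_mul_cancel_right, map_mul, MulAut.mul_apply, mem_St.1 (hz ht)]
  have nt : St ρ (ρ g z) ≠ ⊤ := fun e => nz (eq_top_iff.2 fun s _ => (ρ g).injective (by
    have := mem_St.1 (e.ge (mem_top (g * s * g⁻¹)))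
    rwa [← MulAut.mul_apply, ← map_mul, inv_mul_cancel_right, map_mul] at this))
  have c8 : 8 ∣ #(St ρ (ρ g z)) := by
    refine Dvd.dvd.trans ?_ (card_dvd l')
    have i := card_mul_relIndex (le_top : S ≤ ⊤)
    rw [card_top, H11.card_sl3_two] at i
    rw [card_cj]
    refine Nat.Coprime.dvd_of_dvd_mul_right (k := 2 ^ 3) (Nat.Coprime.pow_left 3
      ((Nat.Prime.coprime_iff_not_dvd Nat.prime_two).2 (hS.not_dvd Nat.prime_two))) (by rw [i]; norm_num)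
  have hv := l' (l vU)
  have hw := l' (l wU)
  have c24 : ∀ t ∈ St ρ (ρ g z), t ^ 3 = 1 → t ≠ 1 → 24 ∣ #(St ρ (ρ g z)) := fun t m i j =>
    Nat.Coprime.mul_dvd_of_dvd_of_dvd (m := 8) (n := 3) (by norm_num) c8
      ((orderOf_eq_prime (hp := ⟨Nat.prime_three⟩) i j).symm.dvd.trans (Subgroup.orderOf_dvd_natCard _ m))
  have o7 : ∀ t : L, t ^ 7 = 1 → t ≠ 1 → orderOf t = 7 := fun t => orderOf_eq_prime (hp := ⟨Nat.prime_seven⟩)
  have dz : ∀ c', (∀ v, ρ mz v = v → ρ (c' * mz) v = v) → ∀ v, ρ mz v = v → ρ c' v = v := fun c' i v j => by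
    have := i v j
    rwa [map_mul, MulAut.mul_apply, j] at this
  have : (∀ v, ρ mz v = v → ρ mv v = v) ∨ ∀ v, ρ mz v = v → ρ mw v = v := by
    simp only [List.mem_cons, List.not_mem_nil, or_false] at hc
    rcases hc with rfl | rfl | rfl | rfl | rfl | rfl
    exacts [absurd (by simp) b1, absurd rfl ba, .inl h', .inl (dz _ h'), .inr h', .inr (dz _ h')]
  let k := mk !![1,0,0;0,1,0;1,0,1]
  rcases this with i | i
  · have hm : mk !![1,0,0;1,1,0;0,0,1] ∈ St ρ (ρ g z) :=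
      trf (mk !![0,1,0;1,0,0;0,0,1]) i (by decide +kernel) (by decide +kernel) _ hw
    exact fin7 ρ sq H11.card_sl3_two (c24 _ (mul_mem hv hm) (by decide +kernel) (by decide +kernel)) nt
      (o7 (mk !![0,0,1;0,1,1;1,1,1]) (by decide +kernel) (by decide +kernel)) (a := k * mz * k) (b := k * mv * k)
      (by decide +kernel) (trf k i (by decide +kernel) (by decide +kernel)) (mul_mem hw hv)
      (mul_mem (mul_mem (mul_mem hw hv) hm) hv) (mul_mem (mul_mem (mul_mem hm hv) hw) hv)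
      (by decide +kernel) (by decide +kernel) (by decide +kernel)
  · have hm : mk !![1,0,0;0,1,0;0,1,1] ∈ St ρ (ρ g z) :=
      trf (mk !![1,0,0;0,0,1;0,1,0]) i (by decide +kernel) (by decide +kernel) _ hv
    exact fin7 ρ sq H11.card_sl3_two (c24 _ (mul_mem hw hm) (by decide +kernel) (by decide +kernel)) nt
      (o7 (mk !![0,0,1;0,1,1;1,1,0]) (by decide +kernel) (by decide +kernel)) (a := k * mz * k) (b := k * mw * k)
      (by decide +kernel) (trf k i (by decide +kernel) (by decide +kernel)) (mul_mem hv hw)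
      (mul_mem (mul_mem (mul_mem hv hw) hm) hw) (mul_mem (mul_mem (mul_mem hm hw) hv) hw)
      (by decide +kernel) (by decide +kernel) (by decide +kernel)
end core

theorem ff (mb1 : MB1.{u}) : FF.{u} := by
  intro G _ _ N Q T V A h ⟨π, hπ, kπ⟩ s hV hA AN nq c
  by_cases tv : ∃ a ∈ A, a ∉ Q ∧ Eb ⊥ V a 1
  · obtain ⟨a, a1, a2, a3⟩ := tv
    obtain ⟨-, i, j⟩ := mb1 h s (AN a1) a2 a3
    exact ⟨_, s.ea.br_le s.nV, by rw [j, card_bot], i⟩
  have ab : Abelem 2 V := ⟨comm_iff_der.2 (le_bot_iff.1 s.ea.ab), fun v hv => pow_two v ▸ s.ea.sq v hv⟩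
  have QV : Q ≤ C(V) := Cm_bot (W := V) ▸ s.cq
  have big : ∀ a ∈ A, a ∉ Q → 2 * #(V ⊓ C[a]) < #V := fun a a1 a2 => not_le.1 fun k => tv ⟨a, a1, a2, by
    rwa [Eb, Cm_bot, cent_zpowers]⟩
  have cA : #(im π A) * #(A ⊓ Q) = #A := by
    have := H1.card_map_mul_card_inf_ker π (A.subgroupOf N)
    rw [show π.ker ⊓ A.subgroupOf N = (A ⊓ Q).subgroupOf N from Subgroup.ext fun x => by
      simp only [mem_inf, MonoidHom.mem_ker, mem_subgroupOf, kπ, and_comm], card_subgroupOf, card_subgroupOf,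
      inf_eq_left.2 AN, inf_eq_left.2 (inf_le_left.trans AN)] at this
    exact this
  have c' : #V ≤ #(im π A) * #(V ⊓ C(A)) := Nat.le_of_mul_le_mul_right (c.trans (by rw [← cA]; ring_nf; rfl))
    (card_pos (A ⊓ Q))
  have b4 := le4 (abelem_im hA π)
  obtain ⟨a, a1, a2⟩ := SetLike.not_le_iff_exists.1 nq
  have l : V ⊓ C(A) ≤ V ⊓ C[a] := inf_le_inf_left _ (cent_le_cent1 a1)
  have ba := big a a1 a2
  have e : V ⊓ C(A) = V ⊓ C[a] := by_contra fun n => by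
    have := pg_lt_card ((ab_pg ab).of_le inf_le_left) (l.lt_of_ne n)
    have := c'.trans (Nat.mul_le_mul_right _ b4)
    omega
  have aa : π ⟨a, AN a1⟩ * π ⟨a, AN a1⟩ = 1 := sq_one (abelem_im hA π) (mem_im_of a1)
  obtain ⟨_, ⟨b, b1, rfl⟩, b2⟩ : ∃ y ∈ im π A, y ∉ zpowers (π ⟨a, AN a1⟩) := SetLike.not_le_iff_exists.1 fun k => by
    have := (card_le k).trans ((Nat.card_zpowers _).le.trans (orderOf_le_of_pow_eq_one two_pos ((pow_two _).trans aa)))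
    have := c'.trans (Nat.mul_le_mul_right _ this)
    rw [e] at this
    omega
  letI : CommGroup V := { (inferInstance : Group V) with mul_comm := fun x y => Subtype.ext (mul_comm_of_comm ab.1 x.2 y.2) }
  let ρ : L →* MulAut V := π.liftOfSurjective hπ ⟨H2.conjAut s.nV, fun x hx => MulEquiv.ext fun v => Subtype.ext
    (mul_inv_eq_of_eq_mul (mem_cent.1 (QV ((kπ x).1 hx)) v v.2).symm)⟩
  have hρ : ∀ x v, ((ρ (π x) v : V) : G) = x * v * (x : G)⁻¹ := fun x v => by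
    rw [show ρ (π x) = H2.conjAut s.nV x from MonoidHom.liftOfRightInverse_comp_apply _ _ _ _ x]; rfl
  have fx : ∀ (x : N) (v : V), ρ (π x) v = v ↔ (v : G) ∈ C[(x : G)] := fun x v => by
    rw [Subtype.ext_iff, hρ, mul_inv_eq_iff_eq_mul, mem_cent1, eq_comm]
  obtain ⟨z, ⟨z1, z2⟩, z3⟩ : ∃ z ∈ V ⊓ C(T), z ∉ C(N) := SetLike.not_le_iff_exists.1 fun k =>
    s.nc (Cm_bot (W := V) ▸ cents_symm (hV.trans (Kc_cents k le_normalizer)))
  have sy : Syl 2 (im π T) ⊤ := by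
    have := h.syl.im le_rfl π
    rwa [show im π N = ⊤ by rw [im, subgroupOf_self, map_top_of_surjective _ hπ]] at this
  obtain ⟨W, w8, wn, g, w, w1, w2⟩ := core ρ (fun v => Subtype.ext (sq_one ab v.2)) sy (z := ⟨z, z1⟩)
    (by rintro _ ⟨t, ht, rfl⟩; exact (fx t _).2 (cent_le_cent1 (H := T) ht z2))
    (fun k => z3 (mem_cent.2 fun x hx => (mem_cent1.1 ((fx ⟨x, hx⟩ ⟨z, z1⟩).1 (k.ge (mem_top _)))).symm))
    aa (sq_one (abelem_im hA π) (mem_im_of b1))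
    (mul_comm_of_comm (abelem_im hA π).1 (mem_im_of b1) (mem_im_of a1)) (fun k => a2 ((kπ _).1 k))
    (fun k => b2 (k ▸ one_mem _)) (fun k => b2 (k ▸ mem_zpowers _))
    fun v k => (fx b v).2 (cent_le_cent1 (H := A) b1 (e.ge ⟨v.2, (fx _ v).1 k⟩).2)
  have WV : W.map V.subtype ≤ V := map_subtype_le _
  refine ⟨_, WV, (card_map_of_injective V.subtype_injective).trans w8, ea_bot (abelem_mono ab WV),
    fun x hx => mem_norm_of_cj_le fun y hy => ?_, s.n0, s.cq.trans (Cm_anti WV), fun k => w2 ?_⟩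
  · obtain ⟨_, ⟨v, hv, rfl⟩, rfl⟩ := mem_cj'.1 hy
    exact ⟨_, wn (π ⟨x, hx⟩) v hv, hρ _ _⟩
  · obtain ⟨x, rfl⟩ := hπ g
    rw [Cm_bot] at k
    exact (fx x w).2 (mem_cent1.2 (mem_cent.1 (k x.2) _ ⟨w, w1, rfl⟩))

end H13.MS
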