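import Cfsg.Agent.H27.MS3

/-! S5899, part 3, the case `C(p) ≤ N` (`V` is a TI-subgroup): interface. Sketches: `notes/h13_TI.md`. -/

set_option autoImplicit false
set_option linter.unusedVariables false

namespace H13.MS
open Cfsg Subgroup H18 H17.GS H28.S H2.GW
open H19 hiding eq_bot_mono
open H28.NG hiding Hyp Uniq Ch
open H27.MS

universe u
variable {G : Type u} [Group G]

structure Ti (N Q T V : Subgroup G) (p : G) : Prop extends Bd N Q T V where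
  pV : p ∈ V
  p1 : p ≠ 1
  pT : T ≤ C[p]
  cp : C[p] ≤ N

/-- `Z = ⟨p ^ N(Z)⟩`, `T ≤ N(Z) ≰ N` -/
structure Zh (N T Z : Subgroup G) (p : G) : Prop where
  ab : Abelem 2 Z
  eZ : Z = Kc (zpowers p) N(Z)
  TN : T ≤ N(Z)
  nN : ¬ N(Z) ≤ N

def TA : Prop := ∀ {G : Type u} [Group G] [Finite G] {N Q T V : Subgroup G} {p : G}, Ti N Q T V p →
  (∀ g, ∀ v ∈ cj g V, v ≠ 1 → C[v] ≤ N(cj g V)) ∧ (∀ g h, cj g V ≤ N(cj h V) → cj g V ≤ C(cj h V))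
def TN : Prop := ∀ {G : Type u} [Group G] [Finite G] {N Q T V : Subgroup G} {p : G}, Ti N Q T V p → N(T) ≤ T
def RK : Prop := ∀ {G : Type u} [Group G] [Finite G] {H D T A : Subgroup G}, Fr H D T → N(T) ≤ T → Abelem 2 A →
  A ≤ T → #A ≤ 4 * #(A ⊓ D)
def TZ : Prop := ∀ {G : Type u} [Group G] [Finite G] {N Q T V R : Subgroup G} {p : G}, Ti N Q T V p → R ≠ ⊥ →
  H19.PG 2 R → T ≤ N(R) → ¬ N(R) ≤ N → ∃ Z, Zh N T Z p ∧ N(R) ≤ N(Z)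
def TB : Prop := ∀ {G : Type u} [Group G] [Finite G] {N Q T V Z : Subgroup G} {p : G}, Ti N Q T V p →
  Zh N T Z p → ∃ g, cj g V ≤ T ∧ ¬ cj g V ≤ C(Z)
def TC : Prop := ∀ {G : Type u} [Group G] [Finite G] {N Q T V Z : Subgroup G} {p g : G}, Ti N Q T V p →
  Zh N T Z p → cj g V ≤ T → cj g V ⊓ C(Z) ≠ ⊥
def TD : Prop := ∀ {G : Type u} [Group G] [Finite G] {N Q T V Z : Subgroup G} {p : G}, Ti N Q T V p →
  Zh N T Z p → ¬ V ≤ C(Z)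
def TE : Prop := ∀ {G : Type u} [Group G] [Finite G] {N Q T V Z : Subgroup G} {p : G}, Ti N Q T V p →
  Zh N T Z p → ¬ V ≤ C(Z) → ⁅V, Z⁆ ≤ zpowers p ∧ ⁅V, T⁆ ≤ C(Z) ∧ ¬ N ⊓ C[p] ≤ N(Z) ∧ ∃ t ∈ T, t ∉ Q ∧ t * t = 1
def TS : Prop := ∀ {G : Type u} [Group G] [Finite G] {N Q T V Z : Subgroup G} {p : G}, Ti N Q T V p →
  Zh N T Z p → ¬ V ≤ C(Z) → ⁅V, Z⁆ ≤ zpowers p → Sol N(Z)
def TF : Prop := ∀ {G : Type u} [Group G] [Finite G] {N Q T V Z : Subgroup G} {p : G}, Ti N Q T V p →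
  Zh N T Z p → ¬ V ≤ C(Z) → ⁅V, Z⁆ ≤ zpowers p → ⁅V, T⁆ ≤ C(Z) → ¬ N ⊓ C[p] ≤ N(Z) → Sol N(Z) →
  ∃ H, T ≤ H ∧ ¬ H ≤ N ∧ #H = 3 * #T ∧ (Oc {2} H).relIndex T = 2
def TG : Prop := ∀ {G : Type u} [Group G] [Finite G] {N Q T V H : Subgroup G} {p t : G}, Ti N Q T V p →
  t ∈ T → t ∉ Q → t * t = 1 → T ≤ H → ¬ H ≤ N → #H = 3 * #T → (Oc {2} H).relIndex T = 2 →
  ∃ R, R ≠ ⊥ ∧ H19.PG 2 R ∧ H ≤ N(R) ∧ N ⊓ C[p] ≤ N(R)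
/-- the case `C(p) ≤ N` -/
def TIc : Prop := ∀ {G : Type u} [Group G] [Finite G] {N Q T V : Subgroup G} {p : G}, Bd N Q T V → p ∈ V → p ≠ 1 →
  ¬ C[p] ≤ N

end H13.MS
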