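import Cfsg.Agent.H13.MS1
import Cfsg.Agent.H13.MS2
import Cfsg.Agent.H12.MS0
import Cfsg.Agent.H17.MS4
import Cfsg.Agent.H17.MS1

/-! S5899, part 3, the case `C(p) ≤ N`: chunks `TA TN TC TD` and the glue. -/

set_option autoImplicit false
set_option linter.unusedVariables false

namespace H13.MS
open Cfsg Subgroup H18 H17.GS H28.S H2.GW
open H19 hiding eq_bot_mono
open H28.NG hiding Hyp Uniq Ch
open H29.PU (bm bm_le nrm_bm)
open H27.MS H12.MS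
open H17.MS (bdJ bdVQ bdne bdnV bdcV)

universe u
variable {G : Type u} [Group G] [Finite G] {N Q T V Z A : Subgroup G} {p : G}

theorem rk4 (h : Fr N Q T) (l : L7 N Q) (hA : Abelem 2 A) (AN : A ≤ N) : #A ≤ 4 * #(A ⊓ Q) := by
  obtain ⟨π, hπ, kπ⟩ := l
  have cA : #(im π A) * #(A ⊓ Q) = #A := by
    have := H1.card_map_mul_card_inf_ker π (A.subgroupOf N)
    rw [show π.ker ⊓ A.subgroupOf N = (A ⊓ Q).subgroupOf N from Subgroup.ext fun x => by
      simp only [mem_inf, MonoidHom.mem_ker, mem_subgroupOf, kπ, and_comm], card_subgroupOf, card_subgroupOf,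
      inf_eq_left.2 AN, inf_eq_left.2 (inf_le_left.trans AN)] at this
    exact this
  exact cA ▸ Nat.mul_le_mul_right _ (le4 (abelem_im hA π))

theorem ta (bk : BK.{u}) (ic : IC.{u}) : TA.{u} := fun {G} _ _ {N Q T V p} h => by
  have b := h.toBd
  obtain ⟨l7, ab, -, cV, nV, -, tr, -⟩ := bk b
  have k1 : ∀ g, ∀ v ∈ cj g V, v ≠ 1 → C[v] ≤ N(cj g V) := fun g v hv v0 => by
    obtain ⟨w, hw, rfl⟩ := mem_cj'.1 hv
    obtain ⟨n, hn, rfl⟩ := tr p h.pV w hw h.p1 (mt conj_eq_one_iff.2 v0)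
    rw [← cj_norm, ← cj_cent1, ← cj_cent1, nV]
    exact cj_mono g ((cj_mono n h.cp).trans (cj_of_mem_norm (le_normalizer hn)).le)
  have k2 : ∀ g, cj g V ≤ N → cj g V ≤ Q := fun g l => by
    have c := rk4 b.toFr l7 (abelem_J ab g) l
    rw [card_cj, b.c8] at c
    obtain ⟨a, ⟨a1, a2⟩, a0⟩ := exists_ne_one (ne_bot_iff_one_lt_card.2 (by omega : 1 < #(cj g V ⊓ Q)))
    have n : V ≤ N(cj g V) := (le_cent1_iff.2 (cV.ge a2)).trans (k1 g a a1 a0)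
    by_contra k
    exact k (ic b (bdJ b g) (ne_bot_mono (commg_le_inf (nV ▸ l) n) fun e =>
      k (cV ▸ cents_symm (commutator_eq_bot_iff_le_centralizer.1 e))))
  refine ⟨k1, fun g k l => ?_⟩
  have e : cj g V = cj k (cj (k⁻¹ * g) V) := by rw [← cj_mul]; congr 1; group
  rw [e, ← cj_norm, cj_le_cj, nV] at l
  rw [e, ← cj_cent, cV]
  exact cj_mono k (k2 _ l)

theorem Ti.zp (h : Ti N Q T V p) (bk : BK.{u}) : V ⊓ C(T) = zpowers p := by
  obtain ⟨-, ab, -, -, -, c, -⟩ := bk h.toBd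
  exact (eq_of_le_of_card_eq (zpowers_le' (mem_inf.2 ⟨h.pV, le_cent1_iff.1 h.pT⟩))
    ((card_zp (sq_one ab h.pV) h.p1).trans c.symm)).symm

theorem tn (bk : BK.{u}) (nr : NR.{u}) : TN.{u} := fun {G} _ _ {N Q T V p} h => by
  have b := h.toBd
  have f := b.toFr
  obtain ⟨l7, ab, -, -, nV, -, -, -, pt⟩ := bk b
  obtain ⟨P, R, t⟩ := pt p h.pV h.p1
  have n := (nr b).2 T f.syl.pi f.le f.TN
  have cT := (H17.MS.l7 f l7).1
  have l : N(T) ≤ P := t.eP ▸ le_inf n fun x hx => mem_cent1_symm.1 (by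
    have := cent_of_two (W := zpowers p) (card_zp (sq_one ab h.pV) h.p1).le
      (h.zp bk ▸ norms_inf (n.trans nV.ge) (norms_cent le_rfl) hx)
    exact le_cent1_iff.2 this (mem_zpowers p))
  have q := card_pos Q
  have cP : #P = #T * 3 := by rw [t.cP, t.cR, cT]; ring
  obtain ⟨m, hm⟩ := card_dvd_of_le (le_normalizer (H := T))
  obtain ⟨k, hk⟩ := card_dvd_of_le l
  have e : m * k = 3 := Nat.eq_of_mul_eq_mul_left (card_pos T) (by rw [← cP, hk, hm]; ring)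
  rcases (Nat.dvd_prime Nat.prime_three).1 (Dvd.intro k e) with rfl | rfl
  · exact (eq_of_le_of_card_eq le_normalizer (by omega)).ge
  · have e' := eq_of_le_of_card_eq l (hm.trans cP.symm)
    have := card_le (t.eR ▸ le_Oc ⟨e' ▸ le_normalizer, e'.ge⟩ f.syl.pi : T ≤ R)
    have := t.cR
    omega

theorem Zh.pZ (z : Zh N T Z p) : p ∈ Z := z.eZ.ge (le_Kc (mem_zpowers p))

theorem Zh.ne (z : Zh N T Z p) (h : p ≠ 1) : Z ≠ ⊥ := ne_bot_of_mem z.pZ h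

theorem Zh.mo (z : Zh N T Z p) (s : Syl 2 T ⊤) (pT : T ≤ C[p]) (hs : Sol N(Z)) : ∃ F, Mo Z F :=
  exists_Mo z.ab hs fun K a q => z.eZ ▸ cents_symm (Kc_cents (cents_symm (by
    rw [← O2r_sup_syl ((s.of_le z.TN le_top).inf_normal (K := K) a)]
    exact sup_le ((O2r_le_iff.2 q).trans (cent_mono (zpowers_le' z.pZ))) (inf_le_left.trans (cent_zpowers p ▸ pT))))
    a.norm)

theorem Zh.oc (z : Zh N T Z p) (s : Syl 2 T ⊤) (pT : T ≤ C[p]) : Oc {2} N(Z) ≤ C(Z) := by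
  have := Kc_cents (cents_symm ((Oc_le_hall (s.of_le z.TN le_top)).trans (cent_zpowers p ▸ pT))) (Oc_norm {2} N(Z))
  exact cents_symm (z.eZ.le.trans this)

theorem tc (bk : BK.{u}) (lc : LC.{u}) (nr : NR.{u}) (rk : RK.{u}) (ta : TA.{u}) (tn : TN.{u}) : TC.{u} :=
    fun {G} _ _ {N Q T V Z p g} h z l e => by
  have b := h.toBd
  have ab := abelem_J (bk b).2.1 g
  have c8 := (card_cj g V).trans b.c8
  have s := (nr b).1
  have n := l.trans z.TN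
  by_cases hs : Sol N(Z)
  · obtain ⟨F, m⟩ := z.mo s h.pT hs
    obtain ⟨w, w1, w0⟩ := exists_ne_one (ne_bot_iff_one_lt_card.2 (by omega : 1 < #(cj g V)))
    obtain ⟨H, h1, -, -, h4⟩ := m.q4w n ab w1 fun k => w0 (mem_bot.1 (e.le ⟨w1, k⟩))
    have c := h1.card
    obtain ⟨a, a1, a0⟩ := exists_ne_one (ne_bot_iff_one_lt_card.2 (by omega : 1 < #H))
    have i : Z ⊓ C(H) ≤ N(cj g V) := (inf_le_right.trans (cent_le_cent1 a1)).trans ((ta h).1 g a (h1.le a1) a0)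
    refine h4 (commutator_eq_bot_iff_le_centralizer.1 (le_bot_iff.1 (e ▸ le_inf (commg_le_right i)
      (((commutator_mono inf_le_left le_rfl).trans (commg_le_left n)).trans (ab_cent z.ab)))))
  · obtain ⟨c, -⟩ := lc b.hy (z.ne h.p1) (ab_pg z.ab) le_rfl hs (s.of_le z.TN le_top)
    have := rk c.toFr (tn h) ab l
    rw [le_bot_iff.1 ((inf_le_inf_left _ (z.oc s h.pT)).trans e.le), card_bot] at this
    omega

theorem td (bk : BK.{u}) (ta : TA.{u}) (tb : TB.{u}) (tc : TC.{u}) : TD.{u} := fun {G} _ _ {N Q T V Z p} h z vk => by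
  have b := h.toBd
  obtain ⟨g, l, n⟩ := tb h z
  obtain ⟨t1, t2⟩ := ta h
  obtain ⟨c, ⟨c1, c2⟩, c0⟩ := exists_ne_one (tc h z l)
  have zn : Z ≤ N(cj g V) := (le_cent1_iff.2 c2).trans (t1 g c c1 c0)
  obtain ⟨k, k1, k2⟩ : ∃ k ∈ N(Z), ¬ cj k (zpowers p) ≤ C(cj g V) := by
    by_contra! j
    exact n (cents_symm (z.eZ.le.trans (Kc_le_of_cj j)))
  have e : cj g V = cj k (cj (k⁻¹ * g) V) := by rw [← cj_mul]; congr 1; group
  rw [e, ← cj_cent, cj_le_cj] at k2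
  have zn' : Z ≤ N(cj (k⁻¹ * g) V) := by
    rwa [e, ← cj_norm, ← cj_of_mem_norm k1, cj_le_cj] at zn
  have an : cj (k⁻¹ * g) V ≤ N(Z) := by
    have := l.trans z.TN
    rwa [e, ← cj_of_mem_norm k1, ← cj_norm, cj_le_cj] at this
  generalize k⁻¹ * g = x at k2 zn' an
  obtain ⟨a, a1, a2⟩ := SetLike.not_le_iff_exists.1 (mt cents_symm k2)
  rw [cent_zpowers] at a2
  have i : cj a V ≤ C(V) := by
    have := t2 a 1 (by
      rw [cj_one, bdnV b]
      exact (((cj_mono a vk).trans (cj_of_mem_norm (norms_cent le_rfl (an a1))).le).trans (cent_le_cent1 z.pZ)).trans h.cp)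
    rwa [cj_one] at this
  have y1 : a * p * a⁻¹ * p⁻¹ ∈ C(V) := mul_mem (i (conj_mem_cj.2 h.pV)) (inv_mem (ab_cent (bk b).2.1 h.pV))
  have y2 : a * p * a⁻¹ * p⁻¹ ∈ cj x V := by
    have := mul_mem a1 (conj_mem_of_norm (zn' z.pZ) (inv_mem a1))
    simpa only [mul_assoc] using this
  have j := t2 1 x (by
    rw [cj_one]
    exact (le_cent1_iff.2 y1).trans (t1 x _ y2 fun k => a2 (mem_cent1_conj.2 (mul_inv_eq_one.1 k))))
  rw [cj_one] at j
  exact k2 (zpowers_le' (j h.pV))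

theorem tic (nr : NR.{u}) (tz : TZ.{u}) (td : TD.{u}) (te : TE.{u}) (ts : TS.{u}) (tf : TF.{u}) (tg : TG.{u})
    (bk : BK.{u}) : TIc.{u} := fun {G} _ _ {N Q T₀ V p} b₀ pV p1 cp => by
  obtain ⟨l7, ab, -, -, -, -, -, -, pt⟩ := bk b₀
  obtain ⟨P, R, t⟩ := pt p pV p1
  obtain ⟨T, s⟩ := exists_syl 2 P
  have PN : P ≤ N := t.eP ▸ inf_le_left
  have s' : Syl 2 T N := by
    have c := H17.MS.Iso.card l7 b₀.nq.le
    rw [H11.card_sl3_two] at c
    have c1 := t.cP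
    have c2 := t.cR
    have c3 := card_mul_relIndex PN
    have q := card_pos Q
    have : P.relIndex N = 7 := Nat.eq_of_mul_eq_mul_left (card_pos P) (by omega)
    exact s.of_idx PN (this ▸ odd_iff_pi.1 (by decide))
  have b : Bd N Q T V := ⟨b₀.toLc.syl' s', b₀.sec, b₀.c8⟩
  have h : Ti N Q T V p := ⟨b, pV, p1, s.le.trans (t.eP ▸ inf_le_right), cp⟩
  have sy := (nr b).1
  have pz : p ∈ Zs T := abelem_le_Ohm1 (abelem_zp (sq_one ab pV))
    (zpowers_le' (mem_inf.2 ⟨b.toFr.le (bdVQ b pV), le_cent1_iff.1 h.pT⟩)) (mem_zpowers p)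
  obtain ⟨R₀, r0, r1, r2, r3⟩ : ∃ R, R ≠ ⊥ ∧ R ≤ bm 2 T ∧ N(bm 2 T) ≤ N(R) ∧ ¬ N(R) ≤ N := by
    by_contra! k
    exact b.hy.ntop (bdne b) (ab_pg ab) ((bdnV b).trans (b.hy.cs T N sy ((cent_le_cent1 pz).trans cp) k))
  obtain ⟨Z, z, -⟩ := tz h r0 (sy.pi.of_le (r1.trans bm_le)) ((nrm_bm le_normalizer).trans r2) r3
  have d := td h z
  obtain ⟨e1, e2, e3, x, x1, x2, x3⟩ := te h z d
  obtain ⟨H, h1, h2, h3, h4⟩ := tf h z d e1 e2 e3 (ts h z d e1)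
  obtain ⟨R₁, a0, a1, a2, a3⟩ := tg h x1 x2 x3 h1 h2 h3 h4
  obtain ⟨Z₁, z₁, k⟩ := tz h a0 a1 (h1.trans a2) fun j => h2 (a2.trans j)
  exact (te h z₁ (td h z₁)).2.2.1 (a3.trans k)

end H13.MS
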