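import Cfsg.Agent.H27.MS3
import Cfsg.Agent.H12.MS0

/-! S5899, part 3: if there is no bad local subgroup then `I3` holds. -/

set_option autoImplicit false
set_option linter.unusedVariables false

namespace H13.MS
open Cfsg Subgroup H18 H17.GS H28.S H2.GW
open H19 hiding eq_bot_mono
open H28.NG hiding Hyp Uniq Ch
open H27.MS H12.MS

universe u
variable {G : Type u} [Group G] [Finite G] {N K L : Subgroup G} {p : ℕ}

theorem modC (hB : H19.PG p L) (hl : p.Prime) (hn : L ≤ N(K)) : #K ≡ #(K ⊓ C(L)) [MOD p] := by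
  have := Fact.mk hl
  let _ : MulAction L K := MulAction.compHom K (K.normalizerMonoidHom.comp (inclusion hn))
  have h1 := hB.isPGroup.card_modEq_card_fixedPoints K
  have : MulAction.fixedPoints L K = (C(L).subgroupOf K : Set K) := by
    ext x
    exact ⟨fun hx => mem_cent.2 fun b hb =>
      mul_inv_eq_iff_eq_mul.1 (congrArg Subtype.val (hx ⟨b, hb⟩)), fun hx b =>
      Subtype.ext (mul_inv_eq_iff_eq_mul.2 (mem_cent.1 hx b b.2))⟩
  rwa [this, SetLike.coe_sort_coe, card_subgroupOf, inf_comm] at h1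

theorem ex5 (h : ¬ Sol N) : ∃ r, r.Prime ∧ 5 ≤ r ∧ r ∣ #N := by
  by_contra! k
  refine h (H5.isSolvable_of_card_dvd_prime_pow_mul (a := #N) (b := #N) Nat.prime_two Nat.prime_three
    ((Nat.dvd_iff_prime_pow_dvd_dvd _ _).2 fun q j hq hj => ?_))
  rcases j with _ | j
  · simp
  have l : j + 1 ≤ #N := (Nat.lt_pow_self hq.one_lt).le.trans (Nat.le_of_dvd (card_pos N) hj)
  have : q < 5 := not_le.1 fun i => k q hq i ((dvd_pow_self q j.succ_ne_zero).trans hj)
  have := hq.two_le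
  interval_cases q
  exacts [(pow_dvd_pow 2 l).mul_right _, (pow_dvd_pow 3 l).mul_left _, absurd hq (by decide)]

theorem i3 (lc : LC.{u}) (nb : ∀ N Q T V : Subgroup G, ¬ Bd N Q T V) (h : Hy G) : I3 G := fun U ab c8 => by
  by_contra! k
  obtain ⟨k1, k2⟩ := k
  have u0 : U ≠ ⊥ := fun e => by simp [e] at c8
  obtain ⟨T, s⟩ := exists_syl 2 N(U)
  obtain ⟨l, -⟩ := lc h u0 (ab_pg ab) le_rfl k2 s
  refine nb _ _ _ _ ⟨l, sec_bot ab le_rfl (cents_symm (by_contra fun n => ?_)) k1, c8⟩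
  have ker : N(U) ⊓ C(U) ≤ Oc {2} N(U) := (l.smp _ (inf_normal_of_norm' (norms_cent le_rfl))).resolve_right
    fun e => k1 (e.ge.trans inf_le_right)
  obtain ⟨r, hr, r5, rd⟩ := ex5 k2
  obtain ⟨x, x1, ox⟩ := exists_orderOf_eq_prime hr rd
  have := Fact.mk hr
  have px : H19.PG r (zpowers x) := pG_iff.2 (.of_card (n := 1) ((Nat.card_zpowers _).trans (ox.trans (pow_one r).symm)))
  have x0 := ne_bot_iff_one_lt_card.1 ((ab_pg ab).meet_cent l.pg l.nq.le u0)
  have x2 := pg_lt_card (ab_pg ab) (inf_lt_left.2 n)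
  have m1 := modC px hr (zpowers_le' (norms_inf le_rfl (norms_cent l.nq.norm) x1 : x ∈ N(U ⊓ C(Oc {2} N(U)))))
  have c1 := card_le (inf_le_left : U ⊓ C(Oc {2} N(U)) ⊓ C(zpowers x) ≤ _)
  have c2 := card_le (inf_le_inf_right C(zpowers x) (inf_le_left : U ⊓ C(Oc {2} N(U)) ≤ U))
  rw [← m1.eq_of_lt_of_lt (by omega) (by omega)] at c2
  have m2 := (Nat.modEq_iff_dvd' (card_le inf_le_left)).1 (modC px hr (zpowers_le' x1)).symm
  have e : U ≤ C(zpowers x) := by_contra fun j => by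
    have := pg_lt_card (ab_pg ab) (inf_lt_left.2 j)
    obtain ⟨i, hi⟩ := ((ab_pg ab).of_le (inf_le_left : U ⊓ C(zpowers x) ≤ U)).exists_card
    have i1 : i ≠ 0 := fun e => by rw [e, pow_zero] at hi; omega
    have ev : 2 ∣ #(U ⊓ C(zpowers x)) := hi ▸ dvd_pow_self 2 i1
    have d : r ∣ 6 ∨ r ∣ 4 := by
      rcases (by omega : #(U ⊓ C(zpowers x)) = 2 ∨ #(U ⊓ C(zpowers x)) = 4) with j | j <;> rw [c8, j] at m2 <;> tauto
    rcases d with d | d <;> have := Nat.le_of_dvd (by decide) d <;> interval_cases r <;> simp_all (config := {decide := true})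
  have := (l.pg.elt (ker ⟨x1, cents_symm e (mem_zpowers x)⟩)) r hr ox.symm.dvd
  simp only [Set.mem_singleton_iff] at this
  omega

end H13.MS
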