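import Cfsg.Agent.H1.MS2
import Cfsg.Agent.H12.MS0
import Cfsg.Agent.H17.MS1

/-! S5899, part 3: chunk `EXT`. -/

set_option autoImplicit false
set_option linter.unusedVariables false

namespace H13.MS
open Cfsg Subgroup H18 H17.GS H28.S H2.GW
open H19 hiding eq_bot_mono
open H28.NG hiding Hyp Uniq Ch
open H27.MS H12.MS
open H17.MS (card_q quo2 qsq dc de dn)

universe u

theorem d8 {X : Type*} [Group X] [Finite X] {a b : X} (aa : a * a = 1) (bb : b * b = 1)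
    (c : #(zpowers a ⊔ zpowers b) = 8) : (a * b) ^ 4 = 1 := by
  by_cases m : a ∈ zpowers (a * b)
  · have cm := mem_cent1.1 (zpowers_le.2 (mem_cent1_self _) m)
    rw [← mul_assoc, aa, one_mul] at cm
    have : (a * b) ^ 2 = 1 := by rw [pow_two, ← mul_assoc, ← cm, bb]
    rw [show 4 = 2 * 2 from rfl, pow_mul, this, one_pow]
  · rw [de, card_sup_zp aa m (dn aa bb), Nat.card_zpowers] at c
    rw [← (by omega : orderOf (a * b) = 4), pow_orderOf_eq_one]

theorem ext (ty : Ty.{u}) : H1.MS.EXT.{u} := fun {G} _ _ {N Q T X i} h l nX lt i1 i2 i3 => by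
  have : Fact (Nat.Prime 2) := ⟨Nat.prime_two⟩
  have nQ : T ≤ N(Q) := h.TN.trans h.nq.norm
  obtain ⟨B, hB, l1⟩ := exists_hyp h.pg (lt_of_le_of_ne (sup_le lt.le (commg_le_left nQ)) fun e => lt.not_ge
    (H29.commutator_lt_mod h.pg.isPGroup h.syl.pi.isPGroup nQ (h.le.trans nX.norm) nX.norm e.ge))
  have cB : ⁅Q, T⁆ ≤ B := le_sup_right.trans l1
  have nB : T ≤ N(B) := norms_of_commg_le ((commutator_mono hB.le le_rfl).trans cB)
  have lift : ∀ a, Iv T Q a → ∃ s ∈ T, s * s = 1 ∧ s * a⁻¹ ∈ Q := fun a k => by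
    obtain ⟨g, -, e⟩ := (ty h).1 i a ⟨i1, i2, i3 ▸ one_mem _⟩ ⟨h.TN k.1, k.2⟩
    exact ⟨_, (mul_mem_cancel_right (inv_mem k.1)).1 (h.le e), by rw [conj_mul, i3]; group, e⟩
  obtain ⟨cT, a, b, ia, ib, eT⟩ := H17.MS.l7 h l
  obtain ⟨s, s1, s2, s3⟩ := lift a ia
  obtain ⟨t, t1, t2, t3⟩ := lift b ib
  have eT' : T = Q ⊔ zpowers s ⊔ zpowers t := le_antisymm (eT.le.trans (sup_le (sup_le (le_sup_left.trans le_sup_left)
    (zpowers_le' (inv_mem_iff.1 ((mul_mem_cancel_left (mem_sup_left (mem_sup_right (mem_zpowers s)))).1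
      (mem_sup_left (mem_sup_left s3)))))) (zpowers_le' (inv_mem_iff.1 ((mul_mem_cancel_left
      (mem_sup_right (mem_zpowers t))).1 (mem_sup_left (mem_sup_left t3)))))))
    (sup_le (sup_le h.le (zpowers_le' s1)) (zpowers_le' t1))
  have st := mul_mem s1 t1
  have c4 : (s * t) ^ 4 ∈ Q := by
    have c := card_q nQ h.le
    rw [cT, mul_comm, eT', quo2 (nQ s1) (nQ t1)] at c
    have := d8 (qsq (nQ s1) (s2 ▸ one_mem _)) (qsq (nQ t1) (t2 ▸ one_mem _)) (Nat.eq_of_mul_eq_mul_right (card_pos Q) c)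
    rwa [← qm_mul (nQ s1) (nQ t1), ← qm_pow (nQ st), qm_eq_one (pow_mem (nQ st) _)] at this
  have sq : ∀ q ∈ Q, q * q ∈ B := fun q k => by
    by_cases j : q ∈ B
    exacts [mul_mem j j, hyp_mul hB k k j j]
  have e4 : (s * t) ^ 4 = (s * t) ^ 2 * (s * t) ^ 2 := by rw [← pow_add]
  have b4 : (s * t) ^ 4 ∈ B := by
    rw [e4] at c4 ⊢
    by_cases j : (s * t) ^ 2 ∈ Q
    · exact sq _ j
    obtain ⟨c, c1, c2, c3⟩ := lift _ ⟨pow_mem st 2, j, c4⟩
    generalize (s * t) ^ 2 = x at c3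
    have := mul_mem (inv_mem (sq _ c3)) (cB (comm_mem c3 c1))
    rwa [show (c * x⁻¹ * (c * x⁻¹))⁻¹ * (c * x⁻¹ * c * (c * x⁻¹)⁻¹ * c⁻¹) = x * x * (c * c)⁻¹ by group, c2, inv_one,
      mul_one] at this
  have YT : B ⊔ zpowers s ⊔ zpowers t ≤ T := sup_le (sup_le (hB.le.trans h.le) (zpowers_le' s1)) (zpowers_le' t1)
  have c := card_q (YT.trans nB) (le_sup_left.trans le_sup_left)
  rw [quo2 (nB s1) (nB t1)] at c
  have c8 := dc (qsq (nB s1) (s2 ▸ one_mem _)) (qsq (nB t1) (t2 ▸ one_mem _)) (by decide : 0 < 4) (by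
    rwa [← qm_mul (nB s1) (nB t1), ← qm_pow (nB st), qm_eq_one (pow_mem (nB st) _)])
  have cQ := hB.card
  have pB := card_pos B
  obtain ⟨T₀, h0, l0⟩ := exists_hyp h.syl.pi (YT.lt_of_ne fun e => by rw [e] at c; nlinarith)
  refine ⟨T₀, le_sup_left.trans (l1.trans ((le_sup_left.trans le_sup_left).trans l0)), h0.le, by rw [h0.card, mul_comm],
    fun k => h0.ne (le_antisymm h0.le (eT'.le.trans (sup_le (sup_le k ((le_sup_right.trans le_sup_left).trans l0))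
      (le_sup_right.trans l0))))⟩

end H13.MS
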