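import Cfsg.Agent.H13.BK10
import Cfsg.Agent.H13.Sm1

/-! Simple groups of order 443520: numerical checks. -/

namespace H13.O22
open BK

def F : List (ℕ × ℕ) := [(2, 7), (3, 2), (5, 1), (7, 1), (11, 1)]
def D : List ℕ := [660, 640, 630, 616, 576, 560, 528, 504, 495, 480, 462, 448, 440, 420, 396, 385, 384, 360,
  352, 336, 330, 320, 315, 308, 288, 280, 264, 252, 240, 231, 224, 220, 210, 198, 192, 180, 176, 168, 165, 160,
  154, 144, 140, 132, 128, 126, 120, 112, 110, 105, 99, 96, 90, 88, 84, 80, 77, 72, 70, 66, 64, 63, 60, 56, 55,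
  48, 45, 44, 42, 40, 36, 35, 33, 32, 30, 28, 24, 22, 21, 20, 18, 16, 15, 14, 12, 11, 10, 9, 8, 7, 6, 5, 4, 3,
  2, 1]
def T : List ℤ := [210, 45, 45, -21]
def T' : List ℤ := [210, 210, -120, -21]
def A : List ℤ := [21, -154, 66, 66]
def B : List ℤ := [21, 231, -154, -99]
def P : List (List ℤ × List (List ℤ × ℤ × ℕ)) := [([-120, -21, -10, -10], []), ([144, -120, -10, -10], [([0, 0, 2, -2], 1, 55), ([0, 0, -2, 2], 1, 55)]),
  ([-10, 12, 12, -21], []), ([-120, -10, 12, 12], [([24, -2, 0, 0], 21, 55), ([8, -6, 4, 4], -7, 165), ([-8,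
  -6, -4, -4], -7, 165)]), ([45, -21, -21, -10], []), ([45, -21, 45, -10], [([-3, -7, -15, -6], -4, 165),
  ([-15, -7, -3, -6], -4, 165)]), ([-120, -21, 45, -10], [([8, -7, 9, 2], -7, 165), ([-8, -7, -15, -6], -7,
  165)]), ([144, -120, -21, -10], []), ([210, -120, -21, -10], []), ([45, 45, 45, -10], [([13, -3, -3, -6],
  14, 495), ([-3, 13, -3, -6], 14, 495), ([-3, -3, 13, -6], 14, 495)]), ([-120, 56, 45, -10], []), ([144,
  -120, 45, -10], [([24, 24, -3, -2], 0, 330), ([24, 8, -3, 6], 8, 330), ([24, 8, -3, -2], 16, 330), ([16,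
  16, 1, -2], 4, 495), ([16, 8, 5, 2], 12, 495), ([16, 0, -7, 6], 4, 495), ([8, 8, 5, -2], 8, 990), ([8, 0,
  1, 2], 8, 990), ([8, -8, -11, 6], 0, 990), ([0, 16, 9, -2], -4, 165), ([0, 8, 21, -6], 20, 165), ([0, 8,
  -27, -6], -28, 165), ([0, 0, 9, -2], 12, 55), ([0, -8, -3, 2], 4, 165), ([0, -16, -15, 6], -4, 165), ([-8,
  8, 5, -2], -8, 990), ([-8, 0, 1, 2], -8, 990), ([-8, -8, 5, -2], 8, 990), ([-8, -16, -7, 2], 0, 990),
  ([-16, 0, 1, -2], -12, 495), ([-16, -8, 13, -6], 12, 495), ([-16, -16, 1, -2], 4, 495), ([-24, -8, -3,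
  -2], -16, 330), ([-24, -16, 9, -6], 8, 330), ([-24, -24, -3, -2], 0, 330)]), ([210, -120, 45, -10], [([14,
  8, 13, 6], 14, 495), ([14, 8, 5, -2], 14, 495), ([14, 0, 1, 2], 14, 495), ([6, 0, 9, -2], 18, 385), ([2,
  8, -3, -2], -6, 1155), ([2, -8, -3, 2], 6, 1155), ([-2, -8, -3, -2], 6, 1155), ([-14, 8, 13, 6], -14,
  495), ([-14, 8, 5, -2], -14, 495), ([-14, 0, 1, 2], -14, 495), ([-14, -8, 13, -6], 14, 495)]), ([144,
  -120, -120, -10], [([0, 24, 0, -2], 21, 55), ([0, 0, 24, -2], 21, 55)]), ([210, 45, 45, -21], [([6, 9, 9,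
  9], 16, 385), ([2, -3, -3, 5], -8, 1155)]), ([210, 210, -120, -21], [([18, -18, 0, 9], -8, 385), ([14,
  -14, 8, -7], 0, 165), ([6, 6, 0, -3], 16, 385), ([6, -2, 0, 5], 0, 1155), ([2, -6, 8, -3], -8, 1155), ([2,
  -6, -8, -3], 8, 1155), ([-2, 6, 0, 5], 0, 1155), ([-6, 2, 8, -3], -8, 1155), ([-6, 2, -8, -3], 8, 1155),
  ([-14, 14, 8, -7], 0, 165), ([-18, 18, 0, 9], -8, 385)]), ([144, 45, 45, 45], []), ([210, 144, -120, 45],
  [([-14, 0, -16, -3], 0, 165)])]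
def Q : List (ℕ × ℕ × List ℤ) := [(2, 12, [21]), (2, 192, [21]), (4, 1, [-144, 396, -154, -99]), (4, 1, B),
  (4, 1, [126, 126, -154, -99]), (4, 1, [6, 21, 126, -154]), (4, 1, A), (4, 6, A), (4, 16, B),
  (4, 16, [126, 126, -154, -99]), (4, 16, A), (4, 96, A)]
def Dg : List ℕ := [5, 6, 10, 12, 21, 28, 45, 56, 60, 105, 120, 126, 144, 160, 210, 280]
def pr (l ys : List ℤ) (V : ℤ) (d : ℕ) (y : ℤ) : Bool := d % 11 == 0 || (tab l ys V).contains (d, y)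
def Sv : List ((List ℤ × List ℤ × ℤ) × List ℤ × List ℤ) :=
  [((T, [2, -3, -3, 5], -8), B, [5, 7, 10, 3]), ((T, [2, -3, -3, 5], -8), A, [5, 10, 2, 2]),
    ((T', [6, -2, 0, 5], 0), B, [5, 7, 10, 3]), ((T', [6, -2, 0, 5], 0), A, [5, 10, 2, 2]),
    ((T', [-2, 6, 0, 5], 0), B, [5, 7, 10, 3]), ((T', [-2, 6, 0, 5], 0), A, [5, 10, 2, 2])]

theorem r7 : chk 443520 7 F D (fun _ c => c % 11 == 0) (fun _ => true) (fun _ _ _ _ => true) [] = true := by
  decide +kernel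

theorem r11 : chk 443520 11 F D (fun _ c => c % 7 != 0) (fun _ => true) (fun _ _ _ _ => true)
    (P.map fun l => (5, 1, l.1)) = true := by decide +kernel

theorem r5 : chk 443520 5 F D (fun _ c => c % 11 != 0) (fun d => d % 11 == 0 || Dg.contains d)
    (fun _ _ _ _ => true) Q = true := by decide +kernel

theorem r7' : chk 443520 7 F D (fun _ c => c % 11 != 0 && c % 5 != 0)
    (fun d => d % 55 == 0 || [45, 66, 99].contains d) (fun _ _ _ _ => true)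
    [(3, 1, [-55, 99]), (3, 8, [-55, 99]), (3, 64, [-55, 99])] = true := by decide +kernel

theorem cn : ∀ l ∈ P, con' 443520 11 (fun _ _ => true) l.1 (fun ys V m => l.2.contains (ys, V, m)) = true := by
  decide +kernel

theorem ce : ∀ l ∈ P, ∀ u ∈ l.2, ∀ r ∈ Q, r.2.1 % 2 = 0 → col 443520 443520 u.2.2 (1 + nrm 5 l.1 u.1 u.2.1) 20
    (pr l.1 u.1 u.2.1) r.2.2 (if r.1 + 1 = 5 then 0 else (5 - 1) / r.1) (fun _ _ _ _ _ => false) = true := by
  decide +kernel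

theorem cs : ∀ l ∈ P, ∀ u ∈ l.2, ∀ r ∈ Q, r.2.1 = 1 → col 443520 443520 u.2.2 (1 + nrm 5 l.1 u.1 u.2.1) 4
    (pr l.1 u.1 u.2.1) r.2.2 (if r.1 + 1 = 5 then 0 else (5 - 1) / r.1) (fun ys _ m r' w =>
      5 * 443520 ^ 2 % (w * m ^ 2) != 0 || (divs F).all fun c => w != 5 * c ^ 2 || 443520 / c % m != 0 || c < r' ||
        c == 384 && Sv.contains ((l.1, u.1, u.2.1), r.2.2, ys)) = true := by
  decide +kernel

end H13.O22
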