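import Cfsg.Agent.H13.BK11
import Cfsg.Agent.H13.Sm1

/-! Simple groups of order 10200960: numerical checks. -/

namespace H13.O23
open BK

def F : List (ℕ × ℕ) := [(2, 7), (3, 2), (5, 1), (7, 1), (11, 1), (23, 1)]
def D : List ℕ :=
  [3168, 3080, 3036, 2944, 2898, 2880, 2772, 2760, 2688, 2640, 2576, 2530, 2520, 2464, 2415, 2310, 2277, 2240, 
  2208, 2112, 2070, 2024, 2016, 1980, 1932, 1920, 1848, 1840, 1771, 1760, 1680, 1656, 1610, 1584, 1540, 1518, 
  1472, 1449, 1440, 1408, 1386, 1380, 1344, 1320, 1288, 1265, 1260, 1232, 1155, 1152, 1120, 1104, 1056, 1035, 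
  1012, 1008, 990, 966, 960, 924, 920, 896, 880, 840, 828, 805, 792, 770, 759, 736, 720, 704, 693, 690, 672, 
  660, 644, 640, 630, 616, 576, 560, 552, 528, 506, 504, 495, 483, 480, 462, 460, 448, 440, 420, 414, 396, 385, 
  384, 368, 360, 352, 345, 336, 330, 322, 320, 315, 308, 288, 280, 276, 264, 253, 252, 240, 231, 230, 224, 220, 
  210, 207, 198, 192, 184, 180, 176, 168, 165, 161, 160, 154, 144, 140, 138, 132, 128, 126, 120, 115, 112, 110, 
  105, 99, 96, 92, 90, 88, 84, 80, 77, 72, 70, 69, 66, 64, 63, 60, 56, 55, 48, 46, 45, 44, 42, 40, 36, 35, 33, 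
  32, 30, 28, 24, 23, 22, 21, 20, 18, 16, 15, 14, 12, 11, 10, 9, 8, 7, 6, 5, 4, 3, 2, 1]
def B : List ℤ := [-2024, 231, 896, 896]
def U : List ℤ := [-230, 1035, 45, 45]
def T : List ℤ := [-22, -45, -45, 231, 231, 231, -896, -896, 990, 990]
def Q5 : List (ℕ × ℕ × List ℤ) := [(4, 3, B), (4, 8, [-2024, 126, 126, 1771]),
  (4, 8, [-414, 126, 126, 161]), (4, 88, [-414, 126, 126, 161])]
def Q11 : List (ℕ × ℕ × List ℤ) := [(5, 1, [23, 23, 45, -736]), (5, 1, [23, 45, -736, 1035]),
  (5, 1, [23, -736, -736, 1288]), (5, 1, U), (5, 1, [45, -230, -736, -736]), (5, 1, [45, -230, -736, 1035]),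
  (5, 1, [45, -230, -736, 1288]), (5, 1, [-230, -230, -736, 1035]), (5, 1, [-230, -483, -736, 1288]),
  (5, 1, [-483, -483, -483, 1288]), (5, 12, [23, 276, 276, -736]), (5, 12, [23, -736, -736, 1288]),
  (5, 12, [-230, -483, -736, 1288]), (5, 12, [-483, -483, -483, 1288])]
def P : List (List ℤ) := [[-22, -22, -22, -45, -45, 231, 231, -896, -896, 990],
  [-22, -22, -22, -45, -45, 231, -896, -896, 990, 990], [-22, -22, -22, -45, -45, -528, -896, -896, 990, 990],
  T, [-45, -45, 231, 231, 231, -528, -896, -896, 990, 990], [-45, -45, 231, 231, -528, -528, -896, -896, 990, 990]]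
def rl (l : List ℤ) (s : ℤ) : Bool := (l.map Int.natAbs).count 45 == 2 && (l.map Int.natAbs).count 896 == 2 &&
  1 + (l.map fun u => u.natAbs ^ 2).sum + 2 * s.natAbs ^ 2 + 5220701 ≤ 10200960

theorem r23 : chk 10200960 23 F D (fun e c => e != 11 || c != 1) (fun _ => true) (fun _ _ _ _ => true) [] = true := by
  decide +kernel

theorem r5 : chk 10200960 5 F D (fun _ c => c % 23 != 0) (res 23 11) (fun _ _ => wrel 23 11) Q5 = true := by
  decide +kernel

theorem r11 : chk 10200960 11 F D (fun _ c => c % 23 != 0) (res 23 11) (fun _ _ => wrel 23 11) Q11 = true := by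
  decide +kernel

theorem r23' : chk 10200960 23 F D (fun e c => e == 11 && c == 1)
    (fun d => d == 45 || d == 896 || d % 11 == 0 && d != 11) (fun _ _ => rl) (P.map fun l => (11, 1, l)) = true := by
  decide +kernel

theorem cz : ∀ l ∈ P, col 10200960 680064 680064 1 5 (fun d y => d % 5 != 0 || y == 0) l 2
    (fun _ _ _ _ _ => l == T) = true := by decide +kernel

theorem ct : con' 10200960 11 (fun d y => d != 230 || [-10, 6, 38, 86, 150].contains y) U
    (fun _ _ _ => false) = true := by decide +kernel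

end H13.O23
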