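import Cfsg.Agent.H5.O61
import Cfsg.Prelude.Def_BaumannBlocks
import Cfsg.Prelude.Def_CaseTheorems

/-! # Groups with element orders at most eight: vocabulary and the list of steps -/

set_option autoImplicit false
set_option linter.unusedSectionVars false

open Cfsg
namespace H13.O8

open H19 Subgroup H5 H5.FP H2.GW
open scoped Pointwise commutatorElement MatrixGroups

universe u

/-- element orders are at most eight -/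
def O (G : Type*) [Group G] : Prop := ∀ n, Ord G n → n ≤ 8

abbrev A5 := alternatingGroup (Fin 5)
abbrev A6 := alternatingGroup (Fin 6)
abbrev A7 := alternatingGroup (Fin 7)
abbrev S5 := Equiv.Perm (Fin 5)
abbrev L32 := SL(3, ZMod 2)

def L34 (S : Type*) [Group S] : Prop :=
  ∃ (F : Type) (_ : Field F) (_ : Fintype F), Fintype.card F = 4 ∧ Nonempty (S ≃* PSL(3, F))

/-- the simple groups with element orders at most eight -/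
def Ty (S : Type*) [Group S] : Prop :=
  Nonempty (S ≃* A5) ∨ Nonempty (S ≃* A6) ∨ Nonempty (S ≃* L32) ∨ Nonempty (S ≃* A7) ∨ L34 S

abbrev R4 (G : Type*) [Group G] : Prop := SectionalPRankLE 2 4 G

section
variable {G : Type u} [Group G]

/-- `Ω₁(Z(X))` -/
abbrev OZ (X : Subgroup G) : Subgroup G := Ohm1 2 Z(X)
/-- the Thompson subgroup (elementary abelian subgroups of largest order) -/
abbrev JT (X : Subgroup G) : Subgroup G := thompsonSubgroupOf 2 X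
/-- characteristic `2` -/
def Ch (X : Subgroup G) : Prop := X ⊓ C(Oc {2} X) ≤ Oc {2} X
/-- local characteristic `2` -/
def LC (G : Type u) [Group G] : Prop := ∀ U : Subgroup G, PG 2 U → U ≠ ⊥ → Ch N(U) ∧ Ch C(U)

/-- `⟨S, y⟩ / R ≅ S₃` -/
structure P3 (S R : Subgroup G) (y : G) : Prop where
  pg : PG 2 S
  le : R ≤ S
  idx : R.relIndex S = 2
  o : orderOf y = 3
  nR : y ∈ N(R)
  inv : ∀ s ∈ S, s ∉ R → s * y * s⁻¹ * y ∈ R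

/-- `M = N(Q)` is a maximal `2`-local subgroup -/
structure Lc (M Q : Subgroup G) : Prop where
  pg : PG 2 Q
  ne : Q ≠ ⊥
  nm : N(Q) = M
  cq : C(Q) ≤ Q
  mx : ∀ D, PG 2 D → D ≠ ⊥ → M ≤ N(D) → N(D) ≤ M
  sim : ∀ X, X ⊴ M → ¬ X ≤ Q → ∃ x ∈ X, orderOf x = 5 ∨ orderOf x = 7

/-- `M / Q ≅ K` -/
def Iso (M Q : Subgroup G) (K : Type*) [Group K] : Prop :=
  ∃ f : M →* K, Function.Surjective f ∧ ∀ x : M, f x = 1 ↔ (x : G) ∈ Q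

/-- `S / Q` has order at most eight and rank at most two -/
def Rk (Q S : Subgroup G) : Prop :=
  Q.relIndex S ∣ 8 ∧ ∀ A ≤ S, (∀ a ∈ A, a * a ∈ Q) → Q.relIndex A ≤ 4

/-- the involutions of `S / Q` invert elements of order `p` of `M / Q` -/
def Inv (p : ℕ) (M Q S : Subgroup G) : Prop :=
  ∀ a ∈ S, a ∉ Q → a * a ∈ Q → ∃ x ∈ M, x ∉ Q ∧ x ^ p ∈ Q ∧ a * x * a⁻¹ * x ∈ Q

/-- the elements of order `p` of `M` are fixed point free on `Q` -/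
def Fp (p : ℕ) (M Q : Subgroup G) : Prop := ∀ y ∈ M, orderOf y = p → Q ⊓ C[y] = ⊥

/-- the involutions of `S / Q` act freely -/
def Free (M Q S : Subgroup G) : Prop :=
  ∀ a ∈ S, a ∉ Q → a * a ∈ Q → ∀ W, Abelem 2 W → W ≤ Q → M ≤ N(W) → (a * a = 1 ∨ Q ≤ C(W)) →
    #W = #(W ⊓ C[a]) * #(W ⊓ C[a])

/-- an element of order `7` is a product of three conjugates of any involution of `T / Q` -/
def T7 (M Q T : Subgroup G) : Prop :=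
  ∀ a ∈ T, a ∉ Q → a * a ∈ Q → ∃ g ∈ M, ∃ h ∈ M, ∃ x ∈ M, orderOf x = 7 ∧
    x⁻¹ * (a * (g * a * g⁻¹) * (h * a * h⁻¹)) ∈ Q

/-- `M / Q ≅ A₅`, `S / Q = V₄`, `⟨S, y⟩ / Q = A₄` -/
structure TA (M Q S : Subgroup G) (y : G) : Prop where
  lc : Lc M Q
  iso : Iso M Q A5
  syl : Syl 2 S M
  idx : Q.relIndex S = 4
  sq : ∀ s ∈ S, s * s ∈ Q
  inv : Inv 5 M Q S
  five : ∃ x ∈ M, orderOf x = 5
  o : orderOf y = 3
  yM : y ∈ M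
  yN : y ∈ N(S)
  fp : ∀ s ∈ S, y * s * y⁻¹ * s⁻¹ ∈ Q → s ∈ Q
  ov : ∀ X, S ≤ X → X ≤ M → X = S ∨ X = S ⊔ zpowers y ∨ X = M
  ex : ∃ t ∈ M, t * y * t⁻¹ * y ∈ Q ∧ t ∉ N(S)

/-- one half of `D8`: `⟨T, y⟩ / Q ≅ S₄` is maximal in `M / Q`, `R / Q = V₄` -/
structure S4 (M Q T R : Subgroup G) (y : G) : Prop where
  p : P3 T R y
  yM : y ∈ M
  le : Q ≤ R
  idx : Q.relIndex R = 4
  sq : ∀ r ∈ R, r * r ∈ Q
  fp : ∀ r ∈ R, y * r * y⁻¹ * r⁻¹ ∈ Q → r ∈ Q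
  mx : ∀ X, T ⊔ zpowers y ≤ X → X ≤ M → X = T ⊔ zpowers y ∨ X = M

/-- `M / Q ≅ A₆` or `L₃(2)`, `T / Q ≅ D₈` -/
structure D8 (M Q T R₁ R₂ : Subgroup G) (y₁ y₂ : G) : Prop where
  lc : Lc M Q
  syl : Syl 2 T M
  s1 : S4 M Q T R₁ y₁
  s2 : S4 M Q T R₂ y₂
  ne : R₁ ≠ R₂
  el : ∀ t ∈ T, t * t ∈ Q → t ∈ R₁ ∨ t ∈ R₂
  st : ∀ W₀ W : Subgroup G, W₀ ≤ W → W ≤ Q → M ≤ N(W₀) → M ≤ N(W) → ⁅W, Q⁆ ≤ W₀ → (∀ w ∈ W, w * w ∈ W₀) →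
    ∀ v ∈ W, (∀ t ∈ T, t * v * t⁻¹ * v⁻¹ ∈ W₀) → ∃ a ∈ W, ∃ b ∈ W, v = a * b ∧
      (∀ t ∈ T ⊔ zpowers y₁, t * a * t⁻¹ * a⁻¹ ∈ W₀) ∧ ∀ t ∈ T ⊔ zpowers y₂, t * b * t⁻¹ * b⁻¹ ∈ W₀
  ty : (T.relIndex M = 45 ∧ Inv 5 M Q T ∧ ∃ x ∈ M, orderOf x = 5) ∨ (T.relIndex M = 21 ∧ T7 M Q T)

/-- failure of factorization in `D8` -/
structure FS (M Q T R₁ : Subgroup G) (y₁ y₂ : G) : Prop where
  cz : OZ Q ⊓ C(R₁) ≤ OZ T
  c1 : y₁ ∈ C(OZ T)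
  z2 : OZ T ⊓ C[y₂] = ⊥
  z4 : #(OZ T) ≤ 4
  big : #(OZ Q) = 8 ∨ #(OZ T) * 8 ≤ #(OZ Q) ∧ ∀ t ∈ T, t ∉ Q → #(OZ Q ⊓ C[t]) * 4 ≤ #(OZ Q)
  v0 : ∃ V z, V ≤ OZ Q ∧ M ≤ N(V) ∧ z ∈ OZ T ∧ z ≠ 1 ∧ (∀ v ∈ V, v ≠ 1 → ∃ m ∈ M, v = m * z * m⁻¹) ∧
    (#V = 8 ∨ #V = 16 ∧ ∀ t ∈ T, t ∉ Q → #(V ⊓ C[t]) ≤ 4)

end

/-! ## Filters -/

def FN : Prop := ∀ (G : Type u) [Group G] [Finite G] [IsSimpleGroup G], ¬ IsMulCommutative G → O G →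
  IsNGroup G → Ty G
def F4 : Prop := ∀ (G : Type u) [Group G] [Finite G] [IsSimpleGroup G] (M Q : Subgroup G), ¬ IsMulCommutative G →
  O G → IsCharacteristicTwoType G → Lc M Q → ¬ Sol M → R4 G → Ty G
def FC : Prop := ∀ (G : Type u) [Group G] [Finite G] [IsSimpleGroup G] (S : Subgroup G), ¬ IsMulCommutative G →
  O G → IsCharacteristicTwoType G → Syl 2 S ⊤ → cStarOf 2 S ≠ ⊤ → Ty G
def F2 : Prop := ∀ (G : Type u) [Group G] [Finite G] [IsSimpleGroup G] (S : Subgroup G), ¬ IsMulCommutative G →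
  O G → Syl 2 S ⊤ → ¬ Ab S → ⁅S, S⁆ ≤ C(S) → Ty G
def CT : Prop := ∀ (G : Type u) [Group G] [Finite G] [IsSimpleGroup G] (M Q : Subgroup G), ¬ IsMulCommutative G →
  O G → Lc M Q → ¬ Sol M → IsCharacteristicTwoType G ∧ LC G

/-! ## Extensions -/

def NS : Prop := ∀ (G : Type u) [Group G] [Finite G], O G → ¬ Group.IsSolvable G →
  (∀ (S : Type u) [Group S] [Finite S] [IsSimpleGroup S], ¬ IsMulCommutative S → O S →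
    Nat.card S ≤ Nat.card G → Ty S) →
  ∃ (K : Type u) (_ : Group K) (_ : Finite K) (f : G →* K) (L : Subgroup K),
    Function.Surjective f ∧ PG 2 f.ker ∧ L.Normal ∧ Ty L ∧ C(L) = ⊥
def IX : Prop := ∀ (K : Type u) [Group K] [Finite K] (L : Subgroup K), O K → L.Normal → Ty L →
  L = ⊤ ∨ L.index = 2 ∧ IsEmpty (L ≃* A7)
def X3 : Prop := ∀ (G K : Type u) [Group G] [Finite G] [Group K] [Finite K] (f : G →* K) (L : Subgroup K), O G →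
  Function.Surjective f → PG 2 f.ker → L.index = 2 → Nonempty (L ≃* L32) → f.ker = ⊥
def X6 : Prop := ∀ (G K : Type u) [Group G] [Finite G] [Group K] [Finite K] (f : G →* K) (L : Subgroup K), O G →
  Function.Surjective f → PG 2 f.ker → L.index = 2 → Nonempty (L ≃* A6) → C(L) = ⊥ → f.ker = ⊥
def X7 : Prop := ∀ (G K : Type u) [Group G] [Finite G] [Group K] [Finite K] (f : G →* K) (L : Subgroup K), O G →
  Function.Surjective f → PG 2 f.ker → Nonempty (L ≃* A7) → f.ker = ⊥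
def X34 : Prop := ∀ (G K : Type u) [Group G] [Finite G] [Group K] [Finite K] (f : G →* K) (L : Subgroup K), O G →
  Function.Surjective f → PG 2 f.ker → L34 L → f.ker = ⊥
def SA : Prop := ∀ (G : Type u) [Group G] [Finite G] (M Q S : Subgroup G), O G → Lc M Q → Iso M Q A5 →
  Syl 2 S M → ∃ y, TA M Q S y
def SS : Prop := ∀ (G : Type u) [Group G] [Finite G] (M Q S : Subgroup G), O G → Lc M Q → Iso M Q S5 →
  Syl 2 S M → Rk Q S ∧ Inv 3 M Q S ∧ Fp 3 M Q ∧ Abelem 2 Q ∧ ∃ x ∈ M, orderOf x = 5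
def DA : Prop := ∀ (G : Type u) [Group G] [Finite G] (M Q T : Subgroup G), O G → Lc M Q → Iso M Q A6 →
  Syl 2 T M → ∃ R₁ R₂ y₁ y₂, D8 M Q T R₁ R₂ y₁ y₂
def DL : Prop := ∀ (G : Type u) [Group G] [Finite G] (M Q T : Subgroup G), O G → Lc M Q → Iso M Q L32 →
  Syl 2 T M → ∃ R₁ R₂ y₁ y₂, D8 M Q T R₁ R₂ y₁ y₂

/-! ## Elements of order three -/

def CY : Prop := ∀ (G : Type u) [Group G] [Finite G] (R : Subgroup G) (y t : G), O G → PG 2 R → orderOf y = 3 →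
  y ∈ N(R) → t ∈ N(R) → PiE {2} t → t * y * t⁻¹ * y⁻¹ ∈ R → ∃ r ∈ R, t * r ∈ C[y] ⊓ C(R ⊓ C[y])
def CY2 : Prop := ∀ (G : Type u) [Group G] [Finite G] (R : Subgroup G) (a b t : G), O G → PG 2 R → orderOf a = 3 →
  b ^ 3 = 1 → a * b = b * a → a ∈ N(R) → b ∈ N(R) → t ∈ N(R) → PiE {2} t → t * a * t⁻¹ * a⁻¹ ∈ R →
  t * b * t⁻¹ * b ∈ R → b ∈ C(R ⊓ C[a])
def ZE : Prop := ∀ (G : Type u) [Group G] [Finite G] (R Y : Subgroup G) (a b t : G), O G → PG 2 R → PG 3 Y →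
  Y ≤ N(R) → Y ⊓ C(R) = ⊥ → a ∈ Y → b ∈ Y → t ∈ N(R) → PiE {2} t → t * a * t⁻¹ * a⁻¹ ∈ R →
  t * b * t⁻¹ * b ∈ R → a * b = b * a
def R2 : Prop := ∀ (G : Type u) [Group G] [Finite G] (R E : Subgroup G), O G → PG 2 R → El 3 2 E ⊤ → E ≤ N(R) →
  E ≤ C(OZ R) → E ≤ C(R)
def C3 : Prop := ∀ (G : Type u) [Group G] [Finite G] (D Y : Subgroup G), O G → PiG {2, 3} D → Ch D → Syl 3 Y D →
  D ≤ N(Oc {2} D ⊔ Y)
def CZ : Prop := ∀ (G : Type u) [Group G] [Finite G] (H S : Subgroup G), O G → PiG {2, 3} H → Ch H → Syl 2 S H →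
  H ≤ C(OZ S) → H = S ∨ ∃ c, orderOf c = 3 ∧ H = S ⊔ zpowers c ∧ (c ∈ N(S) ∨ P3 S (Oc {2} H) c)
def TPZ : Prop := ∀ (G : Type u) [Group G] [Finite G] (S R : Subgroup G) (c y t z : G), O G → LC G → Syl 2 S ⊤ →
  orderOf c = 3 → c ∈ C(OZ S) → t ∈ S → t * c * t⁻¹ * c⁻¹ ∈ S → P3 S R y → t ∉ R → z ∈ OZ S → z ≠ 1 →
  y ∈ C[z] → y ∈ C(OZ S)
def CZ1 : Prop := ∀ (G : Type u) [Group G] [Finite G] (S R : Subgroup G) (y z : G), O G → LC G → Syl 2 S ⊤ →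
  P3 S R y → C(OZ S) = S ⊔ zpowers y → OZ R ≤ OZ S → #(OZ S) ≤ 4 → z ∈ OZ S → z ≠ 1 → C[z] ≤ S ⊔ zpowers y
def FF3 : Prop := ∀ (G : Type u) [Group G] [Finite G] (H S : Subgroup G), O G → Sol H → Syl 2 S H →
  H ⊓ C(OZ (Oc {2} H)) ≤ Oc {2} H → ¬ JT S ≤ Oc {2} H → ∃ R y, y ∈ H ∧ P3 S R y ∧ Oc {2} H ≤ R

/-! ## Local lemmas -/

def FR : Prop := ∀ (G : Type u) [Group G] [Finite G] (M Q S : Subgroup G) (p : ℕ), p = 3 ∨ p = 5 → PG 2 Q →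
  M ≤ N(Q) → S ≤ M → Inv p M Q S → Fp p M Q → Free M Q S
def B1 : Prop := ∀ (G : Type u) [Group G] [Finite G] (M Q S R : Subgroup G) (c : G), O G → Lc M Q → S ≤ M →
  Q ≤ S → Rk Q S → Free M Q S → (∃ x ∈ M, orderOf x = 5) → P3 S R c → (S ⊔ zpowers c) ⊓ C(R) ≤ R →
  ¬ OZ Q ≤ R → Abelem 2 Q ∧ #Q = 16
def R4L : Prop := ∀ (G : Type u) [Group G] [Finite G] (V S : Subgroup G), Syl 2 S ⊤ → V ⊴ S → Abelem 2 V →
  #V = 16 → Rk V S → (∀ a ∈ S, a ∉ V → a * a ∈ V → #(V ⊓ C[a]) ≤ 4) → R4 G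
def R4E : Prop := ∀ (G : Type u) [Group G] [Finite G] (V : Subgroup G), Abelem 2 V → #V = 8 → C(V) ≤ V → R4 G
def CSJ : Prop := ∀ (G : Type u) [Group G] [Finite G] (M Q S : Subgroup G), O G → Lc M Q → S ≤ M → Q ≤ S →
  JT S ≤ Q → charNormalizersJoin (baumannSubgroupOf 2 S) ≤ M
def TI : Prop := ∀ (G : Type u) [Group G] [Finite G] (M Q S V P : Subgroup G), O G → Lc M Q → Syl 2 S ⊤ → S ≤ M →
  Rk Q S → V ≤ OZ Q → M ≤ N(V) → 8 ≤ #V → (∀ g, V ⊓ cj g V ≠ ⊥ → g ∈ M) → Sol P → Ch P → S ≤ P → ¬ P ≤ M →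
  Q ≤ V

/-! ## `A₅` and `S₅` -/

def A53 : Prop := ∀ (G : Type u) [Group G] [Finite G] (M Q T : Subgroup G), O G → IsCharacteristicTwoType G →
  Lc M Q → Iso M Q A5 ∨ Iso M Q S5 → Syl 2 T M → N(T) ≤ M ∨ R4 G
def GNC : Prop := ∀ (G : Type u) [Group G] [Finite G] (S : Subgroup G), O G → PG 2 S → ¬ ⁅S, S⁆ ≤ C(S) →
  ∃ S₁ S₂ : Subgroup G, S₁ ≠ ⊥ ∧ S₂ ≠ ⊥ ∧ S₁ ≤ Z(S) ∧ S₂ ≤ S ∧ N(S) ≤ N(S₁) ∧
    (∀ M Q y, TA M Q S y → M ≤ N(S₂)) ∧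
    ∀ R y, P3 S R y → (S ⊔ zpowers y) ⊓ C(R) ≤ R → y ∈ C(S₁) ∨ y ∈ N(S₂)
def A5a : Prop := ∀ (G : Type u) [Group G] [Finite G] (M Q S : Subgroup G) (y : G), O G → LC G → Syl 2 S ⊤ →
  TA M Q S y → N(S) ≤ M → C(OZ S) ≤ M ∨ Abelem 2 Q ∧ #Q = 16
def A5b : Prop := ∀ (G : Type u) [Group G] [Finite G] (M Q S : Subgroup G) (y : G), O G → TA M Q S y →
  N(S) ≤ M → C(OZ S) ≤ M → ¬ JT S ≤ Q →
  C(OZ S) = S ∧ N(JT S) ≤ M ∧ ∀ X ≤ OZ S, X ≠ ⊥ → y ∈ N(X) → X = OZ S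

/-! ## `A₆` and `L₃(2)` -/

def FFP : Prop := ∀ (G : Type u) [Group G] [Finite G] (M Q T R₁ R₂ : Subgroup G) (y₁ y₂ : G), O G →
  D8 M Q T R₁ R₂ y₁ y₂ → ¬ JT T ≤ Q → FS M Q T R₁ y₁ y₂ ∨ FS M Q T R₂ y₂ y₁
def KX : Prop := ∀ (G : Type u) [Group G] [Finite G] (M Q T R₁ R₂ X : Subgroup G) (y₁ y₂ : G), O G →
  D8 M Q T R₁ R₂ y₁ y₂ → FS M Q T R₁ y₁ y₂ → X ≤ Q → T ≤ N(X) → ⁅X, Q⁆ ≤ OZ T → X ≤ OZ Q
def D3 : Prop := ∀ (G : Type u) [Group G] [Finite G] (M Q T R₁ R₂ : Subgroup G) (y₁ y₂ g : G), O G → LC G →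
  D8 M Q T R₁ R₂ y₁ y₂ → FS M Q T R₁ y₁ y₂ → g ∈ N(T) → g ∉ M → Abelem 2 Q ∧ #Q = 8
def D1 : Prop := ∀ (G : Type u) [Group G] [Finite G] (M Q T R₁ R₂ : Subgroup G) (y₁ y₂ : G), O G → LC G →
  Syl 2 T ⊤ → D8 M Q T R₁ R₂ y₁ y₂ → C(OZ T) ≤ M

end H13.O8
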