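import Cfsg.Agent.H13.O80

/-! # Groups with element orders at most eight: kit -/

set_option autoImplicit false
set_option linter.unusedSectionVars false

open Cfsg
namespace H13.O8

open H19 Subgroup H5 H5.FP H2.GW
open scoped Pointwise commutatorElement MatrixGroups

universe u

variable {G : Type u} [Group G] [Finite G] {R' : Type*} [Group R'] [Finite R'] {f : G →* R'}
  {n p : ℕ} {A D H K M Q R R₁ R₂ S T V W X Y : Subgroup G} {a c g s t x y y₁ y₂ z : G}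

theorem abelem_sq (h : ∀ w ∈ X, w * w = 1) : Abelem 2 X := abelem_of_sq h

theorem sq1 (h : Abelem 2 X) (hx : x ∈ X) : x * x = 1 := (pow_two x).symm.trans (h.2 x hx)

theorem sol23 (h : PiG {2, 3} H) : Sol H :=
  H5.isSolvable_of_primes_subset_pair Nat.prime_two Nat.prime_three fun r hr d => h r hr d

theorem OZ_le (X : Subgroup G) : OZ X ≤ X := (Ohm1_le 2 _).trans inf_le_left
theorem OZ_cent (X : Subgroup G) : OZ X ≤ C(X) := (Ohm1_le 2 _).trans inf_le_right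
theorem cent_OZ (X : Subgroup G) : X ≤ C(OZ X) := cents_symm (OZ_cent X)
theorem OZ_ab (X : Subgroup G) : Abelem 2 (OZ X) := abelem_Ohm1_center 2 X
theorem OZ_pg (X : Subgroup G) : PG 2 (OZ X) := abelem_pg Nat.prime_two (OZ_ab X)
theorem norm_OZ (X : Subgroup G) : N(X) ≤ N(OZ X) := norm_le_norm_Ohm1_center 2 X
theorem OZ_ne (h : PG 2 X) (h1 : X ≠ ⊥) : OZ X ≠ ⊥ := h.Ohm1_center_ne_bot h1
theorem mem_OZ : x ∈ OZ X ↔ x ∈ X ∧ x ∈ C(X) ∧ x * x = 1 :=
  ⟨fun h => ⟨OZ_le X h, OZ_cent X h, sq1 (OZ_ab X) h⟩, fun h => mem_Ohm1 ⟨h.1, h.2.1⟩ ((pow_two x).trans h.2.2)⟩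
theorem le_OZ (h : Abelem 2 A) (l : A ≤ X) (c : A ≤ C(X)) : A ≤ OZ X := abelem_le_Ohm1 h (le_inf l c)
theorem OZ_eq (h : Abelem 2 A) : OZ A = A := (OZ_le A).antisymm (le_OZ h le_rfl (comm_iff_le_cent.1 h.1))
/-- `Ω₁Z(S) ≤ Ω₁Z(R)` -/
theorem OZ_le_OZ (l : R ≤ S) (h : OZ S ≤ R) : OZ S ≤ OZ R :=
  le_OZ (OZ_ab S) h ((OZ_cent S).trans (cent_mono l))

theorem mod_cent (hp : p.Prime) (o : orderOf x = p) (n : x ∈ N(K)) : #K % p = #(K ⊓ C[x]) % p := by
  haveI := Fact.mk hp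
  have := H1.card_modEq_card_inf_centralizer (abelem_pg hp (abelem_zpowers
    (o ▸ pow_orderOf_eq_one x))).isPGroup (zpowers_le.2 n)
  rwa [cent_zpowers] at this

/-- a `2`-group meeting both an element of odd order -/
theorem mem_of_sq (hR : PG 2 R) (o : Odd (orderOf x)) (h : x * x ∈ R) : x = 1 := by
  have := (hR.elt h).coprime (PiN.of_not_dvd (p := 2) (n := orderOf x) (Odd.not_two_dvd_nat o))
  rw [← pow_two, Nat.Coprime.orderOf_pow (Nat.coprime_two_right.2 o), Nat.coprime_self] at this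
  exact orderOf_eq_one_iff.1 this

namespace O
variable (h : O G)
include h

theorem quo (hf : Function.Surjective f) : O R' := fun _ o => h _ (o.of_surj hf)

theorem sub (L : Subgroup G) : O L := fun _ o => h _ o.sub

theorem inj {i : R' →* G} (hi : Function.Injective i) : O R' := fun _ o => h _ (o.inj hi)

theorem qq (K : Subgroup G) : O (Quo K) := (h.sub N(K)).quo (qmk_surj K)

theorem le (x : G) : orderOf x ≤ 8 := h _ ⟨x, rfl⟩

theorem no (l : 8 < n) : ¬ Ord G n := fun o => (h n o).not_gt l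

theorem odd (hx : PiE {p} x) (p2 : p ≠ 2) (x1 : x ≠ 1) : orderOf x = p := by
  obtain ⟨k, e⟩ := hx.exists_pow (orderOf_pos x).ne'
  have := (hx.dvd_of_ne_one (mt orderOf_eq_one_iff.1 x1)).1.two_le
  rcases k with _ | _ | k
  · exact absurd (orderOf_eq_one_iff.1 e) x1
  · simpa using e
  · exact absurd (Ord.of_dvd ⟨x, e⟩ ⟨p ^ k, by ring⟩) (h.no (n := p * p) (by
      have : 3 ≤ p := by omega
      nlinarith))

theorem pow_odd (hx : PiE {p} x) (p2 : p ≠ 2) : x ^ p = 1 := by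
  by_cases x1 : x = 1
  · rw [x1, one_pow]
  · rw [← h.odd hx p2 x1, pow_orderOf_eq_one]

theorem three (hx : PiE {3} x) : x ^ 3 = 1 := h.pow_odd hx (by decide)

theorem prime (hp : p.Prime) (d : p ∣ Nat.card G) : p = 2 ∨ p = 3 ∨ p = 5 ∨ p = 7 := by
  have := h _ ((ord_prime hp).2 d)
  have := hp.two_le
  interval_cases p <;> first | omega | norm_num at hp

theorem big (l : 5 ≤ p) (d : p ∣ orderOf x) : orderOf x = p := by
  obtain ⟨k, e⟩ := d
  have := h.le x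
  have := orderOf_pos x
  rcases k with _ | _ | k
  · omega
  · omega
  · nlinarith

theorem cp (hp : p = 5 ∨ p = 7) (o : orderOf x = p) (c : y * x = x * y) : y ^ p = 1 := by
  have pp : p.Prime := by rcases hp with rfl | rfl <;> norm_num
  by_contra e
  rw [← orderOf_dvd_iff_pow_eq_one] at e
  have := h _ (ord_mul rfl o c ((Nat.Prime.coprime_iff_not_dvd pp).2 fun d =>
    e (h.big (by omega) d).dvd).symm)
  refine e ((show orderOf y = 1 by
    have := orderOf_pos y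
    rcases hp with rfl | rfl <;> omega) ▸ one_dvd p)

theorem eq1 (hp : p = 5 ∨ p = 7) (o : orderOf x = p) (c : y * x = x * y) (hy : PiE {p}ᶜ y) : y = 1 :=
  PiN.e_eq_one ((PiN.prime_pow (by rcases hp with rfl | rfl <;> norm_num) 1).dvd
    (by rw [pow_one]; exact orderOf_dvd_of_pow_eq_one (h.cp hp o c))) hy

theorem fix (hp : p = 5 ∨ p = 7) (hK : PiG {p}ᶜ K) (o : orderOf x = p) : K ⊓ C[x] = ⊥ :=
  eq_bot_iff.2 fun _ hy => h.eq1 hp o (mem_cent1.1 hy.2) (hK.elt hy.1)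

/-- elements of order `5` and `7` centralize no nontrivial `2`-element -/
theorem fix2 (o : orderOf x = 5 ∨ orderOf x = 7) (hK : PG 2 K) : K ⊓ C[x] = ⊥ :=
  h.fix o (hK.sing_ne (by omega)) rfl

theorem fd (hp : p = 5 ∨ p = 7) (hK : PiG {p}ᶜ K) (o : orderOf x = p) (n : x ∈ N(K)) : FD K x :=
  ⟨n, fun i i0 i1 => h.fix hp hK (by
    rw [Nat.Coprime.orderOf_pow (o ▸ Nat.coprime_of_lt_prime i0.ne' (o ▸ i1)
      (by rcases hp with rfl | rfl <;> norm_num)), o])⟩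

theorem mod (hp : p = 5 ∨ p = 7) (hK : PiG {p}ᶜ K) (o : orderOf x = p) (n : x ∈ N(K)) : #K % p = 1 := by
  rw [mod_cent (by rcases hp with rfl | rfl <;> norm_num) o n, h.fix hp hK o, card_bot]
  rcases hp with rfl | rfl <;> rfl

theorem commg (o : orderOf x = 5 ∨ orderOf x = 7) (hK : PG 2 K) (n : x ∈ N(K)) : ⁅K, zpowers x⁆ = K :=
  commg_eq_of_cent_eq_bot (zpowers_le.2 n) (hK.coprime (piG_zpowers.2 (.of_not_dvd (by omega))))
    (.inr hK.sol) (by rw [cent_zpowers, h.fix2 o hK])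

theorem eight (hx : PiE {2} x) : x ^ 8 = 1 := by
  obtain ⟨k, e⟩ := hx.exists_pow (orderOf_pos x).ne'
  have l : k < 4 := (Nat.pow_lt_pow_iff_right one_lt_two).1 (by have := h.le x; omega)
  exact orderOf_dvd_iff_pow_eq_one.1 (e ▸ pow_dvd_pow 2 (show k ≤ 3 by omega))

/-- no elements of order twelve -/
theorem e3 (o : orderOf x = 3) (c : y * x = x * y) (hy : PiE {2} y) : y * y = 1 := by
  have := h _ (ord_mul rfl o c (hy.coprime (PiN.of_not_dvd (p := 2) (by decide))))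
  rcases (Nat.dvd_prime_pow Nat.prime_two (m := 3)).1 (orderOf_dvd_of_pow_eq_one (h.eight hy)) with
    ⟨_ | _ | k, l, e⟩
  · simp [orderOf_eq_one_iff.1 e]
  · exact mul_self_of_two e
  · have : 4 ≤ 2 ^ (k + 1 + 1) := by rw [pow_succ, pow_succ]; have := Nat.two_pow_pos k; omega
    omega

theorem ab3 (o : orderOf y = 3) (hX : PG 2 X) (l : X ≤ C[y]) : Abelem 2 X :=
  abelem_sq fun _ hw => h.e3 o (mem_cent1.1 (l hw)) (hX.elt hw)

theorem c23' (hz : PiE {2} z) (z1 : z ≠ 1) : PiG {2, 3} C[z] := fun r hr d => by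
  obtain ⟨x, hx, o⟩ := exists_orderOf_eq_prime hr d
  rcases h.prime hr (d.trans (card_subgroup_dvd_card _)) with e | e | e
  · exact .inl e
  · exact .inr e
  · exact absurd (h.eq1 e o (mem_cent1.1 hx).symm (hz.sing_ne (by omega))) z1

theorem c23 (hD : PG 2 D) (D1 : D ≠ ⊥) : PiG {2, 3} C(D) :=
  let ⟨_, hz, z1⟩ := exists_ne_one D1
  (h.c23' (hD.elt hz) z1).of_le (cent_le_cent1 hz)

end O

theorem Ch.over (h : Ch X) (l : Oc {2} X ≤ Y) (l' : Y ≤ X) : Ch Y :=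
  have := Oc_le_Oc_of_le l' l
  (le_inf (inf_le_left.trans l') (inf_le_right.trans (cent_mono this))).trans (h.trans this)

theorem Ch.OZ_le (h : Ch X) (hS : Syl 2 S X) : OZ S ≤ OZ (Oc {2} X) :=
  OZ_le_OZ (Oc_le_hall hS) ((le_inf ((O8.OZ_le S).trans hS.le) ((OZ_cent S).trans
    (cent_mono (Oc_le_hall hS)))).trans h)

theorem LC.c1 (h : LC G) (hz : PiE {2} z) (z1 : z ≠ 1) : Ch C[z] :=
  cent_zpowers z ▸ (h _ (piG_zpowers.2 hz) (zpowers_ne_bot.2 z1)).2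

namespace P3
variable (k : P3 S R y)
include k

theorem y3 : y ^ 3 = 1 := k.o ▸ pow_orderOf_eq_one y
theorem pR : PG 2 R := k.pg.of_le k.le
theorem nS : S ≤ N(R) := k.pg.norm_of_index k.le k.idx Nat.prime_two
theorem norm : S ⊔ zpowers y ≤ N(R) := sup_le k.nS (zpowers_le.2 k.nR)
theorem ne1 : y ≠ 1 := fun e => by simpa [e] using k.o
theorem sq_not (hX : PG 2 X) : y * y ∉ X := fun h => k.ne1 (mem_of_sq hX (by rw [k.o]; decide) h)
theorem not_mem (hX : PG 2 X) : y ∉ X := fun h => k.sq_not hX (mul_mem h h)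
theorem ex : ∃ s ∈ S, s ∉ R := SetLike.not_le_iff_exists.1 fun l => by
  have := k.idx
  rw [relIndex_eq_one.2 l] at this
  omega
theorem mul (hs : s ∈ S) (ns : s ∉ R) (ht : t ∈ S) (nt : t ∉ R) : s * t ∈ R := by
  have := (mul_mem_iff_of_index_two (H := R.subgroupOf S) k.idx (a := ⟨s, hs⟩) (b := ⟨t, ht⟩)).2 (by
    simpa only [mem_subgroupOf] using iff_of_false ns nt)
  exact this
theorem cm (hs : s ∈ R) : s * y * s⁻¹ * y⁻¹ ∈ R := by
  simpa only [mul_assoc] using mul_mem hs (conj_mem_of_norm k.nR (inv_mem hs))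
theorem card_S : #S = #R * 2 := by rw [← card_mul_relIndex k.le, k.idx]
theorem n3 : S ≤ N(R ⊔ zpowers y) := fun s hs => mem_norm_of_cj_le (by
  rw [cj_sup, cj_of_mem_norm (k.nS hs), cj_zpowers]
  refine sup_le le_sup_left (zpowers_le.2 ?_)
  by_cases r : s ∈ R
  · simpa using mul_mem (mem_sup_left (k.cm r)) (mem_sup_right (mem_zpowers y))
  · simpa using mul_mem (mem_sup_left (k.inv s hs r)) (mem_sup_right (inv_mem (mem_zpowers y))))
theorem inf3 (hX : PG 2 X) : X ⊓ zpowers y = ⊥ :=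
  hX.inf_eq_bot (piG_zpowers.2 (.of_not_dvd (by rw [k.o]; decide)))
theorem card3 : #(R ⊔ zpowers y) = #R * 3 := by
  rw [card_sup_of_disjoint (zpowers_le.2 k.nR) (k.inf3 k.pR), Nat.card_zpowers, k.o]
theorem inf_eq : (R ⊔ zpowers y) ⊓ S = R := by
  rw [sup_inf_modl (zpowers_le.2 k.nR) k.le, inf_comm, k.inf3 k.pg, sup_bot_eq]
theorem card : #(S ⊔ zpowers y) = #S * 3 := by
  have := card_sup_mul_inf k.n3
  rw [k.inf_eq, k.card3, sup_right_comm, sup_eq_right.2 k.le] at this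
  exact Nat.eq_of_mul_eq_mul_right (card_pos R) (by rw [this]; ring)
theorem idx3 : S.relIndex (S ⊔ zpowers y) = 3 :=
  Nat.eq_of_mul_eq_mul_left (card_pos S) (by rw [card_mul_relIndex le_sup_left, k.card])
theorem syl : Syl 2 S (S ⊔ zpowers y) := syl_mk le_sup_left k.pg (by rw [k.idx3]; decide)
theorem pi : PiG {2, 3} (S ⊔ zpowers y : Subgroup G) :=
  by unfold PiG; rw [k.card]; exact (k.pg.sing (by simp)).mul ((piN_prime Nat.prime_three).2 (by simp))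
theorem sol : Sol (S ⊔ zpowers y : Subgroup G) := sol23 k.pi
/-- a subgroup of `S` normalized by `y` lies in `R` -/
theorem le_of (l : X ≤ S) (n : y ∈ N(X)) : X ≤ R := fun x hx => by_contra fun r => k.sq_not k.pg (by
  have := mul_mem (inv_mem (l (mul_mem hx (conj_mem_of_norm n (inv_mem hx))))) (k.le (k.inv x (l hx) r))
  simpa only [mul_inv_rev, inv_inv, mul_assoc, inv_mul_cancel_left, mul_inv_cancel_left] using this)
theorem nN : y ∉ N(S) := fun n => let ⟨_, hs, r⟩ := k.ex; r (k.le_of le_rfl n hs)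
theorem Oc_eq : Oc {2} (S ⊔ zpowers y) = R :=
  (k.le_of (Oc_le_hall k.syl) (Oc_norm _ _ (mem_sup_right (mem_zpowers y)))).antisymm
    (le_Oc ⟨k.le.trans le_sup_left, k.norm⟩ k.pR)
theorem ch (h : (S ⊔ zpowers y) ⊓ C(R) ≤ R) : Ch (S ⊔ zpowers y) := by rwa [Ch, k.Oc_eq]
theorem mem_of_sq (h : y * y ∈ X) : y ∈ X := by
  have : y = y * y * (y * y) := by
    rw [eq_comm, show y * y * (y * y) = y ^ 3 * y by simp only [pow_succ, pow_zero, one_mul, mul_assoc], k.y3, one_mul]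
  exact this ▸ mul_mem h h
/-- `y ∈ ⟨R, s, s ^ y⟩` -/
theorem cent' (l : R ≤ X) (hs : s ∈ S) (r : s ∉ R) (h1 : s ∈ X) (h2 : y * s * y⁻¹ ∈ X) : y ∈ X := k.mem_of_sq (by
  have := inv_mem (mul_mem (inv_mem (l (k.inv s hs r))) (mul_mem h1 (inv_mem h2)))
  rwa [show ((s * y * s⁻¹ * y)⁻¹ * (s * (y * s * y⁻¹)⁻¹))⁻¹ = y * y by rw [← pow_two]; group] at this)
theorem cent (l : S ≤ X) (l' : cj y S ≤ X) : y ∈ X :=
  let ⟨_, hs, r⟩ := k.ex; k.cent' (k.le.trans l) hs r (l hs) (l' (conj_mem_cj.2 hs))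
/-- a subgroup normalized by `y` and containing `S` contains `y` -/
theorem gen (l : S ≤ X) (n : y ∈ N(X)) : y ∈ X := k.cent l (cj_le_of_mem_norm n l)

theorem cases (hx : x ∈ R ⊔ zpowers y) : x ∈ R ∨ x * y⁻¹ ∈ R ∨ x * y ∈ R := by
  classical
  obtain ⟨r, hr, b, hb, rfl⟩ := (mem_sup_of_norm (zpowers_le.2 k.nR)).1 hx
  obtain ⟨i, hi, rfl⟩ := Finset.mem_image.1 (mem_zpowers_iff_mem_range_orderOf.1 hb)
  rw [k.o, Finset.mem_range] at hi
  interval_cases i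
  · exact .inl (by simpa using hr)
  · exact .inr (.inl (by simpa using hr))
  · exact .inr (.inr (by rw [mul_assoc, ← pow_succ, k.y3, mul_one]; exact hr))
theorem inv' : P3 S R y⁻¹ := ⟨k.pg, k.le, k.idx, (orderOf_inv y).trans k.o, inv_mem k.nR, fun s hs r => by
  have := conj_mem_of_norm k.nR (inv_mem (k.inv s hs r))
  rwa [show y * (s * y * s⁻¹ * y)⁻¹ * y⁻¹ = s * y⁻¹ * s⁻¹ * y⁻¹ by group] at this⟩
theorem congr' (o : orderOf x = 3) (h : x * y⁻¹ ∈ R) : P3 S R x := by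
  obtain ⟨r, hr, rfl⟩ : ∃ r ∈ R, x = r * y := ⟨_, h, by group⟩
  refine ⟨k.pg, k.le, k.idx, o, mul_mem (le_normalizer hr) k.nR, fun s hs n => ?_⟩
  have := mul_mem (mul_mem (conj_mem_of_norm (k.nS hs) hr) (k.inv s hs n)) (conj_mem_of_norm' k.nR hr)
  rwa [show s * r * s⁻¹ * (s * y * s⁻¹ * y) * (y⁻¹ * r * y) = s * (r * y) * s⁻¹ * (r * y) by group] at this
/-- any element of order three of `R⟨y⟩` will do -/
theorem congr (o : orderOf x = 3) (hx : x ∈ R ⊔ zpowers y) : P3 S R x := by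
  rcases k.cases hx with h | h | h
  · exact absurd (k.pR.elt h 3 Nat.prime_three o.symm.dvd) (by decide)
  · exact k.congr' o h
  · exact k.inv'.congr' o (by rwa [inv_inv])
/-- the elements of order three of `⟨S, y⟩` -/
theorem mem3 (o : orderOf x = 3) (hx : x ∈ S ⊔ zpowers y) : x ∈ R ⊔ zpowers y := by
  have n : S ⊔ zpowers y ≤ N(R ⊔ zpowers y) := sup_le k.n3 (norms_of_le le_sup_right)
  have l : R ⊔ zpowers y ≤ S ⊔ zpowers y := sup_le_sup_right k.le _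
  refine zpowers_le.1 (le_of_pi_of_relIndex (π := {3}) ((zpowers_le.2 hx).trans n) l (zpowers_le.2 hx)
    (.of_card Nat.prime_three (by rw [Nat.card_zpowers, o])) (.of_not_dvd ?_))
  have := card_mul_relIndex l
  rw [k.card3, k.card, k.card_S] at this
  rw [Nat.eq_of_mul_eq_mul_left (Nat.mul_pos (card_pos R) three_pos) (this.trans (by ring : _ = #R * 3 * 2))]
  decide
theorem sup_eq (o : orderOf x = 3) (hx : x ∈ S ⊔ zpowers y) : S ⊔ zpowers x = S ⊔ zpowers y :=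
  eq_of_le_of_card_eq (sup_le le_sup_left (zpowers_le.2 hx)) ((k.congr o (k.mem3 o hx)).card.trans k.card.symm)

end P3

/-- the order of `S⟨c⟩` in `CZ` -/
theorem card_cz (hS : PG 2 S) (o : orderOf c = 3) (h : c ∈ N(S) ∨ P3 S R c) : #(S ⊔ zpowers c) = #S * 3 :=
  h.elim (fun n => by
    rw [card_sup_of_disjoint (zpowers_le.2 n) (hS.inf_eq_bot (piG_zpowers.2 (.of_not_dvd (by rw [o]; decide)))),
      Nat.card_zpowers, o]) P3.card

namespace Lc
variable (k : Lc M Q)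
include k

theorem nQ : M ≤ N(Q) := k.nm.ge
theorem le : Q ≤ M := k.nm ▸ le_normalizer
theorem nrm : Q ⊴ M := ⟨k.le, k.nQ⟩
theorem le_syl (hS : Syl 2 S M) : Q ≤ S := hS.le_of_norm' k.le k.pg (hS.le.trans k.nQ)
theorem nV : M ≤ N(OZ Q) := k.nQ.trans (norm_OZ Q)
theorem V1 : OZ Q ≠ ⊥ := OZ_ne k.pg k.ne
theorem OZ_le (l : Q ≤ S) : OZ S ≤ OZ Q := OZ_le_OZ l ((OZ_cent S).trans ((cent_mono l).trans k.cq))
theorem norm_eq (hD : PG 2 D) (D1 : D ≠ ⊥) (n : M ≤ N(D)) : N(D) = M := (k.mx D hD D1 n).antisymm n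

variable (h : O G)
include h

theorem cw (hW : PG 2 W) (W1 : W ≠ ⊥) (n : M ≤ N(W)) : M ⊓ C(W) ≤ Q := by_contra fun c => by
  obtain ⟨x, hx, o⟩ := k.sim _ (inf_cent_normal n) c
  exact W1 ((inf_eq_left.2 (le_cent1_iff.2 hx.2)).symm.trans (h.fix2 o hW))

theorem cw' (hW : PG 2 W) (W1 : W ≠ ⊥) (n : M ≤ N(W)) : C(W) ≤ Q :=
  (le_inf ((cent_le_norm W).trans (k.mx W hW W1 n)) le_rfl).trans (k.cw h hW W1 n)

/-- elements of `M` outside `Q` act nontrivially on `Q / V` -/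
theorem fpf (n : M ≤ N(V)) (l : A ≤ M) (c : ⁅Q, A⁆ ≤ V) (nA : ¬ A ≤ Q) : Q ≤ V := by
  let X : Subgroup G := M ⊓ qpre V C(quo V Q)
  have e : ∀ {B}, B ≤ M → (B ≤ X ↔ ⁅Q, B⁆ ≤ V) := fun {B} l => by
    rw [le_inf_iff, and_iff_right l, ← quo_le_iff (l.trans n), quo_cents_iff (l.trans n) (k.le.trans n),
      commutator_comm]
  obtain ⟨x, hx, o⟩ := k.sim X ⟨inf_le_left, norms_inf le_normalizer (norms_qpre n (norms_cent (quo_norms k.nQ)))⟩
    fun l' => nA (((e l).2 c).trans l')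
  exact (h.commg o k.pg (k.nQ hx.1)).ge.trans ((e (zpowers_le.2 hx.1)).1 (zpowers_le.2 hx))

theorem fp5 : Fp 5 M Q := fun _ _ o => h.fix2 (.inl o) k.pg

end Lc

/-- the offender inequality -/
theorem off (hA : H9.MaxAb 2 S A) (l : Q ≤ S) (hW : Abelem 2 W) (lW : W ≤ Q) (c : A ⊓ Q ≤ C(W)) :
    #W ≤ #(W ⊓ A) * Q.relIndex A := by
  have h1 := hA.card_le (B := A ⊓ Q ⊔ W) (sup_le (inf_le_left.trans hA.le) (lW.trans l))
    (H9.abE_iff_ea.2 (abelem_sup (abelem_mono hA.ea inf_le_left) hW c))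
  have h2 := card_sup_mul_inf (norms_of_cents (cents_symm c))
  rw [inf_assoc, inf_eq_right.2 lW, inf_comm A W] at h2
  rw [← card_inf_mul_relIndex Q A, inf_comm Q A] at h1
  refine Nat.le_of_mul_le_mul_left ?_ (card_pos (A ⊓ Q))
  rw [← h2]
  calc _ ≤ #(A ⊓ Q) * Q.relIndex A * #(W ⊓ A) := Nat.mul_le_mul_right _ h1
    _ = _ := by ring

theorem JT_eq (S : Subgroup G) : JT S = H9.JJ 2 S := H9.thompsonSubgroupOf_eq 2 S
theorem JT_le (S : Subgroup G) : JT S ≤ S := JT_eq S ▸ H9.JJ_le 2 S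
theorem norm_JT (S : Subgroup G) : N(S) ≤ N(JT S) := JT_eq S ▸ H9.normalizer_le_normalizer_JJ 2 S
theorem JT_of_le (h1 : JT S ≤ R) (h2 : R ≤ S) : JT R = JT S := by
  rw [JT_eq S] at h1 ⊢; rw [JT_eq]; exact H9.JJ_eq_of_le h1 h2
theorem JT_ne (hS : PG 2 S) (S1 : S ≠ ⊥) : JT S ≠ ⊥ :=
  JT_eq S ▸ H9.JJ_ne_bot_of_isPGroup hS.isPGroup S1
theorem exists_off (h : ¬ JT S ≤ Q) : ∃ A, H9.MaxAb 2 S A ∧ ¬ A ≤ Q := by
  rw [JT_eq, H9.JJ_le_iff] at h
  simpa using h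
theorem JT_self (h : Abelem 2 A) : JT A = A := (JT_le A).antisymm (JT_eq A ▸ H9.MaxAb.le_JJ
  ⟨le_rfl, H9.abE_iff_ea.2 h, fun _ l _ => card_le l⟩)

theorem two_pow_mod (hX : PG 2 X) (X1 : X ≠ ⊥) (l : #X ≤ 64) (e : #X % 5 = 1) : #X = 16 := by
  obtain ⟨k, c⟩ := hX.exists_card
  have := ne_bot_iff_one_lt_card.1 X1
  rw [c] at this l e ⊢
  have : k < 7 := (Nat.pow_lt_pow_iff_right one_lt_two).1 (by omega)
  interval_cases k <;> omega

/-- failure of factorization on a free module -/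
theorem ff16 (h : O G) (k : Lc M Q) (l : Q ≤ S) (rk : Rk Q S) (fr : Free M Q S) (x5 : ∃ x ∈ M, orderOf x = 5)
    (nJ : ¬ JT S ≤ Q) : #(OZ Q) = 16 := by
  obtain ⟨A, hA, nA⟩ := exists_off nJ
  obtain ⟨a, ha, na⟩ := SetLike.not_le_iff_exists.1 nA
  obtain ⟨x, hx, o⟩ := x5
  have a2 := sq1 hA.ea ha
  have h1 := off hA l (OZ_ab Q) (OZ_le Q) (inf_le_right.trans (cent_OZ Q))
  have h2 := rk.2 A hA.le fun b hb => sq1 hA.ea hb ▸ one_mem Q
  have h3 := fr a (hA.le ha) na (a2 ▸ one_mem Q) _ (OZ_ab Q) (OZ_le Q) k.nV (.inl a2)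
  have h4 := card_le (inf_le_inf_left (OZ Q) (hA.comm.trans (cent_le_cent1 ha)))
  have h5 := card_pos (OZ Q ⊓ C[a])
  refine two_pow_mod (OZ_pg Q) k.V1 ?_ (h.mod (.inl rfl) ((OZ_pg Q).sing_ne (by decide)) o (k.nV hx))
  have : #(OZ Q ⊓ C[a]) ≤ 4 := Nat.le_of_mul_le_mul_left (h3 ▸ h1.trans (Nat.mul_le_mul h4 h2)) h5
  nlinarith

theorem TA.le (k : TA M Q S y) : Q ≤ S := k.lc.le_syl k.syl
theorem TA.rk (k : TA M Q S y) : Rk Q S :=
  ⟨k.idx ▸ by decide, fun _ l _ => k.idx ▸ relIndex_le_of_le_right l (relIndex_ne_zero' _ _)⟩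

namespace S4
variable (k : S4 M Q T R y)
include k

theorem leT : Q ≤ T := k.le.trans k.p.le
theorem idx8 : Q.relIndex T = 8 := by rw [← relIndex_mul_relIndex Q R T k.le k.p.le, k.idx, k.p.idx]
theorem card : #R = #Q * 4 := by rw [← card_mul_relIndex k.le, k.idx]
theorem ne : ¬ R ≤ Q := fun l => by have := k.idx; rw [relIndex_eq_one.2 l] at this; omega

variable (nQ : M ≤ N(Q))
include nQ

/-- `y` acts irreducibly on `R / Q` -/
theorem ir (l : Q ≤ X) (l' : X ≤ R) (n : y ∈ N(X)) : X = Q ∨ X = R := by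
  have e := relIndex_mul_relIndex Q X R l l'
  rw [k.idx] at e
  rcases (Nat.dvd_prime_pow Nat.prime_two (m := 2)).1 (Dvd.intro _ e) with ⟨_ | _ | i, hi, c⟩
  · exact .inl ((relIndex_eq_one.1 c).antisymm l)
  · refine .inl (le_antisymm (fun x hx => by_contra fun nx => nx (k.fp x (l' hx) ?_)) l)
    have h1 := conj_mem_of_norm n hx
    refine (mul_mem_iff_of_index_two (H := Q.subgroupOf X) c (a := ⟨_, h1⟩) (b := ⟨_, inv_mem hx⟩)).2 ?_
    simp only [mem_subgroupOf, inv_mem_iff]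
    refine iff_of_false (fun q => nx ?_) nx
    simpa only [mul_assoc, inv_mul_cancel_left, inv_mul_cancel, mul_one] using conj_mem_of_norm' (nQ k.yM) q
  · obtain rfl : i = 0 := by omega
    rw [c] at e
    exact .inr (l'.antisymm (relIndex_eq_one.1 (by omega)))

end S4

namespace D8
variable (k : D8 M Q T R₁ R₂ y₁ y₂)
include k

theorem swap : D8 M Q T R₂ R₁ y₂ y₁ := ⟨k.lc, k.syl, k.s2, k.s1, k.ne.symm, fun t a b => (k.el t a b).symm,
  fun W₀ W a b c d e f v hv h => by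
    obtain ⟨x, hx, y, hy, rfl, h1, h2⟩ := k.st W₀ W a b c d e f v hv h
    have n : ∀ {t}, t ∈ T ⊔ zpowers y₂ → t ∈ N(W₀) := fun ht => c (sup_le k.syl.le (zpowers_le.2 k.s2.yM) ht)
    have w := e (commutator_mem_commutator hx (b hy))
    refine ⟨⁅x, y⁆ * y, mul_mem (a w) hy, x, hx, by group, fun t ht => ?_, h1⟩
    have := mul_mem (mul_mem (conj_mem_of_norm (n ht) w) (h2 t ht)) (inv_mem w)
    rwa [show t * ⁅x, y⁆ * t⁻¹ * (t * y * t⁻¹ * y⁻¹) * ⁅x, y⁆⁻¹ = t * (⁅x, y⁆ * y) * t⁻¹ * (⁅x, y⁆ * y)⁻¹ by group]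
      at this, k.ty⟩

theorem le : Q ≤ T := k.s1.leT
theorem nle : ¬ R₁ ≤ R₂ := fun l => k.ne (eq_of_le_of_card_eq l (k.s1.card.trans k.s2.card.symm))
theorem sup : R₁ ⊔ R₂ = T :=
  (eq_of_prime_index le_sup_right (sup_le k.s1.p.le k.s2.p.le) (k.s2.p.idx ▸ Nat.prime_two)).resolve_left
    fun e => k.nle (le_sup_left.trans e.le)
theorem ny : y₂ ∉ T ⊔ zpowers y₁ := fun h => k.nle (k.s2.p.le_of k.s1.p.le (k.s1.p.norm h))
theorem gen : T ⊔ zpowers y₁ ⊔ zpowers y₂ = M :=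
  (k.s1.mx _ le_sup_left (sup_le (sup_le k.syl.le (zpowers_le.2 k.s1.yM)) (zpowers_le.2 k.s2.yM))).resolve_left
    fun e => k.ny (e.le (mem_sup_right (mem_zpowers _)))
theorem card_inf : #(R₁ ⊓ R₂) = #Q * 2 := by
  have := card_sup_mul_inf (k.s2.p.le.trans k.s1.p.nS)
  rw [k.sup, k.s1.p.card_S, k.s1.card, k.s2.card] at this
  exact Nat.eq_of_mul_eq_mul_left (Nat.mul_pos (Nat.mul_pos (card_pos Q) four_pos) two_pos) (this.trans (by ring))
theorem exa : ∃ a ∈ R₁ ⊓ R₂, a ∉ Q := SetLike.not_le_iff_exists.1 fun l => by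
  have := card_le l
  have := k.card_inf
  have := card_pos Q
  omega
theorem el' (l : A ≤ T) (s : ∀ a ∈ A, a * a ∈ Q) : A ≤ R₁ ∨ A ≤ R₂ := by
  by_contra! n
  obtain ⟨a, ha, na⟩ := SetLike.not_le_iff_exists.1 n.1
  obtain ⟨b, hb, nb⟩ := SetLike.not_le_iff_exists.1 n.2
  have a2 := (k.el a (l ha) (s a ha)).resolve_left na
  have b1 := (k.el b (l hb) (s b hb)).resolve_right nb
  rcases k.el _ (l (mul_mem ha hb)) (s _ (mul_mem ha hb)) with h | h
  exacts [na ((mul_mem_cancel_right b1).1 h), nb ((mul_mem_cancel_left a2).1 h)]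
theorem rk : Rk Q T := ⟨k.s1.idx8.dvd, fun _ l s => (k.el' l s).elim
  (fun h => k.s1.idx ▸ relIndex_le_of_le_right h (relIndex_ne_zero' _ _))
  fun h => k.s2.idx ▸ relIndex_le_of_le_right h (relIndex_ne_zero' _ _)⟩
theorem ch : Ch (T ⊔ zpowers y₁) :=
  k.s1.p.ch (inf_le_right.trans ((cent_mono k.s1.le).trans (k.lc.cq.trans k.s1.le)))
theorem big : ∃ x ∈ M, orderOf x = 5 ∨ orderOf x = 7 :=
  k.lc.sim M (.refl M) fun l => k.s1.p.not_mem k.lc.pg (l k.s1.yM)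

end D8

end H13.O8
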