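import Cfsg.Agent.H24.OB1

/-! # Groups with element orders at most eight: modules and identities in permutation modules -/

set_option autoImplicit false
set_option linter.unusedSectionVars false

open Cfsg
namespace H13.O8

open H19 Subgroup H5 H5.FP H2.GW
open scoped Pointwise commutatorElement MatrixGroups

universe u

/-- what is known about the action of `G / O₂(G)` on an elementary abelian section -/
structure Md {K W : Type*} [Group K] [CommGroup W] (ρ : K →* MulAut W) : Prop where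
  sq : ∀ w : W, w * w = 1
  nm : ∀ g : K, 4 < orderOf g → ∀ w, ∏ i ∈ Finset.range (orderOf g), ρ (g ^ i) w = 1
  cy : ∀ y t : K, orderOf y = 3 → PiE {2} t → t * y = y * t → ∀ w, ρ y w = w → ρ t w = w

/-- the stabilizer of `w` -/
def Fx {K W : Type*} [Group K] [CommGroup W] (ρ : K →* MulAut W) (w : W) : Subgroup K :=
  (MulAction.stabilizer (MulAut W) w).comap ρ

/-- the value of a word -/
def wd {K : Type*} [Group K] (gs : List K) (w : List ℕ) : K := (w.map fun i => gs.getD i 1).prod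

def orbL {K : Type*} [Group K] (gs : List K) (p : ℕ) (q : List ℕ × List ℕ) : List K :=
  (List.range p).map fun i => wd gs q.1 ^ i * wd gs q.2

/-- `l` and the orbits `ob` cancel in pairs modulo the subgroup generated by `gT` -/
def Chk {K : Type*} [Group K] (gs gT : List K) (p : ℕ) (l : List K) (ob : List (List ℕ × List ℕ))
    (pr : List (ℕ × ℕ × List ℕ)) : Prop :=
  (∀ q ∈ ob, wd gs q.1 ^ p = 1 ∧ wd gs q.1 ≠ 1) ∧
    (pr.flatMap fun q => [q.1, q.2.1]).Perm (List.range (l ++ ob.flatMap (orbL gs p)).length) ∧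
    ∀ q ∈ pr, (l ++ ob.flatMap (orbL gs p)).getD q.2.1 1 = (l ++ ob.flatMap (orbL gs p)).getD q.1 1 * wd gT q.2.2

instance Chk.dec {K : Type*} [Group K] [DecidableEq K] (gs gT : List K) (p : ℕ) (l : List K)
    (ob : List (List ℕ × List ℕ)) (pr : List (ℕ × ℕ × List ℕ)) : Decidable (Chk gs gT p l ob pr) := by
  unfold Chk; infer_instance

section
variable {K K' W : Type*} [Group K] [Group K'] [CommGroup W] {ρ : K →* MulAut W} {w c : W} {g x y s t : K} {p : ℕ}

theorem mem_Fx : g ∈ Fx ρ w ↔ ρ g w = w := Iff.rfl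

theorem wd_mem {H : Subgroup K} {gs : List K} (h : ∀ g ∈ gs, g ∈ H) (l : List ℕ) : wd gs l ∈ H :=
  H.list_prod_mem fun g hg => by
    obtain ⟨i, -, rfl⟩ := List.mem_map.1 hg
    rw [List.getD_eq_getElem?_getD]
    cases e : gs[i]? with
    | none => exact one_mem H
    | some a => exact h a (List.mem_of_getElem? e)

theorem act_mul (g h : K) (w : W) : ρ (g * h) w = ρ g (ρ h w) := by rw [map_mul, MulAut.mul_apply]

theorem Fx_mul (h1 : g ∈ Fx ρ w) (h2 : g ∈ Fx ρ c) : g ∈ Fx ρ (w * c) := by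
  rw [mem_Fx, map_mul, mem_Fx.1 h1, mem_Fx.1 h2]

theorem Fx_act (e : g * s = s * t) (h : t ∈ Fx ρ w) : g ∈ Fx ρ (ρ s w) := by
  rw [mem_Fx, ← act_mul, e, act_mul, mem_Fx.1 h]

theorem Fx_D (h1 : g ∈ Fx ρ w) (e : g * s = s * t) (h : t ∈ Fx ρ w) : g ∈ Fx ρ (w * ρ s w) :=
  Fx_mul h1 (Fx_act e h)

namespace Md
variable (k : Md ρ)
include k

theorem comp {i : K' →* K} (hi : Function.Injective i) : Md (ρ.comp i) :=
  ⟨k.sq, fun g o w => by
      have := k.nm (i g) (by rwa [orderOf_injective i hi]) w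
      simpa only [orderOf_injective i hi, MonoidHom.comp_apply, map_pow] using this,
    fun y t o ht e => k.cy (i y) (i t) ((orderOf_injective i hi y).trans o) (by
      unfold PiE; rwa [orderOf_injective i hi]) (by rw [← map_mul, e, map_mul])⟩

theorem eq_of (h : w * c = 1) : w = c := by rw [← mul_one w, ← k.sq c, ← mul_assoc, h, one_mul]

/-- elements of order `5` and `7` are fixed point free -/
theorem fp (hp : p = 5 ∨ p = 7) (hx : x ^ p = 1) (x1 : x ≠ 1) (h : x ∈ Fx ρ w) : w = 1 := by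
  have o : orderOf x = p := orderOf_eq_prime (hp := ⟨by rcases hp with rfl | rfl <;> norm_num⟩) hx x1
  have := k.nm x (by omega) w
  rw [Finset.prod_congr rfl fun i _ => mem_Fx.1 (pow_mem h i), Finset.prod_const, Finset.card_range, o] at this
  rcases hp with rfl | rfl <;> simpa only [pow_succ, pow_zero, one_mul, k.sq] using this

theorem cert (hp : p = 5 ∨ p = 7) {gs gT l : List K} {ob : List (List ℕ × List ℕ)} {pr : List (ℕ × ℕ × List ℕ)}
    (hT : ∀ g ∈ gT, g ∈ Fx ρ c) (h : Chk gs gT p l ob pr) : (l.map fun g => ρ g c).prod = 1 := by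
  obtain ⟨h1, h2, h3⟩ := h
  have e1 : ((ob.flatMap (orbL gs p)).map fun g => ρ g c).prod = 1 := by
    rw [List.map_flatMap, List.flatMap_def, List.prod_flatten, List.map_map]
    refine List.prod_eq_one fun a ha => ?_
    obtain ⟨q, hq, rfl⟩ := List.mem_map.1 ha
    have o : orderOf (wd gs q.1) = p :=
      orderOf_eq_prime (hp := ⟨by rcases hp with rfl | rfl <;> norm_num⟩) (h1 q hq).1 (h1 q hq).2
    have := k.nm (wd gs q.1) (by omega) (ρ (wd gs q.2) c)
    rw [o, Finset.prod_range, Fin.prod_univ_def] at this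
    simp only [Function.comp, orbL, List.map_map]
    rw [← this, ← List.map_coe_finRange_eq_range, List.map_map]
    simp only [Function.comp_def, act_mul]
  suffices ((l ++ ob.flatMap (orbL gs p)).map fun g => ρ g c).prod = 1 by
    rwa [List.map_append, List.prod_append, e1, mul_one] at this
  generalize l ++ ob.flatMap (orbL gs p) = L at h2 h3
  have e2 : L = (List.range L.length).map fun i => L.getD i 1 :=
    List.ext_getElem (by simp) fun i h _ => by simp [h]
  rw [e2, List.map_map, ← (h2.map _).prod_eq, List.map_flatMap, List.flatMap_def, List.prod_flatten, List.map_map]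
  refine List.prod_eq_one fun a ha => ?_
  obtain ⟨q, hq, rfl⟩ := List.mem_map.1 ha
  simp only [Function.comp, List.map_cons, List.map_nil, List.prod_cons, List.prod_nil, mul_one, h3 q hq, act_mul,
    mem_Fx.1 (wd_mem hT _), k.sq]

/-- `g` fixes the sum over `l` -/
theorem cert' {gT l : List K} {pr : List (ℕ × ℕ × List ℕ)} (hT : ∀ g ∈ gT, g ∈ Fx ρ c)
    (h : Chk [] gT 5 (l.map (g * ·) ++ l) [] pr) : g ∈ Fx ρ (l.map fun g => ρ g c).prod := by
  have := k.cert (.inl rfl) hT h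
  rw [List.map_append, List.prod_append] at this
  rw [mem_Fx, map_list_prod, List.map_map, ← k.eq_of this, List.map_map]
  simp only [Function.comp_def, act_mul]

/-- a `2`-element has fixed points on a nontrivial invariant subgroup -/
theorem nil {P : W → Prop} (hP : ∀ w, P w → P (w * ρ s w)) (n : ℕ) (hs : s ^ 2 ^ n = 1)
    (h : ∀ w, P w → s ∈ Fx ρ w → w = 1) (hw : P w) : w = 1 := by
  have key : ∀ n w, (fun w => w * ρ s w)^[2 ^ n] w = w * ρ (s ^ 2 ^ n) w := fun n => by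
    induction n with
    | zero => simp
    | succ n ih =>
      intro w
      rw [pow_succ, mul_two, Function.iterate_add_apply, ih, ih, map_mul, ← act_mul, ← pow_add, mul_assoc,
        ← mul_assoc (ρ _ w), k.sq, one_mul]
  have : ∀ m w, P w → (fun w => w * ρ s w)^[m] w = 1 → w = 1 := fun m => by
    induction m with
    | zero => exact fun w _ e => e
    | succ m ih => exact fun w hw e => h w hw (k.eq_of (ih _ (hP w hw) e)).symm
  exact this _ w hw (by rw [key, hs, map_one, MulAut.one_apply, k.sq])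

end Md
end

section
variable {G : Type u} [Group G] [Finite G] {K : Type*} [Group K] {f : G →* K} {V : Subgroup G}

theorem O.lift3 (h : O G) (hf : Function.Surjective f) {y : K} (o : orderOf y = 3) : ∃ x, orderOf x = 3 ∧ f x = y := by
  obtain ⟨x, rfl⟩ := hf y
  have d := o ▸ orderOf_map_dvd f x
  have := h.le x
  have := orderOf_pos x
  have e : f (x ^ 4) = f x := by rw [map_pow, pow_succ, ← o, pow_orderOf_eq_one, one_mul]
  refine ⟨x ^ 4, orderOf_of_pow Nat.prime_three (by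
    rw [← pow_mul, ← orderOf_dvd_iff_pow_eq_one]
    rcases (by omega : orderOf x = 3 ∨ orderOf x = 6) with e | e <;> simp [e]) fun c => ?_, e⟩
  rw [c, map_one] at e
  simp [← e] at o

theorem pi_lift (hk : PG 2 f.ker) {x : G} (ht : PiE {2} (f x)) : PiE {2} x :=
  (ht.mul hk).dvd (orderOf_dvd_of_pow_eq_one (by
    rw [pow_mul]
    exact orderOf_dvd_iff_pow_eq_one.1 (orderOf_dvd_card' (f.mem_ker.2 (by rw [map_pow, pow_orderOf_eq_one])))))

open scoped IsMulCommutative in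
theorem md0 (h : O G) (hf : Function.Surjective f) (hk : PG 2 f.ker) [V.Normal] [IsMulCommutative V] (hV : Abelem 2 V)
    (l : V ≤ f.ker) (c : f.ker ≤ C(V)) : ∃ ρ : K →* MulAut V, (∀ g v, (ρ (f g) v : G) = g * v * g⁻¹) ∧ Md ρ := by
  obtain ⟨ρ, hρ⟩ : ∃ ρ : K →* MulAut V, ∀ g v, (ρ (f g) v : G) = g * v * g⁻¹ :=
    ⟨f.liftOfSurjective hf ⟨MulAut.conjNormal, fun g hg => MulEquiv.ext fun v => Subtype.ext (by
      rw [MulAut.conjNormal_apply, ← mem_cent.1 (c hg) v v.2, mul_inv_cancel_right]; rfl)⟩, fun g v => by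
        rw [MonoidHom.liftOfRightInverse_comp_apply]; rfl⟩
  refine ⟨ρ, hρ, fun w => Subtype.ext (sq1 hV w.2), fun g o w => ?_, fun y t o ht e w hw => ?_⟩
  · obtain ⟨x, rfl⟩ := hf g
    have k : ∀ z, f z = f x → z ^ orderOf (f x) = 1 := fun z e => by
      rw [← h.big o (e ▸ orderOf_map_dvd f z), pow_orderOf_eq_one]
    have : ∀ n, (w * x) ^ n = (∏ i ∈ Finset.range n, ρ (f x ^ i) w : V) * x ^ n := fun n => by
      induction n with
      | zero => simp
      | succ n ih => rw [pow_succ, ih, Finset.prod_range_succ, coe_mul, ← map_pow, hρ]; group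
    have e := this (orderOf (f x))
    rw [k _ (by rw [map_mul, f.mem_ker.1 (l w.2), one_mul]), k x rfl, mul_one] at e
    exact Subtype.ext e.symm
  · obtain ⟨y, oy, rfl⟩ := h.lift3 hf o
    obtain ⟨t, rfl⟩ := hf t
    obtain ⟨r, hr, -, a⟩ := H24.OB.cy' h hk oy (le_normalizer_of_normal (mem_top y)) (le_normalizer_of_normal (mem_top t))
      (pi_lift hk ht) (f.mem_ker.2 (by simp [e]))
    have b := mem_cent.1 a w ⟨l w.2, mem_cent1.2 (mul_inv_eq_iff_eq_mul.1 ((hρ y w).symm.trans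
      (congrArg Subtype.val hw))).symm⟩
    refine Subtype.ext ?_
    rw [← mul_one (f t), ← f.mem_ker.1 hr, ← map_mul, hρ, ← b, mul_inv_cancel_right]

open scoped IsMulCommutative in
/-- a nontrivial kernel gives a nontrivial module -/
theorem md1 (h : O G) (hf : Function.Surjective f) (hk : PG 2 f.ker)
    (n : ∀ (W : Type u) [CommGroup W] [Finite W] (ρ : K →* MulAut W), Md ρ → ∀ w : W, w = 1) : f.ker = ⊥ := by
  by_contra k1
  haveI : (OZ f.ker).Normal := normalizer_eq_top_iff.1 (top_le_iff.1 ((normalizer_eq_top _).ge.trans (norm_OZ _)))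
  haveI := (OZ_ab f.ker).1
  obtain ⟨ρ, -, k⟩ := md0 h hf hk (OZ_ab f.ker) (OZ_le _) (cent_OZ _)
  obtain ⟨x, hx, x1⟩ := exists_ne_one (OZ_ne hk k1)
  exact x1 (congrArg Subtype.val (n _ ρ k ⟨x, hx⟩))

open scoped IsMulCommutative in
/-- the module of a section `W / W₀` -/
theorem md {M Q W₀ W : Subgroup G} {f : M →* K} (h : O G) (hf : Function.Surjective f)
    (hk : ∀ x : M, f x = 1 ↔ (x : G) ∈ Q) (hQ : PG 2 Q) (l : Q ≤ M) (l0 : W₀ ≤ W) (l1 : W ≤ Q) (n0 : M ≤ N(W₀))
    (n1 : M ≤ N(W)) (c : ⁅W, Q⁆ ≤ W₀) (sq : ∀ w ∈ W, w * w ∈ W₀) :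
    ∃ (X : Type u) (_ : CommGroup X) (_ : Finite X) (ρ : K →* MulAut X) (π : W →* X), Function.Surjective π ∧
      (∀ w, π w = 1 ↔ (w : G) ∈ W₀) ∧ (∀ (m : M) (w : W), ρ (f m) (π w) = π ⟨_, conj_mem_of_norm (n1 m.2) w.2⟩) ∧
      Md ρ := by
  haveI : (W₀.subgroupOf M).Normal := normal_subgroupOf_of_le_normalizer n0
  haveI : (W.subgroupOf M).Normal := normal_subgroupOf_of_le_normalizer n1
  have l2 : W₀.subgroupOf M ≤ f.ker := fun x hx => (hk x).2 (l1 (l0 hx))
  have hq := QuotientGroup.mk'_surjective (W₀.subgroupOf M)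
  set q := QuotientGroup.mk' (W₀.subgroupOf M)
  have q1 : ∀ {x : M}, q x = 1 ↔ (x : G) ∈ W₀ := QuotientGroup.eq_one_iff _
  haveI := Normal.map ‹(W.subgroupOf M).Normal› q hq
  have kr : (QuotientGroup.lift _ f l2).ker = (Q.subgroupOf M).map q := by
    rw [QuotientGroup.ker_lift]; congr 1; ext x; exact hk x
  have ab : Abelem 2 ((W.subgroupOf M).map q) := abelem_sq (by
    rintro _ ⟨w, hw, rfl⟩; rw [← map_mul, q1]; exact sq w hw)
  haveI := ab.1
  obtain ⟨ρ, hρ, k⟩ := md0 ((h.sub M).quo hq) (QuotientGroup.lift_surjective_of_surjective _ f hf l2)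
    (kr ▸ (hQ.dvd (card_subgroupOf' l).dvd).dvd (card_map_dvd _ _)) ab (kr ▸ map_mono (subgroupOf_mono M l1))
    (by
      rw [kr]
      rintro _ ⟨a, ha, rfl⟩
      refine mem_cent.2 ?_
      rintro _ ⟨w, hw, rfl⟩
      rw [← commutatorElement_eq_one_iff_mul_comm, ← map_commutatorElement, q1]
      exact c (commutator_mem_commutator hw ha))
  refine ⟨_, inferInstance, inferInstance, ρ, (q.comp (inclusion (l1.trans l))).codRestrict _ fun w =>
    mem_map_of_mem q w.2, ?_, fun w => Subtype.ext_iff.trans q1, fun m w => Subtype.ext (hρ (q m) _), k⟩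
  rintro ⟨_, w, hw, rfl⟩
  exact ⟨⟨w, hw⟩, rfl⟩

end

/-- an even permutation -/
def pa {n : ℕ} (σ : Equiv.Perm (Fin n)) (h : Equiv.Perm.sign σ = 1 := by decide) : alternatingGroup (Fin n) :=
  ⟨σ, Equiv.Perm.mem_alternatingGroup.2 h⟩

section
open Equiv.Perm
variable {W : Type*} [CommGroup W] {c : W}

def y5 : A5 := pa c[0, 1, 2]
def t5 : A5 := pa (c[0, 1] * c[3, 4])
def u5 : A5 := pa (c[0, 1] * c[2, 4])
def v5 : A5 := pa (c[0, 1] * c[2, 3])

/-- the pentagon identity -/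
theorem pent {ρ : A5 →* MulAut W} (k : Md ρ) (h1 : y5 ∈ Fx ρ c) (h2 : t5 ∈ Fx ρ c) :
    ∃ a b, c = a * b ∧ y5 ∈ Fx ρ a ∧ u5 ∈ Fx ρ a ∧ y5 ∈ Fx ρ b ∧ v5 ∈ Fx ρ b := by
  have hT : ∀ g ∈ [y5, t5], g ∈ Fx ρ c := by simp [h1, h2]
  have := k.cert (.inl rfl) hT (gs := [y5, t5, u5, v5]) (l := 1 :: ([1, u5, y5 * u5 * y5⁻¹, y5⁻¹ * u5 * y5] ++
    [1, v5, y5 * v5 * y5⁻¹, y5⁻¹ * v5 * y5])) (ob := [([3,0,1],[3]),([3,0,2],[2]),([1,3,0],[3])])
    (pr := [(0,1,[]),(6,9,[]),(3,12,[]),(5,13,[0,1]),(2,14,[]),(8,16,[1]),(11,17,[0,1]),(15,19,[0,0]),(18,20,[]),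
      (10,21,[0]),(7,22,[1]),(4,23,[0,0])]) (by decide +kernel)
  rw [List.map_cons, List.prod_cons, List.map_append, List.prod_append, map_one, MulAut.one_apply] at this
  exact ⟨_, _, k.eq_of this, k.cert' hT (pr := [(0,4,[0,0]),(3,5,[0,0]),(1,6,[0,0]),(2,7,[0,0])]) (by decide +kernel),
    k.cert' hT (pr := [(1,4,[]),(0,5,[]),(3,6,[]),(2,7,[])]) (by decide +kernel),
    k.cert' hT (pr := [(0,4,[0,0]),(3,5,[0,0]),(1,6,[0,0]),(2,7,[0,0])]) (by decide +kernel),
    k.cert' hT (pr := [(1,4,[]),(0,5,[]),(3,6,[]),(2,7,[])]) (by decide +kernel)⟩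

def a6 : A6 := pa c[0, 1, 2]
def b6 : A6 := pa c[3, 4, 5]
def s6 : A6 := pa (c[0, 3, 1, 4] * c[2, 5])
def r6 : A6 := pa (c[0, 1] * c[2, 3])

/-- a Sylow `3`-subgroup of `A₆` has no fixed points -/
theorem ten {ρ : A6 →* MulAut W} (k : Md ρ) (h1 : a6 ∈ Fx ρ c) (h2 : b6 ∈ Fx ρ c) : c = 1 := by
  refine k.nil (P := fun c => a6 ∈ Fx ρ c ∧ b6 ∈ Fx ρ c) (s := s6) (fun w h =>
    ⟨Fx_D h.1 (by decide +kernel) (inv_mem h.2), Fx_D h.2 (by decide +kernel) h.1⟩) 2 (by decide +kernel)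
    (fun c h h3 => ?_) ⟨h1, h2⟩
  · simpa using k.cert (.inl rfl) (gT := [a6, b6, s6]) (c := c) (by simp [h.1, h.2, h3]) (gs := [a6, b6, s6, r6])
      (l := [1]) (ob := [([1,2,1,3],[0,1,3]),([3,2,3,1],[0,3]),([0,3,2,3,2],[0,3])])
      (pr := [(0,7,[2,1,2]),(2,8,[1,2,2]),(3,10,[0,2,2,1,2]),(6,11,[]),(5,12,[1,1,2]),(1,13,[0,2,2,1,2]),
        (4,14,[0,2,2]),(9,15,[2,2,1,2])]) (by decide +kernel)

end

end H13.O8
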