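import Cfsg.Agent.H13.O81
import Cfsg.Agent.H25.AG4

/-! # Groups with element orders at most eight: the groups `Ty`, maximal local subgroups -/

set_option autoImplicit false
set_option linter.unusedSectionVars false

open Cfsg
namespace H13.O8

open H19 Subgroup H5 H5.FP H2.GW
open scoped Pointwise commutatorElement MatrixGroups

universe u

variable {G : Type u} [Group G] [Finite G] {K : Type u} [Group K] [Finite K] {L : Subgroup K} {p : ℕ}
  {D H M Q : Subgroup G}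

theorem simple32 : IsSimpleGroup L32 :=
  haveI : IsSimpleGroup PSL(3, ZMod 2) := H11.psl_simple (by simp)
  ((QuotientGroup.quotientMulEquivOfEq (card_eq_one.1 (H11.card_center_sl.trans (by simp)))).trans
    QuotientGroup.quotientBot : PSL(3, ZMod 2) ≃* L32).symm.isSimpleGroup

theorem cardA {S : Type*} [Group S] {n c : ℕ} (e : S ≃* alternatingGroup (Fin (n + 2)))
    (h : 2 * c = (n + 2).factorial) : Nat.card S = c :=
  Nat.eq_of_mul_eq_mul_left two_pos ((O6.card_alt e).trans h.symm)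

theorem card32 {S : Type*} [Group S] (e : S ≃* L32) : Nat.card S = 168 :=
  (Nat.card_congr e.toEquiv).trans H11.card_sl3_two

theorem L34.card {S : Type*} [Group S] (h : L34 S) : Nat.card S = 20160 :=
  let ⟨_, _, _, c, ⟨e⟩⟩ := h; (Nat.card_congr e.toEquiv).trans (H25.AG.card_l34 c)

theorem Ty.congr {S T : Type*} [Group S] [Group T] (h : Ty T) (e : S ≃* T) : Ty S := by
  rcases h with ⟨⟨a⟩⟩ | ⟨⟨a⟩⟩ | ⟨⟨a⟩⟩ | ⟨⟨a⟩⟩ | ⟨F, _, _, c, ⟨a⟩⟩
  exacts [.inl ⟨e.trans a⟩, .inr (.inl ⟨e.trans a⟩), .inr (.inr (.inl ⟨e.trans a⟩)),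
    .inr (.inr (.inr (.inl ⟨e.trans a⟩))), .inr (.inr (.inr (.inr ⟨F, _, _, c, ⟨e.trans a⟩⟩)))]

namespace Ty
variable {S : Type*} [Group S] (h : Ty S)
include h

theorem card : Nat.card S = 60 ∨ Nat.card S = 360 ∨ Nat.card S = 168 ∨ Nat.card S = 2520 ∨ Nat.card S = 20160 :=
  h.imp (fun ⟨e⟩ => cardA e (by decide)) (.imp (fun ⟨e⟩ => cardA e (by decide)) (.imp (fun ⟨e⟩ => card32 e)
    (.imp (fun ⟨e⟩ => cardA e (by decide)) L34.card)))

theorem simple : IsSimpleGroup S := by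
  rcases h with ⟨⟨e⟩⟩ | ⟨⟨e⟩⟩ | ⟨⟨e⟩⟩ | ⟨⟨e⟩⟩ | ⟨F, _, _, c, ⟨e⟩⟩
  · exact e.isSimpleGroup_congr.2 (alternatingGroup.isSimpleGroup (by simp))
  · exact e.isSimpleGroup_congr.2 (alternatingGroup.isSimpleGroup (by simp))
  · exact e.isSimpleGroup_congr.2 simple32
  · exact e.isSimpleGroup_congr.2 (alternatingGroup.isSimpleGroup (by simp))
  · exact e.isSimpleGroup_congr.2 (H11.psl_simple (by simp))

end Ty

theorem Ty.simple' (h : Ty L) (N : Subgroup K) (hN : N ⊴ L) : N = ⊥ ∨ N = L :=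
  haveI := h.simple
  hN.subgroupOf.eq_bot_or_eq_top.imp (fun e => by
    rwa [subgroupOf_eq_bot, disjoint_iff, inf_eq_left.2 hN.le] at e)
    fun e => hN.le.antisymm (subgroupOf_eq_top.1 e)

theorem Ty.big (h : Ty L) : ∃ x ∈ L, orderOf x = 5 ∨ orderOf x = 7 := by
  have : 5 ∣ #L ∨ 7 ∣ #L := by rcases h.card with e | e | e | e | e <;> simp [e]
  exact this.elim (fun d => let ⟨x, a, b⟩ := exists_orderOf_eq_prime (by norm_num) d; ⟨x, a, .inl b⟩)
    fun d => let ⟨x, a, b⟩ := exists_orderOf_eq_prime (by norm_num) d; ⟨x, a, .inr b⟩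

/-- a nontrivial normal subgroup of `K` contains `L` -/
theorem Ty.le (h : Ty L) [L.Normal] (c : C(L) = ⊥) (N : Subgroup K) [N.Normal] (N1 : N ≠ ⊥) : L ≤ N :=
  inf_eq_right.1 ((h.simple' (N ⊓ L) ⟨inf_le_right, le_normalizer_of_normal⟩).resolve_left fun e =>
    N1 (H19.eq_bot_mono (commutator_eq_bot_iff_le_centralizer.1 (H19.eq_bot_mono (commutator_le_inf ..) e)) c))

/-- the four types of non-solvable maximal `2`-local subgroups -/
def Tp (M Q : Subgroup G) : Prop := Iso M Q A5 ∨ Iso M Q S5 ∨ Iso M Q A6 ∨ Iso M Q L32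

theorem exM (ns : NS.{u}) (ix : IX.{u}) (x3 : X3.{u}) (x6 : X6.{u}) (x7 : X7.{u}) (x34 : X34.{u}) [IsSimpleGroup G]
    (h : O G) (hG : ¬ IsMulCommutative G) (ih : ∀ (S : Type u) [Group S] [Finite S] [IsSimpleGroup S],
      ¬ IsMulCommutative S → O S → Nat.card S < Nat.card G → Ty S)
    (hH : ¬ Sol H) (hp : p.Prime) (pD : PG p D) (D1 : D ≠ ⊥) (l : H ≤ N(D)) :
    ∃ M Q, H ≤ M ∧ Lc M Q ∧ ¬ Sol M ∧ Tp M Q := by
  obtain ⟨M, lM, ⟨nS, p, D, hp, pD, D1, nD⟩, mx⟩ := Finite.exists_le_maximal (p := fun M : Subgroup G =>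
    ¬ Sol M ∧ ∃ (p : ℕ) (D : Subgroup G), p.Prime ∧ PG p D ∧ D ≠ ⊥ ∧ M ≤ N(D)) ⟨hH, p, D, hp, pD, D1, l⟩
  have mx' : ∀ {p} {D : Subgroup G}, p.Prime → PG p D → D ≠ ⊥ → M ≤ N(D) → N(D) ≤ M := fun hp pD D1 l =>
    mx ⟨fun s => nS (sol_mono s l), _, _, hp, pD, D1, le_rfl⟩ l
  have M1 : M ≠ ⊤ := ne_top_mono nD fun e => by
    have := ((normalizer_eq_top_iff.1 e).eq_bot_or_eq_top.resolve_left D1 ▸ pD).sol
    exact nS (sol_mono this le_top)
  have h' := h.sub M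
  obtain ⟨K, _, _, f, L, hf, hk, _, hL, cL⟩ := ns M h' nS fun S _ _ _ a b l =>
    ih S a b (l.trans_lt (card_top (G := G) ▸ card_lt M1.lt_top))
  have mem : ∀ x : M, f x = 1 ↔ (x : G) ∈ f.ker.map M.subtype := fun x =>
    (mem_map_iff_mem M.subtype_injective (K := f.ker)).symm
  have sim : ∀ X, X ⊴ M → ¬ X ≤ f.ker.map M.subtype → L ≤ im f X := fun X hX n => by
    haveI := hX.subgroupOf
    haveI : (im f X).Normal := Normal.map ‹_› f hf
    exact hL.le cL _ fun e => n fun x hx => (mem ⟨x, hX.le hx⟩).1 (mem_bot.1 (e.le (mem_im_of hx)))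
  have lD : D ≤ f.ker.map M.subtype := by_contra fun n => by
    have d := (pD.im f).of_le (sim D ⟨le_normalizer.trans (mx' hp pD D1 nD), nD⟩ n)
    exact absurd ((d 2 Nat.prime_two (by rcases hL.card with e | e | e | e | e <;> simp [e])).trans
      (d 3 Nat.prime_three (by rcases hL.card with e | e | e | e | e <;> simp [e])).symm) (by decide)
  have Q1 := ne_bot_mono lD D1
  have k1 : f.ker ≠ ⊥ := fun e => Q1 (by rw [e, Subgroup.map_bot])
  have pQ : PG 2 (f.ker.map M.subtype) := by unfold PG PiG; rwa [card_subtype]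
  have nQ : M ≤ N(f.ker.map M.subtype) := (normalIn_map_subtype f.ker).2
  have sim' : ∀ X, X ⊴ M → ¬ X ≤ f.ker.map M.subtype → ∃ x ∈ X, orderOf x = 5 ∨ orderOf x = 7 := fun X hX n => by
    obtain ⟨a, ha, o⟩ := hL.big
    obtain ⟨x, hx, rfl⟩ := mem_im.1 (sim X hX n ha)
    have d : orderOf (f x) ∣ orderOf (x : G) := (orderOf_map_dvd f x).trans (orderOf_coe x).symm.dvd
    exact ⟨x, hx, o.imp (fun o => h.big le_rfl (o.symm.dvd.trans d)) fun o => h.big (by decide) (o.symm.dvd.trans d)⟩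
  have nm := (mx' Nat.prime_two pQ Q1 nQ).antisymm nQ
  refine ⟨M, _, lM, ⟨pQ, Q1, nm, by_contra fun n => ?_, fun D a b => mx' Nat.prime_two a b, sim'⟩, nS, ?_⟩
  · obtain ⟨x, hx, o⟩ := sim' _ ⟨(cent_le_norm _).trans nm.le, norms_cent nQ⟩ n
    exact Q1 ((inf_eq_left.2 (le_cent1_iff.2 hx)).symm.trans (h.fix2 o pQ))
  have iso : ∀ {T : Type} [Group T], (K ≃* T) → Iso M (f.ker.map M.subtype) T := fun e =>
    ⟨e.toMonoidHom.comp f, e.surjective.comp hf, fun x => by simpa using mem x⟩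
  have ix := ix K L (h'.quo hf) ‹_› hL
  rcases hL with ⟨⟨e⟩⟩ | ⟨⟨e⟩⟩ | ⟨⟨e⟩⟩ | e | e
  · rcases ix with rfl | i
    · exact .inl (iso (topEquiv.symm.trans e))
    · exact let ⟨e⟩ := O6.perm5 i.1 e cL; .inr (.inl (iso e))
  · rcases ix with rfl | i
    · exact .inr (.inr (.inl (iso (topEquiv.symm.trans e))))
    · exact (k1 (x6 M K f L h' hf hk i.1 ⟨e⟩ cL)).elim
  · rcases ix with rfl | i
    · exact .inr (.inr (.inr (iso (topEquiv.symm.trans e))))
    · exact (k1 (x3 M K f L h' hf hk i.1 ⟨e⟩)).elim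
  · exact (k1 (x7 M K f L h' hf hk e)).elim
  · exact (k1 (x34 M K f L h' hf hk e)).elim

theorem no8 : ¬ Ord A7 8 := fun ⟨x, o⟩ => by
  have : orderOf (x : Equiv.Perm (Fin 7)) ∣ 420 := by
    rw [← Equiv.Perm.lcm_cycleType, Multiset.lcm_dvd]
    intro n hn
    have := Equiv.Perm.two_le_of_mem_cycleType hn
    have := (Equiv.Perm.le_card_support_of_mem_cycleType hn).trans (Finset.card_le_univ _)
    rw [Fintype.card_fin] at this
    interval_cases n <;> decide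
  rw [orderOf_coe, o] at this
  omega

theorem fin (ns : NS.{u}) (ix : IX.{u}) (x7 : X7.{u}) (x34 : X34.{u})
    (sm : ∀ (S : Type u) [Group S] [Finite S] [IsSimpleGroup S], ¬ IsMulCommutative S → O S → Ty S)
    (h : Set.range (orderOf : G → ℕ) = {k : ℕ | 1 ≤ k ∧ k ≤ 8}) (nS : ¬ Group.IsSolvable G) :
    ∃ (N : Subgroup G) (F : Type) (_ : Field F) (_ : Fintype F), N.Normal ∧ N.index = 2 ∧ Fintype.card F = 4 ∧
      Nonempty (↥N ≃* Matrix.ProjectiveSpecialLinearGroup (Fin 3) F) := by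
  have hO : O G := fun n o => (h.le o).2
  have o : ∀ n, 1 ≤ n → n ≤ 8 → Ord G n := fun n a b => h.ge ⟨a, b⟩
  obtain ⟨K, _, _, f, L, hf, hk, _, hL, cL⟩ := ns G hO nS fun S _ _ _ a b _ => sm S a b
  have ix := ix K L (hO.quo hf) ‹_› hL
  have d : ∀ p, p.Prime → p ≠ 2 → p ≤ 8 → p ∣ #L := fun p hp p2 l => by
    have a := (o p hp.one_le l).dvd
    rw [← f.ker.card_mul_index, index_ker, f.range_eq_top_of_surjective hf, card_top, ← L.card_mul_index] at a
    refine (hp.dvd_mul.1 ((hp.dvd_mul.1 a).resolve_left fun d => p2 (hk p hp d))).resolve_right fun d => p2 ?_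
    rcases ix with rfl | i
    · exact absurd (Nat.eq_one_of_dvd_one (index_top (G := K) ▸ d)) hp.ne_one
    · exact (Nat.prime_dvd_prime_iff_eq hp Nat.prime_two).1 (i.1 ▸ d)
  have d5 := d 5 (by norm_num) (by decide) (by decide)
  have d7 := d 7 (by norm_num) (by decide) (by decide)
  have k : f.ker = ⊥ → ∃ e : G ≃* K, Nonempty (L.comap e.toMonoidHom ≃* L) ∧ (L.comap e.toMonoidHom).index = L.index :=
    fun k1 => let e := MulEquiv.ofBijective f ⟨(MonoidHom.ker_eq_bot_iff _).1 k1, hf⟩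
      ⟨e, ⟨((MulEquiv.subgroupCongr (map_comap_eq_self_of_surjective hf L)).symm.trans (e.subgroupMap _).symm).symm⟩,
        index_comap_of_surjective L hf⟩
  rcases hL with ⟨⟨e⟩⟩ | ⟨⟨e⟩⟩ | ⟨⟨e⟩⟩ | ⟨⟨e⟩⟩ | e
  · rw [cardA (c := 60) e (by decide)] at d7; omega
  · rw [cardA (c := 360) e (by decide)] at d7; omega
  · rw [card32 e] at d5; omega
  · obtain ⟨e', -⟩ := k (x7 G K f L hO hf hk ⟨e⟩)
    obtain rfl := ix.resolve_right fun i => i.2.false e
    exact (no8 ((ord_congr (e'.trans (topEquiv.symm.trans e))).1 (o 8 (by decide) le_rfl))).elim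
  obtain ⟨e', ⟨a⟩, i⟩ := k (x34 G K f L hO hf hk e)
  obtain ⟨F, _, _, c, ⟨e⟩⟩ := e
  rcases ix with rfl | j
  · obtain ⟨x, hx⟩ := (ord_congr (e'.trans (topEquiv.symm.trans e))).1 (o 6 (by decide) (by decide))
    exact (H25.AG.no6 c x hx).elim
  · exact ⟨_, F, _, _, inferInstance, i.trans j.1, c, ⟨a.trans e⟩⟩

end H13.O8
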