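import Cfsg.Agent.H13.O83

/-! # Groups with element orders at most eight: assembly -/

set_option autoImplicit false
set_option linter.unusedSectionVars false

open Cfsg
namespace H13.O8

open H19 Subgroup H5 H5.FP H2.GW
open scoped Pointwise commutatorElement MatrixGroups

universe u

variable {G : Type u} [Group G] [Finite G] {D H M Q R R₁ R₂ S T : Subgroup G} {y y₁ y₂ : G}

theorem cstar_le (h1 : C(OZ S) ≤ M) (h2 : charNormalizersJoin (baumannSubgroupOf 2 S) ≤ M) : cStarOf 2 S ≤ M :=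
  sup_le h1 h2

theorem cnj_le (hS : PG 2 S) (h : ∀ D, PG 2 D → D ≠ ⊥ → S ≤ N(D) → N(D) ≤ M) :
    charNormalizersJoin (baumannSubgroupOf 2 S) ≤ M := by
  refine iSup_le fun ⟨D, l, D1, ch⟩ => h D (hS.of_le (l.trans inf_le_left)) D1 ?_
  have : S ≤ N(baumannSubgroupOf 2 S) :=
    norms_inf le_normalizer (norms_cent (le_normalizer.trans ((norm_JT S).trans (norm_OZ (JT S)))))
  rw [← map_subgroupOf_eq_of_le l]
  exact this.trans (H1.normalizer_le_normalizer_map_subtype _)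

theorem r16 (r : R4L.{u}) (hS : Syl 2 S ⊤) (k : Lc M Q) (l : S ≤ M) (l' : Q ≤ S) (rk : Rk Q S) (fr : Free M Q S)
    (ab : Abelem 2 Q) (c : #Q = 16) : R4 G :=
  r G Q S hS ⟨l', l.trans k.nQ⟩ ab c rk fun a ha na a2 => by
    have := fr a ha na a2 Q ab le_rfl k.nQ (.inr (comm_iff_le_cent.1 ab.1))
    nlinarith

theorem caseS (fr : FR.{u}) (ss : SS.{u}) (cz : CZ.{u}) (b1 : B1.{u}) (r : R4L.{u}) (cs : CSJ.{u}) (h : O G)
    (lc : LC G) (hS : Syl 2 S ⊤) (k : Lc M Q) (i : Iso M Q S5) (l : S ≤ M) (n : N(S) ≤ M) :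
    cStarOf 2 S ≤ M ∨ R4 G := by
  have hS' := hS.of_le l le_top
  have lQ := k.le_syl hS'
  obtain ⟨rk, iv, fp, ab, x5⟩ := ss G M Q S h k i hS'
  have fr := fr G M Q S 3 (.inl rfl) k.pg k.nQ l iv fp
  refine (em (#Q = 16)).symm.imp (fun c => ?_) (r16 r hS k l lQ rk fr ab)
  have j : JT S ≤ Q := by_contra fun j => c (OZ_eq ab ▸ ff16 h k lQ rk fr x5 j)
  refine cstar_le ?_ (cs G M Q S h k l lQ j)
  have Z1 := OZ_ne hS.pi (ne_bot_mono lQ k.ne)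
  have ch := (lc _ (OZ_pg S) Z1).2
  rcases cz G _ S h (h.c23 (OZ_pg S) Z1) ch (hS.of_le (cent_OZ S) le_top) le_rfl with e | ⟨c', -, e, p | p⟩
  · exact e.trans_le l
  · exact e.trans_le (sup_le l (zpowers_le.2 (n p)))
  · have v : Q ≤ Oc {2} C(OZ S) := OZ_eq ab ▸ by_contra fun v =>
      c (b1 G M Q S _ c' h k l lQ rk fr x5 p (e ▸ ch) v).2
    have := norm_JT _ p.nR
    rw [JT_of_le (j.trans v) p.le, ← JT_of_le j lQ, JT_self ab, k.nm] at this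
    exact e.trans_le (sup_le l (zpowers_le.2 this))

theorem caseA (fr : FR.{u}) (r : R4L.{u}) (cs : CSJ.{u}) (gn : GNC.{u}) (a : A5a.{u}) (b : A5b.{u}) (ff : FF3.{u})
    (h : O G) (lc : LC G) (hS : Syl 2 S ⊤) (k : TA M Q S y) (n : N(S) ≤ M) (c2 : ¬ ⁅S, S⁆ ≤ C(S))
    (pp : ∀ D, PG 2 D → D ≠ ⊥ → S ≤ N(D) → ¬ Sol N(D) → (∃ M' Q' y', TA M' Q' S y' ∧ N(D) ≤ M') ∨
      ∃ R c, P3 S R c ∧ (S ⊔ zpowers c) ⊓ C(R) ≤ R) : cStarOf 2 S ≤ M ∨ R4 G := by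
  have fr := fr G M Q S 5 (.inr rfl) k.lc.pg k.lc.nQ k.syl.le k.inv (k.lc.fp5 h)
  refine (a G M Q S y h lc hS k n).imp (fun c => cstar_le c ?_) fun c => r16 r hS k.lc k.syl.le k.le k.rk fr c.1 c.2
  by_cases j : JT S ≤ Q
  · exact cs G M Q S h k.lc k.syl.le k.le j
  obtain ⟨e, nJ, ir⟩ := b G M Q S y h k n c j
  obtain ⟨S₁, S₂, h1, h2, l1, l2, n1, g1, g2⟩ := gn G S h hS.pi c2
  have m2 : N(S₂) ≤ M := k.lc.mx _ (hS.pi.of_le l2) h2 (g1 M Q y k)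
  have no : ∀ R c, P3 S R c → ¬ (S ⊔ zpowers c) ⊓ C(R) ≤ R := fun R c p ch => by
    rcases g2 R c p ch with g | g
    · refine p.not_mem hS.pi (e.le (cent_mono ?_ g))
      rw [← ir (Ohm1 2 S₁) (Ohm1_mono 2 l1) ((hS.pi.of_le (l1.trans inf_le_left)).Ohm1_ne_bot h1)
        (norm_le_norm_Ohm1 2 _ (n1 k.yN))]
      exact Ohm1_le 2 _
    · rcases k.ov _ le_sup_left (sup_le k.syl.le (zpowers_le.2 (m2 g))) with q | q | q
      · exact p.not_mem hS.pi (q.le (mem_sup_right (mem_zpowers c)))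
      · exact p.nN (sup_le le_normalizer (zpowers_le.2 k.yN) (q.le (mem_sup_right (mem_zpowers c))))
      · obtain ⟨x, hx, o⟩ := k.five
        exact absurd (p.pi.elt (q.ge hx) 5 (by norm_num) o.symm.dvd) (by simp)
  refine cnj_le hS.pi fun D pD D1 l => ?_
  have hD := hS.of_le l le_top
  have ch := (lc D pD D1).1
  by_cases s : Sol N(D)
  · by_cases j' : JT S ≤ Oc {2} N(D)
    · exact ((Oc_norm _ _).trans (JT_of_le j' (Oc_le_hall hD) ▸ norm_JT _)).trans nJ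
    obtain ⟨R, c, hc, p, lR⟩ := ff G _ S h s hD (le_Oc (inf_cent_normal ((Oc_norm _ _).trans (norm_OZ _)))
      (hS.pi.of_le (inf_le_right.trans ((cent_mono (ch.OZ_le hD)).trans e.le)))) j'
    exact (no R c p ((inf_le_inf (sup_le l (zpowers_le.2 hc)) (cent_mono lR)).trans (ch.trans lR))).elim
  · rcases pp D pD D1 l s with ⟨M', Q', y', k', l'⟩ | ⟨R, c, p, ch⟩
    exacts [l'.trans ((g1 M' Q' y' k').trans m2), (no R c p ch).elim]

theorem caseD' (cz : CZ.{u}) (c1 : CZ1.{u}) (ti : TI.{u}) (r : R4L.{u}) (r8 : R4E.{u}) (h : O G) (lc : LC G)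
    (hS : Syl 2 T ⊤) (k : D8 M Q T R₁ R₂ y₁ y₂) (f : FS M Q T R₁ y₁ y₂) {P : Subgroup G} (s : Sol P) (ch : Ch P)
    (l : T ≤ P) (n : ¬ P ≤ M) : R4 G := by
  have Z1 := OZ_ne hS.pi (ne_bot_mono k.le k.lc.ne)
  have l1 : T ⊔ zpowers y₁ ≤ C(OZ T) := sup_le (cent_OZ T) (zpowers_le.2 f.c1)
  have e : C(OZ T) = T ⊔ zpowers y₁ := by
    rcases cz G _ T h (h.c23 (OZ_pg T) Z1) (lc _ (OZ_pg T) Z1).2 (hS.of_le (cent_OZ T) le_top) le_rfl with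
      e | ⟨c, o, e, p⟩
    · exact (k.s1.p.not_mem hS.pi (e.le f.c1)).elim
    · exact (eq_of_le_of_card_eq l1 (by rw [k.s1.p.card, e, card_cz hS.pi o p])).symm
  obtain ⟨V, z, lV, nV, hz, z1, tr, c⟩ := f.v0
  have cz := (c1 G T R₁ y₁ z h lc hS k.s1.p e ((le_inf (k.lc.OZ_le k.s1.le) (OZ_cent R₁)).trans f.cz) f.z4 hz z1).trans
    (sup_le k.syl.le (zpowers_le.2 k.s1.yM))
  obtain rfl : V = Q := (lV.trans (OZ_le Q)).antisymm (ti G M Q T V P h k.lc hS k.syl.le k.rk lV nV (by omega)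
    (fun g hg => by
      obtain ⟨v, ⟨hv, hv'⟩, v1⟩ := exists_ne_one hg
      obtain ⟨w, hw, rfl⟩ := mem_cj'.1 hv'
      obtain ⟨a, ha, e1⟩ := tr _ hv v1
      obtain ⟨b, hb, rfl⟩ := tr w hw (by rintro rfl; simp at v1)
      have : a⁻¹ * g * b ∈ C[z] := mem_cent1.2 (by
        calc _ = a⁻¹ * (g * (b * z * b⁻¹) * g⁻¹) * (g * b) := by group
          _ = _ := by rw [e1]; group)
      exact (mul_mem_cancel_left (inv_mem ha)).1 ((mul_mem_cancel_right hb).1 (cz this))) s ch l n)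
  have ab := abelem_mono (OZ_ab V) lV
  exact c.elim (fun c => r8 G V ab c k.lc.cq) fun c =>
    r G V T hS ⟨k.le, k.syl.le.trans nV⟩ ab c.1 k.rk fun a ha na _ => c.2 a ha na

theorem caseD (cz : CZ.{u}) (c1 : CZ1.{u}) (ti : TI.{u}) (r : R4L.{u}) (r8 : R4E.{u}) (cs : CSJ.{u}) (d1 : D1.{u})
    (ff : FFP.{u}) (h : O G) (lc : LC G) (hS : Syl 2 T ⊤) (k : D8 M Q T R₁ R₂ y₁ y₂)
    (pp : ∀ D, PG 2 D → D ≠ ⊥ → T ≤ N(D) → ¬ Sol N(D) → ∃ M' Q' R₁' R₂' y₁' y₂', D8 M' Q' T R₁' R₂' y₁' y₂' ∧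
      N(D) ≤ M') : cStarOf 2 T ≤ M ∨ R4 G := by
  refine or_iff_not_imp_right.2 fun r4 => cstar_le (d1 G M Q T R₁ R₂ y₁ y₂ h lc hS k) ?_
  by_cases j : JT T ≤ Q
  · exact cs G M Q T h k.lc k.syl.le k.le j
  have no : ∀ P, Sol P → Ch P → T ≤ P → P ≤ M := fun P s ch l => by_contra fun n => r4
    ((ff G M Q T R₁ R₂ y₁ y₂ h k j).elim (fun f => caseD' cz c1 ti r r8 h lc hS k f s ch l n)
      fun f => caseD' cz c1 ti r r8 h lc hS k.swap f s ch l n)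
  refine cnj_le hS.pi fun D pD D1 l => ?_
  by_cases s : Sol N(D)
  · exact no _ s (lc D pD D1).1 l
  obtain ⟨M', Q', R₁', R₂', y₁', y₂', k', l'⟩ := pp D pD D1 l s
  exact l'.trans (k'.gen.ge.trans (sup_le (no _ k'.s1.p.sol k'.ch le_sup_left)
    (le_sup_right.trans (no _ k'.s2.p.sol k'.swap.ch le_sup_left))))

theorem nD8 (d3 : D3.{u}) (ff : FFP.{u}) (r8 : R4E.{u}) (h : O G) (lc : LC G) (k : D8 M Q T R₁ R₂ y₁ y₂) :
    N(T) ≤ M ∨ R4 G := by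
  refine or_iff_not_imp_left.2 fun n => ?_
  obtain ⟨g, hg, ng⟩ := SetLike.not_le_iff_exists.1 n
  have j : ¬ JT T ≤ Q := fun j => ng (k.lc.mx _ (k.syl.pi.of_le (JT_le T))
    (JT_ne k.syl.pi (ne_bot_mono k.le k.lc.ne)) (k.lc.nQ.trans (JT_of_le j k.le ▸ norm_JT Q)) (norm_JT T hg))
  have := (ff G M Q T R₁ R₂ y₁ y₂ h k j).elim (fun f => d3 G M Q T R₁ R₂ y₁ y₂ g h lc k f hg ng)
    fun f => d3 G M Q T R₂ R₁ y₂ y₁ g h lc k.swap f hg ng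
  exact r8 G Q this.1 this.2 k.lc.cq

/-- all the steps -/
structure All : Prop where
  fn : FN.{u}
  f4 : F4.{u}
  fc : FC.{u}
  f2 : F2.{u}
  ct : CT.{u}
  ns : NS.{u}
  ix : IX.{u}
  x3 : X3.{u}
  x6 : X6.{u}
  x7 : X7.{u}
  x34 : X34.{u}
  sa : SA.{u}
  ss : SS.{u}
  da : DA.{u}
  dl : DL.{u}
  cz : CZ.{u}
  cz1 : CZ1.{u}
  ff3 : FF3.{u}
  fr : FR.{u}
  b1 : B1.{u}
  r4l : R4L.{u}
  r4e : R4E.{u}
  csj : CSJ.{u}
  ti : TI.{u}
  a53 : A53.{u}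
  gnc : GNC.{u}
  a5a : A5a.{u}
  a5b : A5b.{u}
  ffp : FFP.{u}
  d3 : D3.{u}
  d1 : D1.{u}

theorem All.step (a : All.{u}) [IsSimpleGroup G] (h : O G) (hG : ¬ IsMulCommutative G)
    (ih : ∀ (S : Type u) [Group S] [Finite S] [IsSimpleGroup S], ¬ IsMulCommutative S → O S →
      Nat.card S < Nat.card G → Ty S) : Ty G := by
  by_cases hN : IsNGroup G
  · exact a.fn G hG h hN
  have ex := fun {p H D} => exM (p := p) (H := H) (D := D) a.ns a.ix a.x3 a.x6 a.x7 a.x34 h hG ih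
  obtain ⟨M, Q, k, nS, tp⟩ : ∃ M Q : Subgroup G, Lc M Q ∧ ¬ Sol M ∧ Tp M Q := by
    by_contra n
    exact hN fun N ⟨p, D, hp, pD, D1, e⟩ => by_contra fun s =>
      let ⟨M, Q, _, k⟩ := ex s hp (.of_isPGroup hp pD) D1 e.le; n ⟨M, Q, k⟩
  obtain ⟨ct, lc⟩ := a.ct G M Q hG h k nS
  by_cases r4 : R4 G
  · exact a.f4 G M Q hG h ct k nS r4
  have d8 : ∀ {M Q T : Subgroup G}, Lc M Q → Iso M Q A6 ∨ Iso M Q L32 → Syl 2 T M →
      ∃ R₁ R₂ y₁ y₂, D8 M Q T R₁ R₂ y₁ y₂ := fun k i s => i.elim (fun i => a.da G _ _ _ h k i s) fun i => a.dl G _ _ _ h k i s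
  have nT : ∀ {M Q T : Subgroup G}, Lc M Q → Tp M Q → Syl 2 T M → N(T) ≤ M := fun k tp s => by
    rcases or_assoc.2 tp with i | i
    · exact (a.a53 G _ _ _ h ct k i s).resolve_right r4
    · obtain ⟨_, _, _, _, d⟩ := d8 k i s
      exact (nD8 a.d3 a.ffp a.r4e h lc d).resolve_right r4
  obtain ⟨S, hS'⟩ := exists_syl 2 M
  have hS : Syl 2 S ⊤ := hS'.syl_of_norm_le le_top (inf_le_right.trans (nT k tp hS'))
  have fin : ∀ {M Q : Subgroup G}, Lc M Q → cStarOf 2 S ≤ M ∨ R4 G → Ty G := fun {M Q} k c =>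
    a.fc G S hG h ct hS (ne_top_mono (c.resolve_right r4) fun e => by
      have := ((normalizer_eq_top_iff.1 (k.nm.trans e)).eq_bot_or_eq_top.resolve_left k.ne ▸ k.pg).sol
      exact nS (sol_mono this le_top))
  by_cases c5 : ∃ M Q : Subgroup G, Lc M Q ∧ Iso M Q S5 ∧ S ≤ M
  · obtain ⟨M, Q, k, i, l⟩ := c5
    exact fin k (caseS a.fr a.ss a.cz a.b1 a.r4l a.csj h lc hS k i l (nT k (.inr (.inl i)) (hS.of_le l le_top)))
  have pp : ∀ D, PG 2 D → D ≠ ⊥ → S ≤ N(D) → ¬ Sol N(D) → ∃ M' Q', N(D) ≤ M' ∧ Lc M' Q' ∧ (Iso M' Q' A5 ∨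
      ∃ R₁ R₂ y₁ y₂, D8 M' Q' S R₁ R₂ y₁ y₂) := fun D pD D1 l s => by
    obtain ⟨M', Q', l', k', -, tp⟩ := ex s Nat.prime_two pD D1 le_rfl
    exact ⟨M', Q', l', k', tp.imp_right fun tp => d8 k' (tp.resolve_left fun i => c5 ⟨M', Q', k', i, l.trans l'⟩)
      (hS.of_le (l.trans l') le_top)⟩
  by_cases c4 : ∃ M Q : Subgroup G, Lc M Q ∧ Iso M Q A5 ∧ S ≤ M
  · obtain ⟨M, Q, k, i, l⟩ := c4
    obtain ⟨y, t⟩ := a.sa G M Q S h k i (hS.of_le l le_top)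
    by_cases c2 : ⁅S, S⁆ ≤ C(S)
    · refine a.f2 G S hG h hS (fun ab => ?_) c2
      have := t.idx
      rw [relIndex_eq_one.2 ((cents_of_comm ab le_rfl t.le).trans k.cq)] at this
      omega
    refine fin k (caseA a.fr a.r4l a.csj a.gnc a.a5a a.a5b a.ff3 h lc hS t (nT k (.inl i) t.syl) c2
      fun D pD D1 l s => ?_)
    obtain ⟨M', Q', l', k', i | ⟨R, _, c, _, d⟩⟩ := pp D pD D1 l s
    · obtain ⟨y', t'⟩ := a.sa G M' Q' S h k' i (hS.of_le (l.trans l') le_top)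
      exact .inl ⟨M', Q', y', t', l'⟩
    · exact .inr ⟨R, c, d.s1.p, inf_le_right.trans ((cent_mono d.s1.le).trans (k'.cq.trans d.s1.le))⟩
  obtain ⟨R₁, R₂, y₁, y₂, d⟩ := d8 k ((tp.resolve_left fun i => c4 ⟨M, Q, k, i, hS'.le⟩).resolve_left
    fun i => c5 ⟨M, Q, k, i, hS'.le⟩) hS'
  refine fin k (caseD a.cz a.cz1 a.ti a.r4l a.r4e a.csj a.d1 a.ffp h lc hS d fun D pD D1 l s => ?_)
  obtain ⟨M', Q', l', k', i | ⟨_, _, _, _, d⟩⟩ := pp D pD D1 l s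
  exacts [(c4 ⟨M', Q', k', i, l.trans l'⟩).elim, ⟨M', Q', _, _, _, _, d, l'⟩]

theorem All.simple (a : All.{u}) [IsSimpleGroup G] (h : O G) (hG : ¬ IsMulCommutative G) : Ty G := by
  induction hn : Nat.card G using Nat.strong_induction_on generalizing G with
  | _ n ih => exact a.step h hG fun S _ _ _ a b l => ih _ (hn ▸ l) b a rfl

theorem All.main (a : All.{u}) (h : Set.range (orderOf : G → ℕ) = {k : ℕ | 1 ≤ k ∧ k ≤ 8})
    (nS : ¬ Group.IsSolvable G) :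
    ∃ (N : Subgroup G) (F : Type) (_ : Field F) (_ : Fintype F), N.Normal ∧ N.index = 2 ∧ Fintype.card F = 4 ∧
      Nonempty (↥N ≃* Matrix.ProjectiveSpecialLinearGroup (Fin 3) F) :=
  fin a.ns a.ix a.x7 a.x34 (fun _ _ _ _ b c => a.simple c b) h nS

end H13.O8
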