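import Cfsg.Agent.H13.O82
import Cfsg.Agent.H13.O83

/-! # Groups with element orders at most eight: lifting from `M / Q`, the cases `A₆` and `L₃(2)` -/

set_option autoImplicit false
set_option linter.unusedSectionVars false

open Cfsg
namespace H13.O8

open H19 Subgroup H5 H5.FP H2.GW
open scoped Pointwise commutatorElement MatrixGroups

universe u

variable {G : Type u} [Group G] [Finite G] {K : Type} [Group K] [Finite K] {M Q T X : Subgroup G} {f : M →* K}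
  {A B F F₁ F₂ U : Subgroup K} {p : ℕ}

/-- `f : M → K` has kernel `Q` -/
structure Qt (M Q : Subgroup G) (f : M →* K) : Prop where
  sj : Function.Surjective f
  ker : ∀ x : M, f x = 1 ↔ (x : G) ∈ Q
  le : Q ≤ M
  pg : PG 2 Q

namespace Qt
variable (k : Qt M Q f)
include k

theorem bot : pre f ⊥ = Q := le_antisymm (fun _ h => let ⟨_, e⟩ := mem_pre.1 h; (k.ker _).1 e)
  fun x h => mem_pre.2 ⟨k.le h, (k.ker _).2 h⟩
theorem top : pre f ⊤ = M := le_antisymm (pre_le f _) fun _ h => mem_pre.2 ⟨h, mem_top _⟩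
theorem le_pre (A : Subgroup K) : Q ≤ pre f A := k.bot.ge.trans (pre_mono bot_le)
theorem idx (A B : Subgroup K) : (pre f A).relIndex (pre f B) = A.relIndex B := by
  rw [pre, pre, relIndex_map_map_of_injective _ _ M.subtype_injective, relIndex_comap,
    map_comap_eq_self_of_surjective k.sj]
theorem pre_im (l : Q ≤ X) (l' : X ≤ M) : pre f (im f X) = X := le_antisymm (fun x h => by
  obtain ⟨hx, e⟩ := mem_pre.1 h
  obtain ⟨y, hy, e⟩ := mem_im.1 e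
  simpa using mul_mem hy (l ((k.ker (y⁻¹ * ⟨x, hx⟩)).1 (by simp [e]))) ) (le_pre_im l')
theorem pre_inj (h : pre f A = pre f B) : A = B := by rw [← im_pre k.sj A, h, im_pre k.sj]
theorem sup (A : Subgroup K) (y : M) : pre f (A ⊔ zpowers (f y)) = pre f A ⊔ zpowers (y : G) := by
  rw [← k.pre_im ((k.le_pre A).trans le_sup_left) (sup_le (pre_le f A) (zpowers_le.2 y.2)),
    im_sup (pre_le f A) (zpowers_le.2 y.2), im_pre k.sj, im_zpowers]
theorem norm {y : M} (h : f y ∈ N(A)) : (y : G) ∈ N(pre f A) :=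
  zpowers_le.1 (norms_pre (zpowers_le.2 y.2) (by rw [im_zpowers]; exact zpowers_le.2 h))
theorem card (A : Subgroup K) : #(pre f A) = #Q * #A := by
  rw [← card_mul_relIndex (k.le_pre A), ← k.bot, k.idx, relIndex_bot_left]
theorem pi (h : PG 2 A) : PG 2 (pre f A) := by unfold PG PiG; rw [k.card]; exact k.pg.mul h
theorem kr : PG 2 f.ker := k.pg.dvd (by
  rw [← card_subgroupOf' k.le]; exact card_dvd fun x hx => (k.ker x).1 hx)

theorem p3 {y : M} (h : P3 U F (f y)) (o : orderOf (y : G) = 3) : P3 (pre f U) (pre f F) y :=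
  ⟨k.pi h.pg, pre_mono h.le, (k.idx _ _).trans h.idx, o, k.norm h.nR, fun s hs n => by
    lift s to M using pre_le f U hs
    exact (coe_mem_pre (x := s * y * s⁻¹ * y)).2 (by
      simpa using h.inv _ (coe_mem_pre.1 hs) (mt coe_mem_pre.2 n))⟩

theorem s4 {y : M} (h : S4 ⊤ ⊥ U F (f y)) (o : orderOf (y : G) = 3) : S4 M Q (pre f U) (pre f F) y :=
  ⟨k.p3 h.p o, y.2, k.le_pre F, by rw [← k.bot, k.idx, h.idx], fun r hr => by
    lift r to M using pre_le f F hr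
    exact (k.ker (r * r)).1 (by simpa using h.sq _ (coe_mem_pre.1 hr)), fun r hr e => by
    lift r to M using pre_le f F hr
    exact (k.ker r).1 (h.fp _ (coe_mem_pre.1 hr) (by simpa using (k.ker (y * r * y⁻¹ * r⁻¹)).2 e)),
    fun X l l' => by
      rw [← k.sup] at l ⊢
      rw [← k.pre_im ((k.le_pre _).trans l) l']
      exact (h.mx _ ((im_pre k.sj _).ge.trans (im_mono l)) le_top).imp (congrArg _) fun e => by rw [e, k.top]⟩

theorem inv (h : Inv p ⊤ ⊥ U) : Inv p M Q (pre f U) := fun a ha n a2 => by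
  lift a to M using pre_le f U ha
  obtain ⟨x, -, h1, h2, h3⟩ := h _ (coe_mem_pre.1 ha) (mt (k.ker a).1 n) (by simpa using (k.ker (a * a)).2 a2)
  obtain ⟨x, rfl⟩ := k.sj x
  exact ⟨x, x.2, mt (k.ker x).2 h1, (k.ker (x ^ p)).1 (by simpa using h2),
    (k.ker (a * x * a⁻¹ * x)).1 (by simpa using h3)⟩

theorem big (h : O G) {x : K} (l : 5 ≤ orderOf x) : ∃ y : M, f y = x ∧ orderOf (y : G) = orderOf x :=
  let ⟨y, e⟩ := k.sj x; ⟨y, e, h.big l (e ▸ (orderOf_map_dvd f y).trans (orderOf_coe y).symm.dvd)⟩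

theorem t7 (hO : O G) (h : T7 ⊤ ⊥ U) : T7 M Q (pre f U) := fun a ha n a2 => by
  lift a to M using pre_le f U ha
  obtain ⟨g, -, g', -, x, -, o, e⟩ := h _ (coe_mem_pre.1 ha) (mt (k.ker a).1 n) (by simpa using (k.ker (a * a)).2 a2)
  obtain ⟨g, rfl⟩ := k.sj g
  obtain ⟨g', rfl⟩ := k.sj g'
  obtain ⟨x, rfl, o'⟩ := k.big hO (x := x) (by omega)
  exact ⟨g, g.2, g', g'.2, x, x.2, o'.trans o, (k.ker (x⁻¹ * (a * (g * a * g⁻¹) * (g' * a * g'⁻¹)))).1 (by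
    simpa using e)⟩

theorem rk (h : Rk ⊥ U) : Rk Q (pre f U) := ⟨by rw [← k.bot, k.idx]; exact h.1, fun A l s => by
  have l' := l.trans (pre_le f U)
  have n : A ≤ N(Q) := l'.trans (k.bot ▸ norms_pre le_rfl le_normalizer_of_normal)
  rw [← relIndex_sup_of_norm n, ← k.pre_im le_sup_left (sup_le k.le l'), ← k.bot, k.idx, k.bot]
  refine h.2 _ (im_le_iff (sup_le k.le l') |>.2 (sup_le (k.le_pre U) l)) fun a ha => ?_
  rw [im_sup k.le l', ← k.bot, im_pre k.sj, bot_sup_eq] at ha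
  obtain ⟨x, hx, rfl⟩ := mem_im.1 ha
  simpa using (k.ker (x * x)).2 (s x hx)⟩

theorem lift3 (h : O G) {y : K} (o : orderOf y = 3) : ∃ x : M, orderOf (x : G) = 3 ∧ f x = y :=
  let ⟨x, a, b⟩ := (h.sub M).lift3 k.sj o; ⟨x, (orderOf_coe x).trans a, b⟩

end Qt

/-- the Sylow subgroup may be taken standard -/
theorem Iso.adj (i : Iso M Q K) (k : Lc M Q) (hT : Syl 2 T M) (hU : Syl 2 U ⊤) :
    ∃ f : M →* K, Qt M Q f ∧ pre f U = T := by
  obtain ⟨f, hf, hk⟩ := i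
  have q : Qt M Q f := ⟨hf, hk, k.le, k.pg⟩
  have := hT.im le_rfl f
  rw [show im f M = ⊤ from (congrArg (im f) q.top).symm.trans (im_pre hf ⊤)] at this
  obtain ⟨g, -, e⟩ := this.sconj hU
  obtain ⟨g, rfl⟩ := hf g
  refine ⟨(MulAut.conj (f g)).toMonoidHom.comp f, ⟨(MulAut.conj (f g)).surjective.comp hf, fun x => by
    simpa using hk x, k.le, k.pg⟩, ?_⟩
  rw [← q.pre_im (k.le_syl hT) hT.le, ← e]
  ext x
  simp only [mem_pre, MonoidHom.comp_apply, MulEquiv.coe_toMonoidHom, MulAut.conj_apply, conj_mem_cj]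

section
variable {W : Type*} [CommGroup W] {ρ : K →* MulAut W} {w : W} {y : K}

/-- the Hecke operator -/
def τ (ρ : K →* MulAut W) (y : K) (w : W) : W := ρ y w * ρ y⁻¹ w

theorem P3.tau (k : P3 U F y) (h : U ≤ Fx ρ w) : U ≤ Fx ρ (τ ρ y w) := fun t ht => by
  by_cases r : t ∈ F
  · exact Fx_mul (Fx_act (by group) (h (k.le (conj_mem_of_norm' k.nR r))))
      (Fx_act (by group) (h (k.le (conj_mem_of_norm k.nR r))))
  · have a : ∀ {y}, P3 U F y → ρ t (ρ y w) = ρ y⁻¹ w := fun {y} k => by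
      rw [← act_mul, show t * y = y⁻¹ * (y * (t * y * t⁻¹ * y) * y⁻¹ * t) by group, act_mul,
        mem_Fx.1 (h (mul_mem (k.le (conj_mem_of_norm k.nR (k.inv t ht r))) ht))]
    rw [mem_Fx, τ, map_mul, a k, a k.inv', inv_inv, mul_comm]

theorem P3.tr (k : P3 U F y) (h : U ≤ Fx ρ w) : U ⊔ zpowers y ≤ Fx ρ (w * τ ρ y w) :=
  sup_le (fun _ ht => Fx_mul (h ht) (k.tau h ht)) (zpowers_le.2 (by
    rw [mem_Fx, τ, map_mul, map_mul, ← act_mul, ← act_mul, mul_inv_cancel, map_one, MulAut.one_apply,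
      eq_inv_of_mul_eq_one_left (show y * y * y = 1 by rw [← k.y3, pow_succ, pow_two]), ← mul_assoc, mul_comm]))

end

/-- the data in `M / Q` -/
structure KD (U F₁ F₂ : Subgroup K) (y₁ y₂ : K) : Prop where
  syl : Syl 2 U ⊤
  s1 : S4 ⊤ ⊥ U F₁ y₁
  s2 : S4 ⊤ ⊥ U F₂ y₂
  ne : F₁ ≠ F₂
  el : ∀ t ∈ U, t * t = 1 → t ∈ F₁ ∨ t ∈ F₂
  st : ∀ (W : Type u) [CommGroup W] (ρ : K →* MulAut W), Md ρ → ∀ w, U ≤ Fx ρ w →
    τ ρ y₂ (τ ρ y₁ (τ ρ y₂ (τ ρ y₁ w))) = 1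
  ty : (U.index = 45 ∧ Inv 5 ⊤ ⊥ U ∧ ∃ x : K, orderOf x = 5) ∨ (U.index = 21 ∧ T7 ⊤ ⊥ U)

theorem KD.lift {y₁ y₂ : K} (d : KD.{u} U F₁ F₂ y₁ y₂) (h : O G) (k : Lc M Q) (i : Iso M Q K) (hT : Syl 2 T M) :
    ∃ R₁ R₂ y₁ y₂, D8 M Q T R₁ R₂ y₁ y₂ := by
  obtain ⟨f, q, rfl⟩ := i.adj k hT d.syl
  obtain ⟨y₁, o1, rfl⟩ := q.lift3 h d.s1.p.o
  obtain ⟨y₂, o2, rfl⟩ := q.lift3 h d.s2.p.o
  have ix : (pre f U).relIndex M = U.index := by rw [← relIndex_top_right, ← q.idx, q.top]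
  refine ⟨_, _, _, _, k, hT, q.s4 d.s1 o1, q.s4 d.s2 o2, mt q.pre_inj d.ne, fun t ht e => ?_,
    fun W₀ W l0 l1 n0 n1 c sq v hv fx => ?_, d.ty.imp (fun ⟨a, b, x, o⟩ => ⟨ix.trans a, q.inv b, ?_⟩)
      fun a => ⟨ix.trans a.1, q.t7 h a.2⟩⟩
  · lift t to M using pre_le f U ht
    simpa only [coe_mem_pre] using d.el _ (coe_mem_pre.1 ht) (by simpa using (q.ker (t * t)).2 e)
  · obtain ⟨X, _, _, ρ, π, hπ, kπ, e, m⟩ := md h q.sj q.ker k.pg k.le l0 l1 n0 n1 c sq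
    have fx' : ∀ (t : M) (w : W), f t ∈ Fx ρ (π w) ↔ (t : G) * w * t⁻¹ * w⁻¹ ∈ W₀ := fun t w => by
      rw [mem_Fx, e, ← mul_inv_eq_one, ← map_inv, ← map_mul, kπ]; rfl
    have fx2 : ∀ {A : Subgroup K} {w : W}, A ≤ Fx ρ (π w) → ∀ t ∈ pre f A, t * w * t⁻¹ * w⁻¹ ∈ W₀ :=
      fun l t ht => let ⟨_, b⟩ := mem_pre.1 ht; (fx' _ _).1 (l b)
    lift v to W using hv
    have h0 : U ≤ Fx ρ (π v) := fun t ht => by
      obtain ⟨t, rfl⟩ := q.sj t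
      exact (fx' t v).2 (fx t (coe_mem_pre.2 ht))
    have h1 := d.s1.p.tau h0
    have h2 := d.s2.p.tau h1
    have h3 := d.s1.p.tau h2
    obtain ⟨a, ha⟩ := hπ (π v * τ ρ (f y₁) (π v) * (_ * τ ρ (f y₁) (τ ρ (f y₂) (τ ρ (f y₁) (π v)))))
    refine ⟨a, a.2, _, (a⁻¹ * v).2, by simp, q.sup U y₁ ▸ fx2 (ha ▸ fun t ht =>
      Fx_mul (d.s1.p.tr h0 ht) (d.s1.p.tr h2 ht)), q.sup U y₂ ▸ fx2 ?_⟩
    have := fun t ht => Fx_mul (d.s2.p.tr h1 (x := t) ht) (d.s2.p.tr h3 ht)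
    rw [d.st X ρ m _ h0, mul_one] at this
    rwa [map_mul, map_inv, ha, mul_assoc (π v), mul_inv_rev, inv_mul_cancel_right, inv_eq_of_mul_eq_one_left (m.sq _),
      ← mul_assoc]
  · obtain ⟨x, -, o'⟩ := q.big h o.ge
    exact ⟨x, x.2, o'.trans o⟩

/-- the subgroup with the listed elements -/
def ls (l : List K) (h : 1 ∈ l ∧ ∀ a ∈ l, ∀ b ∈ l, a * b⁻¹ ∈ l) : Subgroup K := ofDiv {x | x ∈ l} ⟨1, h.1⟩ h.2

theorem card_ls {l : List K} {h} (n : l.Nodup) : #(ls l h) = l.length := by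
  classical
  rw [← List.toFinset_card_of_nodup n, ← Nat.card_eq_finsetCard]
  exact Nat.card_congr (Equiv.subtypeEquivRight fun _ => List.mem_toFinset.symm)

theorem card_dvd_fac [IsSimpleGroup K] (h : A ≠ ⊤) : Nat.card K ∣ (A.index).factorial := by
  have := card_dvd_of_injective _ (H11.toPermHom_quot_injective A h)
  rwa [Nat.card_perm] at this

/-- the finite check for one half -/
def C4 (T F : List K) (y : K) : Prop :=
  (1 ∈ F ∧ ∀ a ∈ F, ∀ b ∈ F, a * b⁻¹ ∈ F) ∧ F.Nodup ∧ F.length = 4 ∧ (∀ r ∈ F, r ∈ T) ∧ y ^ 3 = 1 ∧ y ≠ 1 ∧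
    (∀ r ∈ F, y * r * y⁻¹ ∈ F) ∧ (∀ s ∈ T, s ∉ F → s * y * s⁻¹ * y ∈ F) ∧ (∀ r ∈ F, r * r = 1) ∧
    ∀ r ∈ F, y * r * y⁻¹ * r⁻¹ = 1 → r = 1

instance C4.dec [DecidableEq K] (T F : List K) (y : K) : Decidable (C4 T F y) := by unfold C4; infer_instance

theorem C4.s4 [IsSimpleGroup K] {T F : List K} {y : K} {hT} (c : Nat.card K = 360 ∨ Nat.card K = 168)
    (c8 : #(ls T hT) = 8) (h : C4 T F y) : S4 ⊤ ⊥ (ls T hT) (ls F h.1) y := by
  obtain ⟨h0, h1, h2, h3, h4, h5, h6, h7, h8, h9⟩ := h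
  have c4 : #(ls F h0) = 4 := (card_ls h1).trans h2
  have l : ls F h0 ≤ ls T hT := h3
  have p : P3 (ls T hT) (ls F h0) y := ⟨.of_card_pow Nat.prime_two (k := 3) c8, l, by
    have := card_mul_relIndex l; rw [c4, c8] at this; omega, orderOf_of_pow Nat.prime_three h4 h5,
    mem_norm_of_cj_le fun x hx => let ⟨r, hr, e⟩ := mem_cj'.1 hx; e ▸ h6 r hr, h7⟩
  refine ⟨p, mem_top _, bot_le, by rw [relIndex_bot_left, c4], h8, h9, fun X l _ => (em _).symm.imp_left fun n => ?_⟩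
  have a := card_dvd_fac n
  have b := relIndex_mul_index l
  have e := (ls T hT ⊔ zpowers y).card_mul_index
  rw [p.card, c8] at e
  refine (relIndex_eq_one.1 (by_contra fun n1 => ?_)).antisymm l
  have i1 := mt index_eq_one.1 n
  generalize X.index = i at *
  generalize relIndex _ X = j at *
  have : i ∣ 15 ∧ i ≠ 15 ∨ i ∣ 7 ∧ i ≠ 7 := c.imp (fun c => ⟨Dvd.intro_left j (by omega), by rintro rfl; omega⟩)
    fun c => ⟨Dvd.intro_left j (by omega), by rintro rfl; omega⟩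
  have : i < 15 := by rcases this with ⟨d, _⟩ | ⟨d, _⟩ <;> have := Nat.le_of_dvd (by decide) d <;> omega
  rcases c with c | c <;> rw [c] at a <;> interval_cases i <;> simp_all [Nat.factorial]

def CI (p : ℕ) (T X : List K) : Prop :=
  ∀ a ∈ T, a ≠ 1 → a * a = 1 → ∃ x ∈ X, x ≠ 1 ∧ x ^ p = 1 ∧ a * x * a⁻¹ * x = 1

instance CI.dec [DecidableEq K] (p : ℕ) (T X : List K) : Decidable (CI p T X) := by unfold CI; infer_instance

theorem CI.inv {T X : List K} {hT} (h : CI p T X) : Inv p ⊤ ⊥ (ls T hT) := fun a ha n a2 =>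
  let ⟨x, _, k⟩ := h a ha n a2; ⟨x, mem_top _, k⟩

def C7 (T : List K) (X : List (K × K)) : Prop :=
  ∀ a ∈ T, a ≠ 1 → a * a = 1 → ∃ q ∈ X, (a * (q.1 * a * q.1⁻¹) * (q.2 * a * q.2⁻¹)) ^ 7 = 1 ∧
    a * (q.1 * a * q.1⁻¹) * (q.2 * a * q.2⁻¹) ≠ 1

instance C7.dec [DecidableEq K] (T : List K) (X : List (K × K)) : Decidable (C7 T X) := by unfold C7; infer_instance

theorem C7.t7 {T : List K} {X : List (K × K)} {hT} (h : C7 T X) : T7 ⊤ ⊥ (ls T hT) := fun a ha n a2 =>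
  let ⟨q, _, k⟩ := h a ha n a2
  ⟨q.1, mem_top _, q.2, mem_top _, _, mem_top _, orderOf_of_pow (by norm_num) k.1 k.2, inv_mul_cancel _⟩

/-- the dihedral group -/
def T8 (a b c : K) : List K := [1, a, b, c, a * b, a * c, b * c, c * b]

/-- the finite check -/
def C8 (a b c y₁ y₂ : K) : Prop :=
  (1 ∈ T8 a b c ∧ ∀ x ∈ T8 a b c, ∀ y ∈ T8 a b c, x * y⁻¹ ∈ T8 a b c) ∧ (T8 a b c).Nodup ∧
    C4 (T8 a b c) [1, a, b, a * b] y₁ ∧ C4 (T8 a b c) [1, a, c, a * c] y₂ ∧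
    b ∉ [1, a, c, a * c] ∧ ∀ t ∈ T8 a b c, t * t = 1 → t ∈ [1, a, b, a * b] ∨ t ∈ [1, a, c, a * c]

instance C8.dec [DecidableEq K] (a b c y₁ y₂ : K) : Decidable (C8 a b c y₁ y₂) := by unfold C8; infer_instance

/-- the big cell -/
def big (y₁ y₂ : K) : List K :=
  [y₁, y₂, y₁, y₂].foldl (fun l y => l.map (y * ·) ++ l.map (y⁻¹ * ·)) [1]

theorem C8.kd [IsSimpleGroup K] {a b c y₁ y₂ : K} (h : C8 a b c y₁ y₂) {ob pr} (hp : p = 5 ∨ p = 7)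
    (k : Chk [a, b, c, y₁, y₂] [a, b, c] p (big y₁ y₂) ob pr)
    (ty : (Nat.card K = 360 ∧ Inv 5 ⊤ ⊥ (ls _ h.1)) ∨ (Nat.card K = 168 ∧ T7 ⊤ ⊥ (ls _ h.1))) :
    KD.{u} (ls _ h.1) (ls _ h.2.2.1.1) (ls _ h.2.2.2.1.1) y₁ y₂ := by
  have c8 : #(ls _ h.1) = 8 := card_ls h.2.1
  have e := (ls _ h.1).card_mul_index
  rw [c8] at e
  have cK := ty.imp And.left And.left
  refine ⟨syl_mk le_top (.of_card_pow Nat.prime_two (k := 3) c8) (by rw [relIndex_top_right]; omega),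
    h.2.2.1.s4 cK c8, h.2.2.2.1.s4 cK c8, fun e => h.2.2.2.2.1 (e.le (show b ∈ [1, a, b, a * b] by simp)), h.2.2.2.2.2,
    fun W _ ρ m w l => ?_, ty.imp (fun t => ⟨by omega, t.2, (ord_prime (by norm_num)).2 (by simp [t.1])⟩)
      fun t => ⟨by omega, t.2⟩⟩
  rw [← m.cert hp (c := w) (fun g hg => l (show g ∈ T8 a b c by
    simp only [T8, List.mem_cons] at hg ⊢; tauto)) k]
  simp only [big, τ, List.foldl, List.map_append, List.map_cons, List.map_nil, List.prod_append, List.prod_cons,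
    List.prod_nil, mul_one, act_mul, map_mul, MulAut.mul_apply]

section
open Equiv.Perm

def d6 : A6 := pa (c[0, 2] * c[1, 3])
def e6 : A6 := pa (c[0, 1] * c[4, 5])
def f6 : A6 := pa (c[0, 2, 4] * c[1, 3, 5])

theorem c86 : C8 r6 d6 e6 a6 f6 := by decide +kernel

theorem kd6 : KD.{u} (ls _ c86.1) (ls _ c86.2.2.1.1) (ls _ c86.2.2.2.1.1) a6 f6 :=
  haveI : IsSimpleGroup A6 := alternatingGroup.isSimpleGroup (by simp)
  c86.kd (.inl rfl) (ob := [([4,3,0,4],[2,3]),([2,4,3,4],[2,4,3,4,3]),([2,3,4,3,4],[3,4,4,3,4]),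
    ([4,3,3,4],[1,4,3,4,3])]) (pr := [(0,17,[]),(10,18,[0,2]),(4,19,[1,2]),(12,20,[0]),(6,21,[0]),(8,22,[1,2]),
      (3,23,[0]),(15,24,[2]),(14,26,[0,1]),(25,27,[1,2]),(7,28,[1,2]),(2,29,[2,1]),(9,30,[1]),(11,31,[0,2]),(16,32,[0]),
      (5,33,[0,2]),(13,34,[0,1]),(1,35,[0,1])]) (by decide +kernel) (.inl ⟨cardA (n := 4) (.refl _) (by decide),
        CI.inv (X := [[3, 4, 0, 3, 4], [1, 3, 4, 3], [2, 4, 3, 4], [4, 0, 3, 4], [3, 0, 4, 3]].map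
          (wd [r6, d6, e6, a6, f6])) (by decide +kernel)⟩)

theorem da : DA.{u} := fun _ _ _ _ _ _ h k i s => kd6.lift h k i s

end

def m3 (A : Matrix (Fin 3) (Fin 3) (ZMod 2)) (h : A.det = 1 := by decide) : L32 := ⟨A, h⟩

def a3 : L32 := m3 !![1, 0, 1; 0, 1, 0; 0, 0, 1]
def b3 : L32 := m3 !![1, 1, 0; 0, 1, 0; 0, 0, 1]
def c3 : L32 := m3 !![1, 0, 0; 0, 1, 1; 0, 0, 1]
def d3 : L32 := m3 !![1, 0, 0; 0, 0, 1; 0, 1, 1]
def e3 : L32 := m3 !![0, 1, 0; 1, 1, 0; 0, 0, 1]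

theorem c83 : C8 a3 b3 c3 d3 e3 := by decide +kernel

theorem kd3 : KD.{u} (ls _ c83.1) (ls _ c83.2.2.1.1) (ls _ c83.2.2.2.1.1) d3 e3 :=
  haveI := simple32
  c83.kd (.inr rfl) (ob := [([3,4,4],[4,3]),([3,4,3],[3,3,4]),([4,3,2],[4,4]),([4,3,2],[4,3])])
    (pr := [(1,8,[0,1]),(5,11,[2]),(7,12,[0]),(2,14,[2,1]),(13,18,[2]),(3,21,[0]),(4,22,[]),(9,27,[0,2]),(19,30,[1,2]),
      (15,31,[]),(25,32,[0,2]),(6,33,[0,2]),(17,34,[0,2]),(29,35,[0,1]),(20,36,[2,1]),(16,37,[]),(0,38,[0,1]),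
      (28,39,[0,2]),(23,40,[]),(10,41,[0,2]),(24,42,[0]),(26,43,[0,1])]) (by decide +kernel)
    (.inr ⟨H11.card_sl3_two, C7.t7 (X := [([4], [0, 3, 4]), ([3], [0, 4, 3]), ([3, 4], [4, 3])].map fun q =>
      (wd [a3, b3, c3, d3, e3] q.1, wd [a3, b3, c3, d3, e3] q.2)) (by decide +kernel)⟩)

theorem dl : DL.{u} := fun _ _ _ _ _ _ h k i s => kd3.lift h k i s

end H13.O8
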