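import Cfsg.Agent.H13.O85

/-! # Groups with element orders at most eight: no faithful modules for `A₇`, `L₃(4)` and `A₆.2` -/

set_option autoImplicit false
set_option linter.unusedSectionVars false

open Cfsg
namespace H13.O8

open H19 Subgroup H5 H5.FP H2.GW
open scoped Pointwise commutatorElement MatrixGroups

universe u

section
variable {K K₀ W : Type*} [Group K] [Group K₀] [CommGroup W] {ρ : K →* MulAut W} {c : W} {m : ℕ}

/-- `l` and the orbits `ob` cancel in pairs -/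
def Chk2 (m : ℕ) (gs gT l : List K) (ob : List (ℕ × List ℕ × List ℕ)) (pr : List (ℕ × ℕ × List ℕ)) : Prop :=
  (∀ q ∈ ob, 4 < q.1 ∧ wd gs q.2.1 ^ q.1 = 1 ∧ ∀ d < q.1, d ≠ 0 → (wd gs q.2.1 ^ d) ^ m ≠ 1) ∧
    Chk [] gT 5 (l ++ ob.flatMap fun q => orbL gs q.1 q.2) [] pr

instance Chk2.dec [DecidableEq K] (m : ℕ) (gs gT l : List K) (ob : List (ℕ × List ℕ × List ℕ))
    (pr : List (ℕ × ℕ × List ℕ)) : Decidable (Chk2 m gs gT l ob pr) := by unfold Chk2; infer_instance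

/-- each generator normalizes the subgroup generated by the earlier ones -/
def Chn (ws : List (List ℕ)) (gs : List K) : Prop := ∀ n < gs.length, gs.getD n 1 ^ 2 ^ 2 = 1 ∧
  ∀ g ∈ gs.take n, ∃ w ∈ ws, g * gs.getD n 1 = gs.getD n 1 * wd (gs.take n) w

instance Chn.dec [DecidableEq K] (ws : List (List ℕ)) (gs : List K) : Decidable (Chn ws gs) := by
  unfold Chn; infer_instance

theorem wd_map (j : K₀ →* K) (gs : List K₀) (w : List ℕ) : wd (gs.map j) w = j (wd gs w) := by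
  simp only [wd, map_list_prod, List.map_map, Function.comp_def, ← List.getD_map gs 1 j, map_one]

namespace Md
variable (k : Md ρ) (j : K₀ →* K)
include k

theorem cert2 (hj : ∀ x, j x = 1 → x ^ m = 1) {gs gT l : List K₀} {ob pr} (hT : ∀ g ∈ gT, j g ∈ Fx ρ c)
    (h : Chk2 m gs gT l ob pr) : (l.map fun g => ρ (j g) c).prod = 1 := by
  obtain ⟨h1, -, h2, h3⟩ := h
  have e1 : ((ob.flatMap fun q => orbL gs q.1 q.2).map fun g => ρ (j g) c).prod = 1 := by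
    rw [List.map_flatMap, List.flatMap_def, List.prod_flatten, List.map_map]
    refine List.prod_eq_one fun a ha => ?_
    obtain ⟨q, hq, rfl⟩ := List.mem_map.1 ha
    obtain ⟨a1, a2, a3⟩ := h1 q hq
    have o : orderOf (j (wd gs q.2.1)) = q.1 := (orderOf_eq_iff (by omega)).2
      ⟨by rw [← map_pow, a2, map_one], fun d l d0 e => a3 d l d0.ne' (hj _ (by rwa [map_pow]))⟩
    have := k.nm _ (by omega : 4 < orderOf (j (wd gs q.2.1))) (ρ (j (wd gs q.2.2)) c)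
    rw [o, Finset.prod_range, Fin.prod_univ_def] at this
    simp only [Function.comp, orbL, List.map_map]
    rw [← this, ← List.map_coe_finRange_eq_range, List.map_map]
    simp only [Function.comp_def, map_mul, map_pow, MulAut.mul_apply]
  have := k.cert (.inl rfl) (gs := []) (ob := []) (pr := pr) (gT := gT.map j)
    (l := (l ++ ob.flatMap fun q => orbL gs q.1 q.2).map j) (c := c) (by simpa using hT) ⟨by simp, by simpa using h2,
      fun q hq => by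
        simpa only [List.flatMap_nil, List.append_nil, ← map_one j, List.getD_map, wd_map, map_mul] using
          congrArg j (h3 q hq)⟩
  rwa [List.map_map, List.map_append, List.prod_append, Function.comp_def, e1, mul_one] at this

theorem chain {ws : List (List ℕ)} {gs : List K₀} (h : Chn ws gs) (h0 : ∀ w, (∀ g ∈ gs, j g ∈ Fx ρ w) → w = 1)
    (w : W) : w = 1 := by
  suffices ∀ n ≤ gs.length, (∀ w, (∀ g ∈ gs.take n, j g ∈ Fx ρ w) → w = 1) → w = 1 from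
    this _ le_rfl (by rwa [List.take_length])
  intro n l h1
  induction n with
  | zero => exact h1 w (by simp)
  | succ n ih =>
    refine ih (by omega) fun v => k.nil (P := fun v => ∀ g ∈ gs.take n, j g ∈ Fx ρ v) (s := j (gs.getD n 1))
      (fun v hv g hg => ?_) 2 (by rw [← map_pow, (h n l).1, map_one]) fun v hv s => h1 v fun g hg => ?_
    · obtain ⟨x, -, e⟩ := (h n l).2 g hg
      exact Fx_D (hv g hg) (by rw [← map_mul, e, map_mul]) (wd_mem (H := (Fx ρ v).comap j) hv x)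
    · rw [List.take_succ_eq_append_getElem l, List.mem_append, List.mem_singleton] at hg
      exact hg.elim (hv g) fun e => by rwa [e, ← List.getD_eq_getElem _ 1]

theorem triv (hj : ∀ x, j x = 1 → x ^ m = 1) {gs gT gZ : List K₀} {ws ob pr} (hZ : ∀ g ∈ gZ, j g = 1)
    (h : Chn ws gT ∧ Chk2 m gs (gT ++ gZ) [1] ob pr) : ∀ w : W, w = 1 :=
  k.chain j h.1 fun w hw => by
    simpa using k.cert2 j hj (c := w) (fun g hg => (List.mem_append.1 hg).elim (hw g)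
      fun hg => hZ g hg ▸ one_mem _) h.2

/-- no elements of order eight whose fourth power inverts an element of order five -/
theorem eight {g x : K} (g8 : g ^ 8 = 1) (g4 : g ^ 4 ≠ 1) (x5 : x ^ 5 = 1) (x1 : x ≠ 1)
    (e : g ^ 4 * x = x ^ 4 * g ^ 4) (v : W) : v = 1 := by
  have o : orderOf g = 8 := orderOf_eq_prime_pow (p := 2) (n := 2) g4 g8
  have o5 : orderOf x = 5 := orderOf_eq_prime (hp := ⟨by norm_num⟩) x5 x1
  let A : W → W := fun w => w * ρ g w * ρ (g ^ 2) w * ρ (g ^ 3) w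
  let B : W → W := fun w => w * ρ (g ^ 4) w
  have h1 : ∀ w, A (B w) = 1 := fun w => by
    rw [← k.nm g (by omega) w, o]
    simp only [A, B, Finset.prod_range_succ, Finset.prod_range_zero, map_mul, ← act_mul, ← pow_add, ← pow_succ',
      pow_zero, map_one, MulAut.one_apply, pow_one, one_mul]
    ac_rfl
  have h2 : ∀ w, B w = 1 → ∃ u, w = B u := fun w hw => ⟨ρ x w * ρ (x ^ 2) w, k.eq_of (by
    have f : ∀ y, ρ (y * g ^ 4) w = ρ y w := fun y => by rw [act_mul, ← k.eq_of hw]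
    have e2 : g ^ 4 * x ^ 2 = x ^ 3 * g ^ 4 := by
      rw [pow_two, ← mul_assoc, e, mul_assoc, e, ← mul_assoc, ← pow_add, pow_add x 5 3, x5, one_mul]
    rw [← k.nm x (by omega) w, o5]
    simp only [B, Finset.prod_range_succ, Finset.prod_range_zero, map_mul (ρ (g ^ 4)), ← act_mul, e, e2, pow_zero,
      map_one, MulAut.one_apply, pow_one, one_mul, f]
    ac_rfl)⟩
  have h3 : ∀ w, A w * ρ g (A w) = B w := fun w => k.eq_of (by
    simp only [A, B, map_mul, ← act_mul, ← pow_succ', ← pow_two, Nat.reduceAdd]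
    calc _ = w * w * (ρ g w * ρ g w) * (ρ (g ^ 2) w * ρ (g ^ 2) w) * (ρ (g ^ 3) w * ρ (g ^ 3) w) *
          (ρ (g ^ 4) w * ρ (g ^ 4) w) := by ac_rfl
      _ = 1 := by simp only [k.sq])
  have h4 : ∀ w, A w = 1 := fun w => k.nil (P := fun w => ∃ v, w = A v) (s := g) (by
    rintro _ ⟨v, rfl⟩
    refine ⟨v * ρ g v, ?_⟩
    simp only [A, map_mul, ← act_mul, ← pow_succ', ← pow_succ, ← pow_two]
    ac_rfl) 3 g8 (by
      rintro _ ⟨v, rfl⟩ f
      obtain ⟨u, rfl⟩ := h2 v (by rw [← h3, mem_Fx.1 f, k.sq])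
      exact h1 u) ⟨w, rfl⟩
  have h5 : ∀ w, B w = 1 := fun w => by rw [← h3, h4, map_one, mul_one]
  obtain ⟨u, rfl⟩ := h2 v (h5 v)
  exact h5 u

end Md
end

section
open Equiv.Perm

theorem x7 : X7.{u} := fun _ _ _ _ _ _ _ L h hf hk ⟨e⟩ => md1 h hf hk fun _ _ _ _ k =>
  k.triv (L.subtype.comp e.symm.toMonoidHom) (m := 1) (by simp) (gZ := []) (by simp) (ws := [[0], [1], [0, 1]])
    (gT := [pa (c[0, 1] * c[2, 3]), pa (c[0, 2] * c[1, 3]), pa (c[0, 1] * c[4, 5])])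
    (gs := [pa (c[0, 1] * c[2, 3]), pa (c[0, 2] * c[1, 3]), pa (c[0, 1] * c[4, 5]), pa c[0, 1, 2, 3, 4, 5, 6],
      pa c[0, 1, 2, 3, 4], pa c[2, 3, 4, 5, 6]])
    (ob := [(7,[2,4,3,5],[]),(7,[0,4,3,5,2],[3,3,3]),(6,[4,4,5,2,5],[0,5,0,5]),(5,[2,4,4,0,2],[3,3,3]),
      (6,[2,3,3,5,5,3],[3,5,5]),(5,[0,4,0],[2,5,5,3]),(6,[1,5,4,4,1],[0,1,4]),(5,[0,2,3,0,5],[0,1,4]),(6,[0,4,4,5],[3]),
      (5,[3,1,3],[4,5]),(6,[0,1,3,1,3],[3]),(5,[3,1,4],[0,1,3,5])])
    (pr := [(0,1,[]),(7,15,[2,1]),(2,16,[2]),(11,18,[2,1]),(13,19,[1,2]),(8,21,[]),(5,22,[0]),(10,23,[0,1]),(3,25,[]),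
      (24,27,[0,1]),(17,30,[0,2]),(20,31,[0]),(9,32,[0]),(14,33,[1]),(6,34,[0,1]),(4,35,[1]),(28,36,[1,2]),(29,39,[0]),
      (12,40,[1,2]),(37,43,[]),(42,44,[0]),(41,45,[0,2]),(38,52,[0,2]),(46,53,[0,2]),(51,54,[0]),(50,56,[]),(47,57,[2]),
      (48,59,[]),(26,60,[2]),(58,64,[0]),(62,65,[0,2]),(63,66,[2]),(49,67,[0,2]),(55,68,[2]),(61,69,[0])])
    (by decide +kernel)

theorem s6triv {K W : Type*} [Group K] [CommGroup W] {ρ : K →* MulAut W} (k : Md ρ) (e : K ≃* Equiv.Perm (Fin 6)) :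
    ∀ w : W, w = 1 :=
  k.triv e.symm.toMonoidHom (m := 1) (by simp) (gZ := []) (by simp) (ws := [[0], [1], [2]])
    (gT := [c[0, 1], c[2, 3], c[4, 5], c[0, 2] * c[1, 3]])
    (gs := [c[0, 1], c[2, 3], c[4, 5], c[0, 2] * c[1, 3], c[0, 1, 2, 3, 4, 5], c[0, 1, 2, 3, 4]])
    (ob := [(6,[5,4,1,4],[]),(5,[0,2,4,0],[1,4]),(6,[1,4,1,4,0],[3,4]),(6,[5,3,5,4],[4]),(6,[2,4,0,5,5],[4])])
    (pr := [(0,1,[]),(5,7,[0,1,3]),(4,11,[0]),(10,12,[2]),(2,13,[1,3]),(8,16,[0]),(6,17,[2]),(15,20,[1,3]),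
      (3,21,[0,2,3]),(18,24,[]),(9,25,[3]),(14,26,[0,1]),(23,27,[0,2,3]),(19,28,[1]),(22,29,[0,1,2,3])])
    (by decide +kernel)

end

def mx4 (n : ℕ) : Matrix (Fin 3) (Fin 3) H12.F4 :=
  Matrix.of fun i j => ⟨(n / 4 ^ (3 * i.1 + j.1) : ℕ), (n / 4 ^ (3 * i.1 + j.1) / 2 : ℕ)⟩

def m4 (n : ℕ) (h : (mx4 n).det = 1 := by decide +kernel) : SL(3, H12.F4) := ⟨_, h⟩

theorem c34 : Chn [[0], [1], [2, 0], [2, 1], [3, 1], [3, 0, 1], [2], [4]]
    [m4 65809, m4 65825, m4 65797, m4 65801, m4 66817, m4 67841] ∧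
    Chk2 3 [m4 58591, m4 56334, m4 118396, m4 225505, m4 214061, m4 82241, m4 89022]
      ([m4 65809, m4 65825, m4 65797, m4 65801, m4 66817, m4 67841] ++ [m4 131586]) [1]
      [(5, [0], []), (5, [1], [5]), (5, [2], [5]), (5, [3], [6]), (5, [4], [6])]
      [(0,1,[]),(3,7,[0,5,6,6]),(5,8,[2,4,3,6,6]),(6,11,[]),(4,14,[4,2,5,6]),(2,15,[0,2,3,6]),(13,18,[2,4,5]),
        (10,20,[2,5,3,6]),(16,21,[]),(12,22,[2,5,3,4,6]),(9,23,[0,1,2,6]),(17,24,[5,2,6]),(19,25,[0,1,2,6,6])] := by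
  decide +kernel

theorem x34 : X34.{u} := fun _ _ _ _ _ _ _ L h hf hk ⟨F, _, _, c, ⟨e⟩⟩ => md1 h hf hk fun _ _ _ _ k => by
  obtain ⟨φ⟩ := H12.exists_equiv_F4 c
  let ψ : SL(3, H12.F4) →* SL(3, F) := Matrix.SpecialLinearGroup.map φ.toRingHom
  have ψi : Function.Injective ψ := fun a b e => Subtype.ext (Matrix.map_injective φ.injective (congrArg Subtype.val e))
  have z : ∀ x, (L.subtype.comp (e.symm.toMonoidHom.comp ((QuotientGroup.mk' _).comp ψ))) x = 1 ↔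
      ψ x ∈ center SL(3, F) := fun x => by simp
  refine k.triv _ (fun x hx => ψi ?_) (fun g hg => (z g).2 ?_) c34
  · rw [map_pow, map_one, ← orderOf_dvd_iff_pow_eq_one]
    simpa [H11.card_center_sl, c] using orderOf_dvd_card' ((z x).1 hx)
  · rw [List.mem_singleton.1 hg, Matrix.SpecialLinearGroup.mem_center_iff]
    refine ⟨φ ⟨0, 1⟩, by rw [← map_pow, ← map_one φ]; exact congrArg φ (by decide), ?_⟩
    rw [show (ψ (m4 131586) : Matrix _ _ F) = (mx4 131586).map φ from rfl,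
      show mx4 131586 = Matrix.scalar _ ⟨0, 1⟩ by decide +kernel]
    simp [Matrix.diagonal_map]

theorem cF : ∀ x : A6, x * r6 = r6 * x → x * d6 = d6 * x → x ∈ [1, r6, d6, r6 * d6] := by decide +kernel

theorem cT : ∀ d ∈ T8 r6 d6 e6, ∀ e ∈ T8 r6 d6 e6, d ^ 2 = 1 → e ^ 2 = 1 → (d * e) ^ 2 ≠ 1 → ∃ w ∈ T8 r6 d6 e6,
    w * d * w⁻¹ = d6 ∧ w * e * w⁻¹ = e6 ∨ w * d * w⁻¹ = e6 ∧ w * e * w⁻¹ = d6 := by decide +kernel

open Equiv.Perm in
theorem x6 : X6.{u} := fun _ K _ _ _ _ _ L h hf hk i2 ⟨e⟩ cL => md1 h hf hk fun _ _ _ _ k => by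
  haveI := L.normal_of_index_eq_two i2
  obtain ⟨j, ji, jL, jL'⟩ : ∃ j : A6 →* K, Function.Injective j ∧ (∀ a, j a ∈ L) ∧ ∀ x ∈ L, ∃ a, j a = x :=
    ⟨L.subtype.comp e.symm.toMonoidHom, L.subtype_injective.comp e.symm.injective, fun a => (e.symm a).2,
      fun x hx => ⟨e ⟨x, hx⟩, by simp⟩⟩
  have c8 : #((ls _ c86.1).map j) = 8 := (card_map_of_injective ji).trans (card_ls c86.2.1)
  have l : (ls _ c86.1).map j ≤ L := map_le_iff_le_comap.2 fun a _ => jL a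
  have hS : Syl 2 ((ls _ c86.1).map j) L := syl_mk l (.of_card_pow Nat.prime_two (k := 3) c8) (by
    have := card_mul_relIndex l
    rw [c8, cardA (c := 360) e (by decide)] at this
    omega)
  have fr := hS.frattini normalIn_top
  obtain ⟨g, hg, gL⟩ := SetLike.not_le_iff_exists.1 fun l : ⊤ ⊓ N((ls _ c86.1).map j) ≤ L => by
    simp [← (fr.symm.trans (sup_eq_left.2 l))] at i2
  have nL : ∀ w {g}, g ∉ L → j w * g ∉ L := fun w _ n c => n ((mul_mem_cancel_left (jL w)).1 c)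
  obtain ⟨t, tL, ht⟩ : ∃ t ∉ L, t * j d6 * t⁻¹ = j d6 ∧ t * j e6 * t⁻¹ = j e6 ∨
      t * j d6 * t⁻¹ = j e6 ∧ t * j e6 * t⁻¹ = j d6 := by
    obtain ⟨d, hd, e1⟩ := conj_mem_of_norm hg.2 (mem_map_of_mem j (show d6 ∈ T8 r6 d6 e6 by simp [T8]))
    obtain ⟨e, he, e2⟩ := conj_mem_of_norm hg.2 (mem_map_of_mem j (show e6 ∈ T8 r6 d6 e6 by simp [T8]))
    have q : ∀ {a b}, j a = g * j b * g⁻¹ → (a ^ 2 = 1 ↔ b ^ 2 = 1) := fun e => by
      rw [← map_eq_one_iff j ji, map_pow, e, conj_pow, conj_eq_one_iff, ← map_pow, map_eq_one_iff j ji]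
    obtain ⟨w, -, hw⟩ := cT d hd e he ((q e1).2 (by decide +kernel)) ((q e2).2 (by decide +kernel))
      (mt (q (b := d6 * e6) (by rw [map_mul, map_mul, e1, e2, conj_mul])).1 (by decide +kernel))
    have : ∀ {a b}, j a = g * j b * g⁻¹ → j w * g * j b * (j w * g)⁻¹ = j (w * a * w⁻¹) := fun e => by
      simp only [map_mul, map_inv, e]; group
    exact ⟨_, nL w gL, by simpa only [this e1, this e2, ji.eq_iff] using hw⟩
  have er : r6 = (d6 * e6) ^ 2 := by decide +kernel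
  rcases ht with ⟨h1, h2⟩ | ⟨h1, h2⟩
  · obtain ⟨b, hb⟩ := jL' _ (Normal.conj_mem ‹_› _ (jL a6) t)
    have hr : t * j r6 * t⁻¹ = j r6 := by rw [er, map_pow, ← conj_pow, map_mul, ← conj_mul, h1, h2]
    have cm : ∀ v, t * j v * t⁻¹ = j v → t * j (a6 * v * a6⁻¹) * t⁻¹ = j (a6 * v * a6⁻¹) →
        a6⁻¹ * b * v = v * (a6⁻¹ * b) := fun v p q => ji (by
      simp only [map_mul, map_inv, hb] at q ⊢
      calc _ = (j a6)⁻¹ * (t * j a6 * t⁻¹) * (t * j v * t⁻¹) := by rw [p]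
        _ = (j a6)⁻¹ * (t * (j a6 * j v * (j a6)⁻¹) * t⁻¹) * (t * j a6 * t⁻¹) := by group
        _ = _ := by rw [q]; group)
    obtain ⟨w, -, hw⟩ := (by decide +kernel : ∀ c ∈ [1, r6, d6, r6 * d6], ∃ w ∈ [1, r6, d6, r6 * d6],
      w * (a6 * c) * w⁻¹ = a6) _ (cF _ (cm _ hr (by
        rw [show a6 * r6 * a6⁻¹ = r6 * d6 by decide +kernel, map_mul, ← conj_mul, hr, h1]))
          (cm _ h1 (by rwa [show a6 * d6 * a6⁻¹ = r6 by decide +kernel])))
    obtain ⟨ε⟩ := H25.equiv_perm_six i2 e (fun g hg => mem_bot.1 (cL ▸ hg)) (nL w tL) (jL a6)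
      ((orderOf_injective j ji _).trans kd6.{0}.s1.p.o) (by
        conv_rhs => rw [← hw]
        simp only [map_mul, map_inv, mul_inv_cancel_left, hb]; group)
    exact s6triv k ε
  obtain ⟨c, hc⟩ := jL' _ ((mul_mem_iff_of_index_two i2).2 (Iff.refl (t ∈ L)))
  have cm : ∀ {a b}, t * j a * t⁻¹ = j b → t * j b * t⁻¹ = j a → c * a = a * c := fun p q => ji (by
    rw [map_mul, map_mul, hc]
    nth_rw 2 [← q]
    rw [← p]
    group)
  have e4 : (t * j d6) ^ 4 = j r6 := by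
    rw [← (by decide +kernel : ∀ c ∈ [1, r6, d6, r6 * d6], c * e6 = e6 * c → (e6 * c * d6) ^ 2 = r6) c
      (cF c (er ▸ (((show Commute c d6 from cm h1 h2).mul_right (cm h2 h1)).pow_right 2).eq) (cm h1 h2)) (cm h2 h1),
      map_pow, map_mul, map_mul, hc, ← h1, pow_mul _ 2 2, pow_two (t * _)]
    group
  exact k.eight (g := t * j d6) (x := j (pa c[4, 0, 2, 3, 1]))
    (by rw [pow_mul _ 4 2, e4, ← map_pow, map_eq_one_iff j ji]; decide +kernel)
    (by rw [e4, ne_eq, map_eq_one_iff j ji]; decide +kernel)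
    (by rw [← map_pow, map_eq_one_iff j ji]; decide +kernel) (by rw [ne_eq, map_eq_one_iff j ji]; decide +kernel)
    (by rw [e4, ← map_pow, ← map_mul, ← map_mul, ji.eq_iff]; decide +kernel)

end H13.O8
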