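import Cfsg.Agent.H13.O86
import Cfsg.Agent.S3050

/-! # Groups with element orders at most eight: the cases `A₅` and `S₅` -/

set_option autoImplicit false
set_option linter.unusedSectionVars false

open Cfsg
namespace H13.O8

open H19 Subgroup H5 H5.FP H2.GW Equiv.Perm
open scoped Pointwise commutatorElement MatrixGroups

universe u

variable {G : Type u} [Group G] [Finite G] {M Q W₀ : Subgroup G}

def w5 : A5 := pa (c[0, 2] * c[1, 3])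
def U5 : List A5 := [1, v5, w5, v5 * w5]

theorem cA : (1 ∈ U5 ∧ ∀ a ∈ U5, ∀ b ∈ U5, a * b⁻¹ ∈ U5) ∧ U5.Nodup ∧ (∀ s ∈ U5, s * s = 1) ∧
    CI 5 U5 ([[0, 2, 3], [1, 3], [0, 1, 3]].map (wd [v5, w5, y5, t5])) ∧ (∀ s ∈ U5, y5 * s * y5⁻¹ ∈ U5) ∧
    (∀ s ∈ U5, y5 * s * y5⁻¹ * s⁻¹ = 1 → s = 1) ∧ y5 ^ 3 = 1 ∧ y5 ≠ 1 ∧ t5 * y5 * t5⁻¹ * y5 = 1 ∧
    t5 * v5 * t5⁻¹ ∉ U5 := by refine ⟨?_, ?_, ?_, ?_, ?_, ?_⟩ <;> decide +kernel

theorem cA' : ∀ x : A5, x ∈ U5 ∨ (∃ u ∈ U5, x = u * y5 ∨ x = u * y5⁻¹) ∨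
      ∃ u ∈ U5, ∃ v ∈ U5, (x * u * x⁻¹ * v) ^ 5 = 1 ∧ x * u * x⁻¹ * v ≠ 1 := by decide +kernel

theorem ov5 (X : Subgroup A5) (l : ls _ cA.1 ≤ X) : X = ls _ cA.1 ∨ X = ls _ cA.1 ⊔ zpowers y5 ∨ X = ⊤ := by
  haveI : IsSimpleGroup A5 := alternatingGroup.isSimpleGroup (by simp)
  refine or_assoc.1 ((em _).symm.imp_left fun n => ?_)
  have k : ∀ x ∈ X, x ∈ U5 ∨ ∃ u ∈ U5, x = u * y5 ∨ x = u * y5⁻¹ := fun x hx =>
    (cA' x).imp_right fun h => h.resolve_right fun ⟨u, hu, v, hv, a, b⟩ => by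
      have d5 := orderOf_of_pow (by norm_num) a b ▸ orderOf_dvd_card'
        (mul_mem (mul_mem (mul_mem hx (l hu)) (inv_mem hx)) (l hv))
      have d4 := card_ls cA.2.1 ▸ card_dvd l
      have e := X.card_mul_index
      have d := card_dvd_fac n
      obtain ⟨m, hm⟩ := Nat.Coprime.mul_dvd_of_dvd_of_dvd (by decide) d5 d4
      rw [cardA (c := 60) (n := 3) (.refl _) (by decide)] at e d
      have : X.index ∣ 3 := Dvd.intro_left m (by rw [hm, show U5.length = 4 from rfl] at e; linarith)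
      have := Nat.le_of_dvd three_pos this
      generalize X.index = i at *
      interval_cases i <;> simp_all [Nat.factorial]
  refine (em _).imp (fun l' : X ≤ _ => l'.antisymm l) fun n => le_antisymm (fun x hx => ?_) (sup_le l ?_)
  · rcases k x hx with h | ⟨u, hu, rfl | rfl⟩
    exacts [mem_sup_left h, mul_mem (mem_sup_left hu) (mem_sup_right (mem_zpowers _)),
      mul_mem (mem_sup_left hu) (mem_sup_right (inv_mem (mem_zpowers _)))]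
  · obtain ⟨x, hx, nx⟩ := SetLike.not_le_iff_exists.1 n
    obtain ⟨u, hu, rfl | rfl⟩ := (k x hx).resolve_left nx
    exacts [zpowers_le.2 ((mul_mem_cancel_left (l hu)).1 hx), zpowers_le.2 (inv_mem_iff.1
      ((mul_mem_cancel_left (l hu)).1 hx))]

theorem sa : SA.{u} := fun _ _ _ M Q S h k i hS => by
  have c4 : #(ls _ cA.1) = 4 := card_ls cA.2.1
  have c60 := cardA (c := 60) (n := 3) (.refl A5) (by decide)
  obtain ⟨f, q, rfl⟩ := i.adj k hS (U := ls _ cA.1) (syl_mk le_top (.of_card_pow Nat.prime_two (k := 2) c4) (by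
    have := (ls _ cA.1).card_mul_index
    rw [c4, c60] at this
    rw [relIndex_top_right]; omega))
  obtain ⟨-, -, h1, h2, h3, h4, h5, h6, h7, h8⟩ := id cA
  obtain ⟨y, o, e⟩ := q.lift3 h (orderOf_of_pow Nat.prime_three h5 h6)
  obtain ⟨x, o5⟩ : Ord A5 5 := (ord_prime (by norm_num)).2 (by rw [c60]; decide)
  obtain ⟨x, -, o5'⟩ := q.big h o5.ge
  obtain ⟨t, ht⟩ := q.sj t5
  obtain ⟨v, hv⟩ := q.sj v5
  refine ⟨y, k, i, hS, by rw [← q.bot, q.idx, relIndex_bot_left, c4], fun s hs => ?_, q.inv h2.inv,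
    ⟨x, x.2, o5'.trans o5⟩, o, y.2, q.norm (mem_norm_of_cj_le fun x hx => by
      obtain ⟨r, hr, rfl⟩ := mem_cj'.1 hx; rw [e]; exact h3 r hr), fun s hs c => ?_, fun X l l' => ?_, t, t.2,
    (q.ker (t * y * t⁻¹ * y)).1 (by simpa [ht, e] using h7), fun n => h8 ?_⟩
  · lift s to M using pre_le f _ hs
    exact (q.ker (s * s)).1 (by simpa using h1 _ (coe_mem_pre.1 hs))
  · lift s to M using pre_le f _ hs
    exact (q.ker s).1 (h4 _ (coe_mem_pre.1 hs) (by simpa [e] using (q.ker (y * s * y⁻¹ * s⁻¹)).2 c))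
  · rw [← q.sup, e, ← q.pre_im ((q.le_pre _).trans l) l']
    exact (ov5 _ ((im_pre q.sj _).ge.trans (im_mono l))).imp (congrArg _) (.imp (congrArg _) fun e => by rw [e, q.top])
  · have := (coe_mem_pre (x := t * v * t⁻¹)).1 (conj_mem_of_norm n (coe_mem_pre.2
      (show f v ∈ U5 by simp [hv, U5])))
    rwa [map_mul, map_mul, map_inv, ht, hv] at this

/-- the next section of a chief series -/
theorem step (hQ : PG 2 Q) (l : Q ≤ M) (nQ : M ≤ N(Q)) (l0 : W₀ ≤ Q) (n0 : M ≤ N(W₀)) (ne : W₀ ≠ Q) :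
    ∃ W, W₀ < W ∧ W ≤ Q ∧ M ≤ N(W) ∧ ⁅W, Q⁆ ≤ W₀ ∧ ∀ w ∈ W, w * w ∈ W₀ := by
  have n := l.trans n0
  refine ⟨qpre W₀ (OZ (quo W₀ Q)), (le_qpre _).lt_of_ne fun e => OZ_ne (hQ.quo W₀) (fun c => ne (l0.antisymm
    ((quo_eq_bot_iff n).1 c))) (qpre_inj (e.symm.trans qpre_bot.symm)), qpre_le l0 (OZ_le _),
    norms_qpre n0 ((quo_norms nQ).trans (norm_OZ _)), (quo_cents_iff (qpre_le_norm _) n).1 (by
      rw [quo_qpre]; exact OZ_cent _), fun w hw => pow_two w ▸ ((abelem_quo_iff (qpre_le_norm _)).1 (by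
        rw [quo_qpre]; exact OZ_ab _)).2 w hw⟩

theorem fp3 {W : Type*} [CommGroup W] {ρ : S5 →* MulAut W} (k : Md ρ) {y : S5} (y3 : y ^ 3 = 1) (y1 : y ≠ 1) {w : W}
    (hw : y ∈ Fx ρ w) : w = 1 := by
  obtain ⟨g, e⟩ := ((by decide +kernel : ∀ y : S5, y ^ 3 = 1 → y = 1 ∨ ∃ g, c[0, 1, 2] * g = g * y) y y3).resolve_left y1
  simpa using k.cert2 (.id _) (m := 1) (by simp) (c := ρ g w) (gT := [c[0, 1, 2]]) (l := [1])
    (by simpa using Fx_act e hw) (gs := [c[0, 1, 2], c[0, 1], c[3, 4], c[0, 1, 2, 3, 4]])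
    (ob := [(5,[0,3],[]),(6,[2,3,3],[0,3]),(5,[3,0],[]),(5,[2,3,2],[]),(6,[0,2],[3,2]),(6,[0,2,3,0,3],[3]),
      (6,[3,1,3],[0,0,3])])
    (pr := [(0,1,[]),(2,6,[]),(7,9,[0]),(8,10,[0]),(4,14,[0,0]),(12,17,[]),(3,19,[0]),(15,20,[0,0]),(16,23,[0]),
      (18,25,[]),(11,26,[0,0]),(5,27,[0,0]),(13,28,[0,0]),(22,29,[0]),(30,32,[0,0]),(31,33,[0,0]),(21,34,[0]),
      (24,35,[0]),(36,38,[0,0]),(37,39,[0,0])]) (by decide +kernel)

def T5 : List S5 := T8 (c[0, 1] * c[2, 3]) (c[0, 2] * c[1, 3]) c[0, 1]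

theorem cS : (1 ∈ T5 ∧ ∀ a ∈ T5, ∀ b ∈ T5, a * b⁻¹ ∈ T5) ∧ T5.Nodup ∧ (∃ a ∈ T5, a * a ≠ 1) ∧
    CI 3 T5 [c[0, 2, 4], c[2, 3, 4], c[0, 1, 4], c[0, 3, 4]] := by decide +kernel

theorem ss : SS.{u} := fun G _ _ M Q S h k i hS => by
  have c8 : #(ls _ cS.1) = 8 := card_ls cS.2.1
  have c120 : Nat.card S5 = 120 := by rw [Nat.card_perm, Nat.card_fin]; rfl
  obtain ⟨f, q, rfl⟩ := i.adj k hS (U := ls _ cS.1) (syl_mk le_top (.of_card_pow Nat.prime_two (k := 3) c8) (by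
    have := (ls _ cS.1).card_mul_index
    rw [c8, c120] at this
    rw [relIndex_top_right]; omega))
  have fp : Fp 3 M Q := fun y hy o => by
    obtain ⟨W₀, -, ⟨l0, n0, e0⟩, mx⟩ := Finite.exists_le_maximal (p := fun W : Subgroup _ =>
      W ≤ Q ∧ M ≤ N(W) ∧ W ⊓ C[y] = ⊥) (a := ⊥) ⟨bot_le, le_normalizer_of_normal, bot_inf_eq _⟩
    refine (em _).elim (fun e : W₀ = Q => e ▸ e0) fun ne => ?_
    obtain ⟨W, lt, l1, n1, c, sq⟩ := step k.pg k.le k.nQ l0 n0 ne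
    obtain ⟨X, _, _, ρ, π, -, kπ, e, m⟩ := md h q.sj q.ker k.pg k.le lt.le l1 n0 n1 c sq
    refine (lt.not_ge (mx ⟨l1, n1, eq_bot_iff.2 fun w hw => e0.le ⟨(kπ ⟨w, hw.1⟩).1 (fp3 m (y := f ⟨y, hy⟩) ?_
      (fun c => ?_) ?_), hw.2⟩⟩ lt.le)).elim
    · rw [← map_pow, ← map_one f]
      exact congrArg f (Subtype.ext (o ▸ pow_orderOf_eq_one y))
    · exact absurd (k.pg.elt ((q.ker _).1 c) 3 Nat.prime_three o.symm.dvd) (by decide)
    · exact (e _ _).trans (congrArg π (Subtype.ext (mul_inv_eq_iff_eq_mul.2 (mem_cent1.1 hw.2).symm)))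
  obtain ⟨x, o5⟩ : Ord S5 5 := (ord_prime (by norm_num)).2 (by rw [c120]; decide)
  obtain ⟨x, -, o5'⟩ := q.big h o5.ge
  refine ⟨q.rk ⟨by rw [relIndex_bot_left, c8], fun A l s => ?_⟩, q.inv cS.2.2.2.inv, fp, abelem_sq fun w hw => ?_,
    x, x.2, o5'.trans o5⟩
  · obtain ⟨a, ha, n⟩ := cS.2.2.1
    have := card_lt (l.lt_of_ne fun e => n (s a (e.ge ha)))
    have := (Nat.dvd_prime_pow Nat.prime_two (m := 3)).1 (c8 ▸ card_dvd l)
    rw [relIndex_bot_left]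
    obtain ⟨i, hi, e⟩ := this
    interval_cases i <;> omega
  let g := f.subgroupComap (alternatingGroup (Fin 5))
  have hg : Function.Surjective g := f.subgroupComap_surjective_of_surjective _ q.sj
  have kg : ∀ {x}, x ∈ g.ker ↔ (x.1 : G) ∈ Q := Subtype.ext_iff.trans (q.ker _)
  obtain ⟨e1⟩ := H11.nonempty_psl2_four_equiv H12.F4.card
  haveI : CharP H12.F4 2 := charP_of_card_eq_prime_pow (f := 2) H12.F4.card
  obtain ⟨e2⟩ := psl2_sl2 H12.F4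
  obtain ⟨y, o, -⟩ := ((h.sub M).sub _).lift3 hg (orderOf_of_pow Nat.prime_three cA.2.2.2.2.2.2.1 cA.2.2.2.2.2.2.2.1)
  have := (Cfsg.Agent.S3050.result g.ker (fun a => by
      obtain ⟨n, e⟩ := (k.pg.elt (kg.1 a.2)).exists_pow (orderOf_pos _).ne'
      exact ⟨n, Subtype.ext (Subtype.ext (Subtype.ext (e ▸ pow_orderOf_eq_one _)))⟩) 2 le_rfl H12.F4 H12.F4.card
    ((QuotientGroup.quotientKerEquivOfSurjective g hg).trans (e1.symm.trans e2)) y o fun a ha e =>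
      Subtype.ext (Subtype.ext (mem_bot.1 ((fp y y.1.2 (by rw [orderOf_coe, orderOf_coe, o])).le ⟨kg.1 ha,
        mem_cent1.2 (congrArg (·.1.1) (mul_inv_eq_iff_eq_mul.1 e)).symm⟩)))).1.2
    ⟨⟨w, k.le hw⟩, by rw [mem_comap, (q.ker _).2 hw]; exact one_mem _⟩ (kg.2 hw)
  exact (pow_two w).symm.trans (congrArg (·.1.1) this)

end H13.O8
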