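import Cfsg.Agent.H24.OB5

/-! # Groups with element orders at most eight: failure of factorization for `A₆` and `L₃(2)` -/

set_option autoImplicit false
set_option linter.unusedSectionVars false

open Cfsg
namespace H13.O8

open H19 Subgroup H5 H5.FP H2.GW
open scoped Pointwise commutatorElement MatrixGroups

universe u

variable {G : Type u} [Group G] [Finite G] {M Q T R₁ R₂ V X Y : Subgroup G} {a t z y₁ y₂ : G}

/-- the `K`-class of `x` -/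
def cls (K : Subgroup G) (x : G) : Set G := {y | ∃ k ∈ K, y = k * x * k⁻¹}

theorem orb (K : Subgroup G) (x : G) : (cls K x).ncard = C[x].relIndex K := by
  let i : MulAction K G := MulAction.compHom G ((MulAut.conj (G := G)).comp K.subtype)
  have := @MulAction.index_stabilizer K G _ i x
  rw [relIndex, show C[x].subgroupOf K = @MulAction.stabilizer K G _ i x from Subgroup.ext fun k =>
    mem_cent1.trans mul_inv_eq_iff_eq_mul.symm, this]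
  congr 1
  ext y
  exact ⟨fun ⟨k, hk, e⟩ => ⟨⟨k, hk⟩, e.symm⟩, fun ⟨k, e⟩ => ⟨k, k.2, e.symm⟩⟩

theorem ins {s S : Set G} (n : a ∉ s) (l : insert a s ⊆ S) (c : S.ncard = s.ncard + 1) (ht : t ∈ S) (ne : t ≠ a) :
    t ∈ s :=
  ((Set.eq_of_subset_of_ncard_le l (by rw [c, Set.ncard_insert_of_notMem n])).ge ht).resolve_left ne

theorem one_cls (z1 : z ≠ 1) : 1 ∉ cls M z := fun ⟨_, _, e⟩ => z1 (conj_eq_one_iff.1 e.symm)

theorem card_lt2 (l : X < Y) : #X * 2 ≤ #Y := by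
  have := relIndex_pos X Y
  have := mt relIndex_eq_one.1 l.not_ge
  rw [← card_mul_relIndex l.le]
  exact Nat.mul_le_mul_left _ (by omega)

/-- the fixed points of elements of `T \ Q` have index at least four -/
def Bg (Q T : Subgroup G) : Prop := ∀ t ∈ T, t ∉ Q → #(OZ Q ⊓ C[t]) * 4 ≤ #(OZ Q)

theorem Bg.of (h : O G) (hT : PG 2 T) (k : ∀ t ∈ T, t ∉ Q → t * t ∈ Q → #(OZ Q ⊓ C[t]) * 4 ≤ #(OZ Q)) : Bg Q T :=
  fun t ht n => by
    have : ∀ i, t ^ i ∉ Q → t ^ (i + i) ∈ Q → #(OZ Q ⊓ C[t]) * 4 ≤ #(OZ Q) := fun i a b =>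
      (Nat.mul_le_mul_right _ (card_le (inf_le_inf_left _ (cent1_le_cent1_pow t i)))).trans
        (k _ (pow_mem ht i) a (pow_add t i i ▸ b))
    by_cases h2 : t ^ 2 ∈ Q
    · exact this 1 (by rwa [pow_one]) h2
    by_cases h4 : t ^ 4 ∈ Q
    exacts [this 2 h2 h4, this 4 h4 (h.eight (hT.elt ht) ▸ one_mem Q)]

namespace D8
variable (k : D8 M Q T R₁ R₂ y₁ y₂)
include k

theorem Zeq : OZ Q ⊓ C(T) ≤ OZ T :=
  le_OZ (abelem_mono (OZ_ab Q) inf_le_left) (inf_le_left.trans ((OZ_le Q).trans k.le)) inf_le_right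
theorem Zle : OZ T ≤ OZ Q ⊓ C(R₁) := le_inf (k.lc.OZ_le k.le) ((OZ_cent T).trans (cent_mono k.s1.p.le))
theorem Z1 : OZ T ≠ ⊥ := OZ_ne k.syl.pi (ne_bot_mono k.le k.lc.ne)
theorem nU : y₁ ∈ N(OZ Q ⊓ C(R₁)) :=
  zpowers_le.1 (norms_inf (zpowers_le.2 (k.lc.nV k.s1.yM)) (norms_cent (zpowers_le.2 k.s1.p.nR)))
theorem c1 (l : OZ Q ⊓ C(R₁) ≤ OZ T) : y₁ ∈ C(OZ T) :=
  k.s1.p.gen (cent_OZ T) (zpowers_le.1 (norms_cent (zpowers_le.2 (l.antisymm k.Zle ▸ k.nU))))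

variable (h : O G)
include h

theorem triv (l : X ≤ OZ T) (c1 : y₁ ∈ C(X)) (c2 : y₂ ∈ C(X)) : X = ⊥ :=
  let ⟨_, hx, o⟩ := k.big
  (inf_eq_left.2 (le_cent1_iff.2 (sup_le (sup_le ((cent_OZ T).trans (cent_mono l)) (zpowers_le.2 c1))
    (zpowers_le.2 c2) (k.gen.ge hx)))).symm.trans (h.fix2 o ((OZ_pg T).of_le l))

theorem num (nJ : ¬ JT T ≤ Q) : #(OZ Q) = 8 ∧ T.relIndex M = 21 ∨
    Bg Q T ∧ (#(OZ Q) = 16 ∧ T.relIndex M = 45 ∨ #(OZ Q) = 64 ∧ T.relIndex M = 21) := by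
  rcases k.ty with ⟨i, iv, x5⟩ | ⟨i, t7⟩
  · have fr := H24.OB.fr' (.inr rfl) k.lc.pg k.lc.nQ k.syl.le iv (k.lc.fp5 h)
    have c := ff16 h k.lc k.le k.rk fr x5 nJ
    refine .inr ⟨.of h k.syl.pi fun t ht n t2 => ?_, .inl ⟨c, i⟩⟩
    have := fr t ht n t2 _ (OZ_ab Q) (OZ_le Q) k.lc.nV (.inr (cent_OZ Q))
    nlinarith
  have cu : ∀ t ∈ T, t ∉ Q → t * t ∈ Q → #(OZ Q) ≤ C[t].relIndex (OZ Q) ^ 3 ∧ #(OZ Q) % 7 = 1 := fun t ht n t2 => by
    obtain ⟨g, hg, g', hg', x, hx, o, e⟩ := t7 t ht n t2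
    have r : ∀ {g}, g ∈ M → C[g * t * g⁻¹].relIndex (OZ Q) = C[t].relIndex (OZ Q) := fun hg => by
      rw [← cj_cent1, ← cj_of_mem_norm (k.lc.nV hg), relIndex_cj, cj_of_mem_norm (k.lc.nV hg)]
    have := card_inf_mul_relIndex (C[t] ⊓ C[g * t * g⁻¹] ⊓ C[g' * t * g'⁻¹]) (OZ Q)
    rw [H19.eq_bot_mono (le_inf inf_le_right (le_cent1_iff.2 ((mul_mem_cancel_right (mul_mem (mul_mem
      (le_cent1_iff.1 (inf_le_left.trans (inf_le_left.trans inf_le_left)))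
      (le_cent1_iff.1 (inf_le_left.trans (inf_le_left.trans inf_le_right))))
      (le_cent1_iff.1 (inf_le_left.trans inf_le_right)))).1 (cent_mono inf_le_right (cent_OZ Q e)))))
      (h.fix2 (x := x⁻¹) (.inr ((orderOf_inv x).trans o)) (OZ_pg Q)), card_bot, one_mul] at this
    refine ⟨this.ge.trans (relIndex_inf_le.trans ((Nat.mul_le_mul_right _ relIndex_inf_le).trans_eq ?_)),
      h.mod (.inr rfl) ((OZ_pg Q).sing_ne (by decide)) o (k.lc.nV hx)⟩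
    rw [r hg, r hg', pow_three']
  obtain ⟨A, hA, nA⟩ := exists_off nJ
  obtain ⟨a, ha, na⟩ := SetLike.not_le_iff_exists.1 nA
  have h1 := off hA k.le (OZ_ab Q) (OZ_le Q) (inf_le_right.trans (cent_OZ Q))
  have h2 := k.rk.2 A hA.le fun b hb => sq1 hA.ea hb ▸ one_mem Q
  obtain ⟨h3, h4⟩ := cu a (hA.le ha) na (sq1 hA.ea ha ▸ one_mem Q)
  have h5 := card_le (inf_le_inf_left (OZ Q) (hA.comm.trans (cent_le_cent1 ha)))
  have h6 := card_inf_mul_relIndex C[a] (OZ Q)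
  rw [inf_comm] at h6
  have := Nat.pow_le_pow_left (Nat.le_of_mul_le_mul_left (h6.le.trans (h1.trans (Nat.mul_le_mul h5 h2)))
    (card_pos _)) 3
  obtain ⟨n, c⟩ := (OZ_pg Q).exists_card
  have := ne_bot_iff_one_lt_card.1 k.lc.V1
  have : n < 7 := (Nat.pow_lt_pow_iff_right one_lt_two).1 (by omega)
  refine (show #(OZ Q) = 8 ∨ #(OZ Q) = 64 by interval_cases n <;> omega).imp (⟨·, i⟩) fun c =>
    ⟨.of h k.syl.pi fun t ht n t2 => ?_, .inr ⟨c, i⟩⟩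
  rw [← card_inf_mul_relIndex C[t] (OZ Q), inf_comm]
  exact Nat.mul_le_mul_left _ ((Nat.pow_le_pow_iff_left three_ne_zero).1 (c.ge.trans (cu t ht n t2).1))

theorem uu (nJ : ¬ JT T ≤ Q) (b : #(OZ Q) = 8 ∨ Bg Q T) (ha : a ∈ R₁ ⊓ R₂) (na : a ∉ Q) :
    OZ Q ⊓ C[a] ≤ C(R₂) ∨ OZ Q ⊓ C[a] ≤ C(R₁) := by
  rcases b with c | b
  · by_contra! n
    have h1 := card_lt2 (inf_le_left.lt_of_ne fun e : OZ Q ⊓ C[a] = _ => na (k.lc.cw' h (OZ_pg Q) k.lc.V1 k.lc.nV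
      (le_cent1_iff.1 (inf_eq_left.1 e))))
    have h2 := ne_bot_iff_one_lt_card.1 k.Z1
    have : ∀ {R}, a ∈ R → ¬ OZ Q ⊓ C[a] ≤ C(R) → OZ T ≤ OZ Q ⊓ C(R) → OZ Q ⊓ C(R) ≤ OZ T := fun ha n l => by
      have := card_lt2 ((inf_le_inf_left (OZ Q) (cent_le_cent1 ha)).lt_of_ne fun e => n (e.ge.trans inf_le_right))
      exact (eq_of_le_of_card_ge l (by omega)).ge
    exact k.Z1 (k.triv h le_rfl (k.c1 (this ha.1 n.2 k.Zle)) (k.swap.c1 (this ha.2 n.1 k.swap.Zle)))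
  obtain ⟨A, hA, nA⟩ := exists_off nJ
  obtain ⟨c, hc, nc⟩ := SetLike.not_le_iff_exists.1 nA
  have h1 := off hA k.le (OZ_ab Q) (OZ_le Q) (inf_le_right.trans (cent_OZ Q))
  have h2 := Nat.le_of_mul_le_mul_left ((Nat.mul_le_mul_right _ (card_le (inf_le_inf_left (OZ Q)
    (hA.comm.trans (cent_le_cent1 hc))))).trans ((b c (hA.le hc) nc).trans h1)) (card_pos _)
  have : ∀ {R y}, S4 M Q T R y → a ∈ R → A ≤ R → OZ Q ⊓ C[a] ≤ C(R) := fun {R y} s ha l => by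
    have n := hA.le.trans (k.syl.le.trans k.lc.nQ)
    have e := relIndex_mul_relIndex _ _ _ le_sup_left (sup_le s.le l)
    rw [relIndex_sup_of_norm n, s.idx] at e
    have := relIndex_pos (Q ⊔ A) R
    have l' : OZ Q ⊓ A ≤ C(R) := (le_inf (inf_le_left.trans (OZ_cent Q)) (inf_le_right.trans hA.comm)).trans
      ((cent_sup Q A).ge.trans (cent_mono (relIndex_eq_one.1 (by nlinarith))))
    refine (eq_of_le_of_card_ge (le_inf inf_le_left (l'.trans (cent_le_cent1 ha))) ?_).ge.trans l'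
    have := (b a (s.p.le ha) na).trans h1
    nlinarith
  exact (k.el' hA.le fun b hb => sq1 hA.ea hb ▸ one_mem Q).symm.imp (this k.s2 ha.2) (this k.s1 ha.1)

theorem fs (b : #(OZ Q) = 8 ∧ T.relIndex M = 21 ∨
    Bg Q T ∧ (#(OZ Q) = 16 ∧ T.relIndex M = 45 ∨ #(OZ Q) = 64 ∧ T.relIndex M = 21)) (ha : a ∈ R₁ ⊓ R₂) (na : a ∉ Q)
    (hU : OZ Q ⊓ C[a] ≤ C(R₂)) : FS M Q T R₁ y₁ y₂ := by
  have ab := OZ_ab Q
  have cz : OZ Q ⊓ C(R₁) ≤ OZ T := (le_inf inf_le_left (by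
    rw [← k.sup, cent_sup]
    exact le_inf inf_le_right ((inf_le_inf_left _ (cent_le_cent1 ha.1)).trans hU))).trans k.Zeq
  have c1 := k.c1 cz
  have z2 : OZ T ⊓ C[y₂] = ⊥ := k.triv h inf_le_left (cent_mono inf_le_left c1) (le_cent1_iff.1 inf_le_right)
  have lU := k.swap.Zle
  have lU' := cj_le_of_mem_norm k.swap.nU lU
  have dj : OZ T ⊓ cj y₂ (OZ T) = ⊥ := H19.eq_bot_mono (le_inf inf_le_left (le_cent1_iff.2 (k.s2.p.cent
    ((cent_OZ T).trans (cent_mono inf_le_left)) ((cj_mono y₂ (cent_OZ T)).trans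
      ((cj_cent ..).le.trans (cent_mono inf_le_right)))))) z2
  have h1 := H24.OA.card_mul_le_of_disj lU lU' (norms_of_comm ab.1 (lU'.trans inf_le_left) (lU.trans inf_le_left)) dj
  have h2 := card_le (inf_le_inf_left (OZ Q) (cent_le_cent1 ha.2))
  have h3 := card_le (inf_le_left : OZ Q ⊓ C[a] ≤ _)
  have h4 := ne_bot_iff_one_lt_card.1 k.Z1
  rw [card_cj] at h1
  have h5 := b.imp And.left fun b => And.intro (b.1 a (k.s1.p.le ha.1) na) b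
  obtain ⟨z, hz, z1⟩ := exists_ne_one k.Z1
  have nz : y₂ ∉ C[z] := fun c => z1 (mem_bot.1 (z2.le ⟨hz, mem_cent1.2 (mem_cent1.1 c).symm⟩))
  have l1 : T ⊔ zpowers y₁ ≤ C[z] := (sup_le (cent_OZ T) (zpowers_le.2 c1)).trans (cent_le_cent1 hz)
  have lM : T ⊔ zpowers y₁ ≤ M := sup_le k.syl.le (zpowers_le.2 k.s1.yM)
  have ix : 3 * (cls M z).ncard = T.relIndex M := by
    rw [orb, ← inf_relIndex_right, (k.s1.mx _ (le_inf l1 lM) inf_le_right).resolve_right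
      fun e => nz (e.ge k.s2.yM).1, ← k.s1.p.idx3, relIndex_mul_relIndex _ _ _ le_sup_left lM]
  have lV : insert 1 (cls M z) ⊆ OZ Q := Set.insert_subset (one_mem _) fun _ ⟨m, hm, e⟩ =>
    e ▸ conj_mem_of_norm (k.lc.nV hm) (lU hz).1
  refine ⟨cz, c1, z2, by rcases h5 with c | ⟨_, -, c | c⟩ <;> nlinarith, h5.imp_right fun c => ⟨by nlinarith, c.2.1⟩, ?_⟩
  have full : #(OZ Q) = (cls M z).ncard + 1 → ∀ v ∈ OZ Q, v ≠ 1 → v ∈ cls M z := fun c v hv v1 =>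
    ins (one_cls z1) lV c hv v1
  rcases b with c | ⟨b, c | c⟩
  · exact ⟨_, z, le_rfl, k.lc.nV, hz, z1, full (by omega), .inl c.1⟩
  · exact ⟨_, z, le_rfl, k.lc.nV, hz, z1, full (by omega), .inr ⟨c.1, fun t ht n => by have := b t ht n; omega⟩⟩
  have hz' : y₂ * z * y₂⁻¹ ∈ cj y₂ (OZ T) := conj_mem_cj.2 hz
  have cm : ∀ {u v}, u ∈ OZ Q → v ∈ OZ Q → u * v = v * u := mul_comm_of_comm ab.1
  have e3 : z * (y₂ * z * y₂⁻¹) = y₂⁻¹ * z * y₂⁻¹⁻¹ := by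
    have hz'' := conj_mem_of_norm (inv_mem k.swap.nU) (lU hz)
    by_contra ne
    obtain ⟨w, hw, w1, hw'⟩ := H24.OB.meetZ (U := OZ Q ⊓ C(R₂ ⊔ zpowers y₂)) k.syl.pi
      (inf_le_left.trans ((OZ_le Q).trans k.le)) (norms_inf (k.syl.le.trans k.lc.nV) (norms_cent k.s2.p.n3))
      (ne_bot_of_mem (x := z * (y₂ * z * y₂⁻¹) * (y₂⁻¹ * z * y₂⁻¹⁻¹)) (by
        have := mul_mem (mul_mem (lU hz) (lU' hz')) hz''
        rw [cent_sup, cent_zpowers]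
        refine ⟨this.1, this.2, mem_cent1.2 (mul_inv_eq_iff_eq_mul.1 ?_).symm⟩
        have e : y₂ * y₂ = y₂⁻¹ := eq_inv_of_mul_eq_one_left (by rw [← k.s2.p.y3, pow_three'])
        calc _ = y₂ * z * y₂⁻¹ * (y₂ * y₂ * z * (y₂ * y₂)⁻¹) * z := by group
          _ = _ := by rw [e, mul_assoc z, cm (lU hz).1 (mul_mem (lU' hz') hz'').1])
      fun e => ne (by rw [eq_inv_of_mul_eq_one_left e, inv_eq_of_mul_eq_one_left (sq1 ab hz''.1)]))
    exact w1 (mem_bot.1 (z2.le ⟨hw', cent_zpowers y₂ ▸ cent_mono le_sup_right hw.2⟩))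
  have nT : ¬ T ≤ C[y₂ * z * y₂⁻¹] := fun l => z1 (conj_eq_one_iff.1 (mem_bot.1 (dj.le
    ⟨k.Zeq ⟨(lU' hz').1, le_cent1_iff.1 l⟩, hz'⟩)))
  have l2 : R₂ ≤ C[y₂ * z * y₂⁻¹] ⊓ (T ⊔ zpowers y₁) :=
    le_inf (le_cent1_iff.2 (lU' hz').2) (k.s2.p.le.trans le_sup_left)
  have i6 : (cls (T ⊔ zpowers y₁) (y₂ * z * y₂⁻¹)).ncard = 6 := by
    rw [orb, ← inf_relIndex_right]
    generalize C[y₂ * z * y₂⁻¹] = Y at *
    have p2 : PG 2 (Y ⊓ (T ⊔ zpowers y₁) : Subgroup G) := fun p hp d =>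
      ((k.s1.p.pi.of_le inf_le_right) p hp d).resolve_right fun p3 => by
        obtain ⟨c, hc, o⟩ := exists_orderOf_eq_prime hp d
        have o : orderOf c = 3 := o.trans p3
        have e : Y ⊓ R₁ = R₁ ⊓ R₂ := (eq_of_prime_index (le_inf (inf_le_right.trans (l2.trans inf_le_left)) inf_le_left)
          inf_le_right (by
            have := card_mul_relIndex (inf_le_left : R₁ ⊓ R₂ ≤ _)
            rw [k.card_inf, k.s1.card] at this
            rw [Nat.eq_of_mul_eq_mul_left (Nat.mul_pos (card_pos Q) two_pos) (this.trans (by ring : _ = #Q * 2 * 2))]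
            exact Nat.prime_two)).resolve_right fun e => nT (k.sup.ge.trans (sup_le (inf_eq_right.1 e)
              (l2.trans inf_le_left)))
        rcases k.s1.ir k.lc.nQ (le_inf k.s1.le k.s2.le) inf_le_left (sup_le (norms_inf k.s1.p.nS k.s2.p.nS)
          (e ▸ norms_inf (norms_of_le (zpowers_le.2 hc.1)) (zpowers_le.2 (k.s1.p.norm hc.2)))
          ((k.s1.p.sup_eq o hc.2).ge (mem_sup_right (mem_zpowers _)))) with e | e
        exacts [na (e.le ha), k.nle (inf_eq_left.1 e)]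
    have lT := le_sup_right.trans (k.s1.p.syl.max (K := R₁ ⊔ Y ⊓ (T ⊔ zpowers y₁))
      (k.sup.ge.trans (sup_le_sup_left l2 _)) (sup_le (k.s1.p.le.trans le_sup_left) inf_le_right)
      (k.s1.p.pR.sup p2 (inf_le_right.trans k.s1.p.norm))).le
    rw [(eq_of_prime_index l2 lT (k.s2.p.idx ▸ Nat.prime_two)).resolve_right fun e => nT (e.ge.trans inf_le_left),
      ← relIndex_mul_relIndex _ _ _ k.s2.p.le le_sup_left, k.s2.p.idx, k.s1.p.idx3]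
  have cl : ∀ {m v}, m ∈ M → v ∈ cls M z → m * v * m⁻¹ ∈ cls M z := by
    rintro m _ hm ⟨n, hn, rfl⟩
    exact ⟨m * n, mul_mem hm hn, by group⟩
  have cz' : ∀ {p}, p ∈ T ⊔ zpowers y₁ → p * z * p⁻¹ = z := fun hp => mul_inv_eq_iff_eq_mul.2 (mem_cent1.1 (l1 hp))
  have ml : ∀ v ∈ cls M z, v ≠ z → z * v ∈ cls M z := fun v hv ne => by
    obtain ⟨p, hp, rfl⟩ := ins (s := cls (T ⊔ zpowers y₁) (y₂ * z * y₂⁻¹)) (S := cls M z) (fun ⟨p, hp, e⟩ => nz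
      (mem_cent1.2 (mul_inv_eq_iff_eq_mul.1 ((MulAut.conj p).injective (e.symm.trans (cz' hp).symm)))))
      (Set.insert_subset ⟨1, one_mem _, by group⟩ fun _ ⟨p, hp, e⟩ => by
        rw [e]; exact cl (lM hp) ⟨_, k.s2.yM, rfl⟩) (by omega) hv ne
    have := cl (lM hp) (v := z * (y₂ * z * y₂⁻¹)) ⟨_, inv_mem k.s2.yM, e3⟩
    rwa [← conj_mul, cz' hp] at this
  let V : Subgroup G := ⟨⟨⟨insert 1 (cls M z), by
    rintro u v (rfl | ⟨m, hm, rfl⟩) (rfl | hv)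
    · simp
    · exact .inr (by rwa [one_mul])
    · exact .inr ⟨m, hm, mul_one _⟩
    · refine (em (m⁻¹ * v * m⁻¹⁻¹ = z)).imp (fun e => ?_) fun n => ?_
      · rw [← sq1 ab (lV (.inr hv)), ← e]; group
      · simpa only [← mul_assoc, inv_inv, mul_inv_cancel_right] using cl hm (ml _ (cl (inv_mem hm) hv) n)⟩,
    .inl rfl⟩, fun hv => by rwa [inv_eq_of_mul_eq_one_left (sq1 ab (lV hv))]⟩
  refine ⟨V, z, lV, fun m hm => mem_norm_of_cj_le fun _ hv => ?_, hz, z1, fun v hv v1 => hv.resolve_left v1,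
    .inl ((Set.ncard_insert_of_notMem (one_cls z1)).trans (by omega))⟩
  obtain ⟨v, rfl | hv', rfl⟩ := mem_cj'.1 hv
  exacts [.inl (by group), .inr (cl hm hv')]

end D8

theorem ffp : FFP.{u} := fun _ _ _ _ _ _ _ _ _ _ h k nJ =>
  let ⟨_, ha, na⟩ := k.exa
  have b := k.num h nJ
  (k.uu h nJ (b.imp And.left And.left) ha na).imp (k.fs h b ha na) (k.swap.fs h b ⟨ha.2, ha.1⟩ na)

end H13.O8
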