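import Cfsg.Agent.H13.SG3

/-! S5636: double transitivity (chunk TWO). -/

set_option autoImplicit false
set_option linter.unusedSectionVars false

open Module MulAction H13.R3

namespace H13.SG

universe u

variable {F K : Type u} [Field F] [Fintype F] [Field K] [Fintype K] [Algebra F K] {J : Subgroup (K ≃ₗ[F] K)}
  {Γ : K → K → Prop} {x y z u w : K} {j : K ≃ₗ[F] K}

instance : Finite (K ≃ₗ[F] K) := DFunLike.finite _

variable (J) in
/-- orbital -/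
def Ob (x y a b : K) : Prop := ∃ j ∈ J, ∃ s : F, s ≠ 0 ∧ j x = a ∧ s • j y = b
theorem Ob.self : Ob J x y x y := ⟨1, one_mem _, 1, one_ne_zero, rfl, one_smul _ _⟩
theorem ob_inv (i : Ind F x y) : Inv J (Ob J x y) :=
  ⟨by rintro j hj _ _ ⟨g, hg, s, s0, rfl, rfl⟩; exact ⟨j * g, mul_mem hj hg, s, s0, rfl, (map_smul j _ _).symm⟩,
    by rintro t t0 _ _ ⟨g, hg, s, s0, rfl, rfl⟩; exact ⟨g, hg, t * s, mul_ne_zero t0 s0, rfl, mul_smul _ _ _⟩,
    by rintro _ _ ⟨g, hg, s, s0, rfl, rfl⟩; simpa using (i.smul g).sml one_ne_zero s0⟩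
theorem Ob.two {a b : K} (h : Ob J x y a b) : ∃ j ∈ J, j • x = a ∧ ∃ c : F, j • y = c • b :=
  let ⟨j, hj, s, s0, e, e'⟩ := h; ⟨j, hj, e, s⁻¹, by rw [← e', inv_smul_smul₀ s0]; rfl⟩

variable (F) in
def Ex (Γ : K → K → Prop) (x y : K) : Prop := Ind F x y ∧ ∃ z, Γ x z ∧ y ∈ ln F x z
theorem Inv.ex (i : Inv J Γ) : Inv J (Ex F Γ) :=
  ⟨fun j hj _ _ ⟨h, z, h1, h2⟩ => ⟨h.smul j, j z, i.eqv j hj _ _ h1, smul_mem_ln j h2⟩,
    fun s s0 _ _ ⟨h, z, h1, h2⟩ => ⟨by simpa using h.sml one_ne_zero s0, z, h1, Submodule.smul_mem _ _ h2⟩, fun _ _ h => h.1⟩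

variable (J) in
def Full (x y : K) : Prop := ∀ s : F, ∃ j ∈ J, j x = x ∧ j y = y + s • x
theorem Full.smul (h : Full J x y) (hj : j ∈ J) : Full J (j x) (j y) := fun s =>
  let ⟨g, hg, e, e'⟩ := h s
  ⟨j * g * j⁻¹, mul_mem (mul_mem hj hg) (inv_mem hj), by simp [e], by simp [e']⟩
theorem Full.of (h : Full J x y) (i : Ind F u w) (h1 : u ∈ F ∙ x) (h2 : w ∈ ln F x y) : Full J u w := fun s => by
  obtain ⟨a, rfl⟩ := Submodule.mem_span_singleton.1 h1
  obtain ⟨c, b, rfl⟩ := mem_ln.1 h2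
  have b0 : b ≠ 0 := by
    rintro rfl
    exact i.2 (by rw [sp_eq i.1 h1]; simpa using Submodule.smul_mem _ c (Submodule.mem_span_singleton_self x))
  obtain ⟨g, hg, e, e'⟩ := h (s * a / b)
  exact ⟨g, hg, by simp [e], by simp only [map_add, map_smul, e, e']; match_scalars <;> field_simp⟩
theorem Full.line (h : Full J x y) (h' : Full J y x) (i : Ind F u w) (h1 : u ∈ ln F x y) (h2 : w ∈ ln F x y) :
    Full J u w := by
  obtain ⟨a, b, rfl⟩ := mem_ln.1 h1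
  by_cases b0 : b = 0
  · exact h.of i (by simpa [b0] using Submodule.smul_mem _ a (Submodule.mem_span_singleton_self x)) h2
  obtain ⟨g, hg, e, e'⟩ := h (a / b)
  obtain ⟨c, d, rfl⟩ := mem_ln.1 h2
  refine (h'.smul hg).of i (Submodule.mem_span_singleton.2 ⟨b, ?_⟩) (mem_ln.2 ⟨d, c - d * a / b, ?_⟩) <;>
    simp only [e, e'] <;> match_scalars <;> field_simp <;> ring

theorem notF {c : K} (i : Ind F x (c * x)) : c ∉ F ∙ (1 : K) := fun h => by
  obtain ⟨s, rfl⟩ := mem_one.1 h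
  exact i.2 (Algebra.smul_def s x ▸ Submodule.smul_mem _ s (Submodule.mem_span_singleton_self x))

variable (hy : Hy J) (vv : VV J) (d : finrank F K ∣ Fintype.card F - 1)
include hy vv d

theorem noex (i : Inv J Γ) (n : ¬ Pr J Γ) : ¬ Pr J (Ex F Γ) := fun h => by
  have h3 := vv.v3 _ i.ex h (hy.lt_q d) 1 one_ne_zero
  have h2 := vv.v2 _ i n 1
  have h1 : {y | Ex F Γ 1 y}.ncard ≤ {y | Γ 1 y}.ncard * (Fintype.card F * Fintype.card F) := by
    refine (Set.ncard_le_ncard (t := (fun a : K × F × F => a.2.1 • (1 : K) + a.2.2 • a.1) '' ({y | Γ 1 y} ×ˢ Set.univ))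
      ?_).trans ((Set.ncard_image_le (Set.toFinite _)).trans_eq (by simp [Set.ncard_prod]))
    rintro y ⟨_, z, h1, h2⟩
    obtain ⟨a, b, e⟩ := mem_ln.1 h2
    exact ⟨(z, a, b), ⟨h1, trivial⟩, e⟩
  have q := hy.lt_q d
  have n13 := hy.n13
  generalize Fintype.card F = q' at *
  generalize finrank F K = m at *
  have : q' ^ m ≤ q' ^ 7 := calc
    _ ≤ q' * (q' ^ 3 * q' * (q' * q')) := h3.trans (Nat.mul_le_mul q (h1.trans (Nat.mul_le_mul_right _
      (h2.trans (Nat.mul_le_mul_right _ (Nat.pow_le_pow_left q.le 3))))))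
    _ = _ := by ring
  have := (Nat.pow_le_pow_iff_right (by omega)).1 this
  omega

theorem t1 (i : Inv J Γ) (h : Γ x z) : Pr J Γ := by_contra fun n => by
  have i1 := i.ex
  have i2 : Inv J fun a b => Ex F Γ b a :=
    ⟨fun j hj _ _ => i1.eqv j hj _ _, fun _ s0 _ _ => hy.inv_sml i1 s0, fun _ _ k => (i1.ind _ _ k).symm⟩
  have k := i.ind _ _ h
  obtain ⟨s, s', c, ne, hc, e⟩ := hy.pigeon d k
  have sp := fun t : F => Submodule.smul_mem _ t (Submodule.mem_span_singleton_self x)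
  have k1 : Ind F x (z + s • x) := ⟨k.1, fun l => k.2 ((add_mem_cancel_right (sp s)).1 l)⟩
  refine noex hy vv d i2 (fun ⟨c, a, hc, k⟩ => noex hy vv d i n ⟨c⁻¹, c * a, hc.inv, by
    rwa [inv_mul_cancel_left₀ hc.ne0]⟩) ⟨c, z + s • x, hc, e ▸ ⟨⟨k1.ne0, fun l => k1.symm.2 ?_⟩, x,
      ⟨k1, z, h, add_mem r_ln (sp_le_ln (sp s))⟩, mem_ln.2 ⟨1, s' - s, by module⟩⟩⟩
  have := sub_mem l (Submodule.mem_span_singleton_self _)
  rwa [add_sub_add_left_eq_sub, ← sub_smul, Submodule.smul_mem_iff _ (sub_ne_zero.2 ne.symm)] at this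

theorem big (i : Ind F x y) : Fintype.card F ^ finrank F K ≤ (finrank F K + 1) * {b | Ob J x y x b}.ncard :=
  vv.v3 _ (ob_inv i) (t1 hy vv d (ob_inv i) Ob.self) (hy.lt_q d) x i.1

theorem eig (i : Ind F x y) {φ : K ≃ₗ[F] K} (hφ : φ ∈ J) {η : F} (hη : IsPrimitiveRoot η (finrank F K))
    (e1 : φ x = η • x) (e2 : φ y = y) : Full J x y := fun s => by
  by_cases s0 : s = 0
  · exact ⟨1, one_mem _, rfl, by simp [s0]⟩
  have sp := Submodule.mem_span_singleton_self (R := F) x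
  have n13 := hy.n13
  by_cases h : J ⊓ St _ (F ∙ x) ⊓ stabilizer _ (y + s • x) ≤ stabilizer _ y
  · exfalso
    have b := (big hy vv d i).trans (Nat.mul_le_mul_left _ (Set.ncard_le_ncard
      (t := {b | ∃ j ∈ J ⊓ St _ (F ∙ x), j • y = b}) (by
        rintro _ ⟨j, hj, t, t0, e, rfl⟩
        obtain ⟨g, hg, e'⟩ := hy.sc.mem_St (F ∙ x) t0
        exact ⟨g * j, mul_mem hg ⟨hj, mem_St_sp (show j x ∈ _ from e.symm ▸ sp)⟩, e' _⟩)))
    have m : φ ∈ J ⊓ St _ (F ∙ x) ⊓ stabilizer _ y := ⟨⟨hφ, mem_St_sp (show φ x ∈ _ from e1 ▸ Submodule.smul_mem _ _ sp)⟩, e2⟩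
    have k1 : finrank F K ≤ {b | ∃ j ∈ J ⊓ St _ (F ∙ x) ⊓ stabilizer _ y, j • (y + s • x) = b}.ncard := by
      have pw : ∀ k : ℕ, (φ ^ k) x = η ^ k • x := fun k => by
        induction k with
        | zero => simp
        | succ k ih => rw [pow_succ', LinearEquiv.mul_apply, ih, map_smul, e1, smul_smul, pow_succ]
      refine (Set.ncard_Iio_nat _).ge.trans (Set.ncard_le_ncard_of_injOn (fun k => y + s • η ^ k • x)
        (fun k _ => ⟨φ ^ k, pow_mem m k, ?_⟩) fun a ha b hb e => hη.pow_inj ha hb ?_)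
      · rw [smul_add, (pow_mem m k).2, gsc _ s]; exact congrArg (y + s • ·) (pw k)
      · exact smul_left_injective F i.1 (smul_right_injective K s0 (add_left_cancel e))
    have k2 := Subgroup.relIndex_mul_relIndex _ _ _ (le_inf inf_le_left h) (inf_le_left (a := J ⊓ St _ (F ∙ x)))
    rw [ncard_orb, inf_right_comm, inf_eq_left.2 h] at k1
    have k3 := Nat.mul_le_mul_right ((J ⊓ St _ (F ∙ x) ⊓ stabilizer _ y).relIndex (J ⊓ St _ (F ∙ x))) k1
    rw [k2, ← ncard_orb, ← ncard_orb] at k3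
    have p0 : 0 < {b | ∃ j ∈ J ⊓ St _ (F ∙ x), j • y = b}.ncard := (Set.ncard_pos).2 ⟨y, 1, one_mem _, one_smul _ _⟩
    by_cases l : ∃ j ∈ J ⊓ St _ (F ∙ x), j • y = y + s • x
    · rw [show {b | ∃ j ∈ J ⊓ St _ (F ∙ x), j • (y + s • x) = b} = {b | ∃ j ∈ J ⊓ St _ (F ∙ x), j • y = b} from
        Set.ext fun b => ⟨otrans l, otrans (osymm l)⟩] at k3
      nlinarith
    have k4 := Set.ncard_le_ncard (s := {b | ∃ j ∈ J ⊓ St _ (F ∙ x), j • y = b} ∪
      {b | ∃ j ∈ J ⊓ St _ (F ∙ x), j • (y + s • x) = b}) (t := {u | u ≠ 0}) (by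
        rintro _ (⟨j, -, rfl⟩ | ⟨j, -, rfl⟩)
        · exact mt gsz.1 i.ne0
        · exact mt gsz.1 fun e => i.2 (by simpa [eq_neg_of_add_eq_zero_left e] using Submodule.smul_mem _ s sp))
    have dj : Disjoint {b | ∃ j ∈ J ⊓ St _ (F ∙ x), j • y = b} {b | ∃ j ∈ J ⊓ St _ (F ∙ x), j • (y + s • x) = b} :=
      Set.disjoint_left.2 fun b h1 h2 => l (otrans h1 (osymm h2))
    rw [Set.ncard_union_eq dj, ncard_ne0' (F := F)] at k4
    have : 0 < Fintype.card F ^ finrank F K := Nat.pow_pos Fintype.card_pos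
    rw [add_mul] at b
    omega
  obtain ⟨j, ⟨hj, f1⟩, f2⟩ := SetLike.not_le_iff_exists.1 h
  obtain ⟨e, e0, f3⟩ := sp_c i.1 (sp_st hj.2)
  replace f3 : j x = e • x := f3
  have f4 : j y = y + (s * (1 - e)) • x := by
    have : j (y + s • x) = y + s • x := f1
    rw [map_add, map_smul, f3] at this
    rw [eq_sub_of_add_eq this]; module
  have e3 : 1 - e ≠ 0 := fun k => f2 (show j y = y by simp [f4, k])
  let E : AddSubgroup F :=
    { carrier := {μ | ∃ j ∈ J, j x = x ∧ j y = y + μ • x}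
      zero_mem' := ⟨1, one_mem _, rfl, by simp⟩
      add_mem' := fun {a b} ⟨g, hg, g1, g2⟩ ⟨k, hk, k1, k2⟩ => ⟨g * k, mul_mem hg hk, by simp [g1, k1], by
        simp [g1, g2, k2, add_smul, add_assoc]⟩
      neg_mem' := fun {a} ⟨g, hg, g1, g2⟩ => ⟨g⁻¹, inv_mem hg, g.injective (by simp [g1]), g.injective (by simp [g1, g2])⟩ }
  let L : Subring F :=
    { carrier := {a | ∀ μ ∈ E, a * μ ∈ E}
      one_mem' := fun μ h => by simpa
      zero_mem' := fun μ _ => by simp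
      mul_mem' := fun ha hb μ h => mul_assoc _ _ μ ▸ ha _ (hb μ h)
      add_mem' := fun ha hb μ h => add_mul _ _ μ ▸ add_mem (ha μ h) (hb μ h)
      neg_mem' := fun ha μ h => neg_mul _ μ ▸ neg_mem (ha μ h) }
  have iv : ∀ g : K ≃ₗ[F] K, ∀ a b : F, a ≠ 0 → g x = a • x → g y = y + b • x →
      g⁻¹ x = a⁻¹ • x ∧ g⁻¹ y = y - (b / a) • x := fun g a b a0 g1 g2 =>
    ⟨g.injective (by simp [g1, a0]), g.injective (by simp [g1, g2, smul_smul, a0])⟩
  have cj : ∀ g ∈ J, ∀ a b : F, a ≠ 0 → g x = a • x → g y = y + b • x → a ∈ L := fun g hg a b a0 g1 g2 μ ⟨t, ht, t1, t2⟩ =>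
    ⟨g * t * g⁻¹, mul_mem (mul_mem hg ht) (inv_mem hg), by simp [iv g a b a0 g1 g2, t1, g1, a0], by
      simp only [LinearEquiv.mul_apply, iv g a b a0 g1 g2, map_sub, map_add, map_smul, t1, t2, g1, g2]
      match_scalars <;> field_simp <;> ring⟩
  have η0 := hη.ne_zero hy.pr.ne_zero
  have e2' : φ y = y + (0 : F) • x := by simp [e2]
  have m : s * (1 - e) * (1 - η) ∈ E := ⟨j * φ * j⁻¹ * φ⁻¹, mul_mem (mul_mem (mul_mem hj.1 hφ) (inv_mem hj.1)) (inv_mem hφ),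
    by simp only [LinearEquiv.mul_apply, iv j _ _ e0 f3 f4, iv φ _ _ η0 e1 e2', map_smul, e1, f3]; match_scalars; field_simp, by
      simp only [LinearEquiv.mul_apply, iv j _ _ e0 f3 f4, iv φ _ _ η0 e1 e2', map_sub, map_smul, e1, e2, f3, f4]
      match_scalars <;> field_simp <;> ring⟩
  have := pow_mem (mul_mem (sub_mem L.one_mem (cj j hj.1 _ _ e0 f3 f4)) (sub_mem L.one_mem (cj φ hφ _ _ η0 e1 e2')))
    (Fintype.card F - 2) _ m
  rwa [mul_assoc s, mul_left_comm, ← pow_succ, show Fintype.card F - 2 + 1 = Fintype.card F - 1 by have := q2 F; omega,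
    FiniteField.pow_card_sub_one_eq_one _ (mul_ne_zero e3 (sub_ne_zero.2 (hη.ne_one hy.pr.one_lt).symm)), mul_one] at this

theorem full (i : Ind F x y) : Full J x y := by
  obtain ⟨β, ζ, hζ, β0, hβ, cl⟩ := hy.ex_beta d
  have ζ0 := hζ.ne_zero hy.pr.ne_zero
  have i1 : Ind F 1 β := ⟨one_ne_zero, fun h => by
    obtain ⟨s, rfl⟩ := mem_one.1 h
    rw [alg_pow_q] at hβ
    exact hζ.ne_one hy.pr.one_lt (smul_left_injective F β0 (hβ.symm.trans (one_smul _ _).symm))⟩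
  obtain ⟨s, s', c, ne, hc, e⟩ := hy.pigeon d i1
  have sp := fun t : F => Submodule.smul_mem _ t (Submodule.mem_span_singleton_self (1 : K))
  have u0 : β + s • 1 ≠ 0 := fun k => i1.2 (eq_neg_of_add_eq_zero_left k ▸ neg_mem (sp s))
  obtain ⟨a, ha⟩ := vv.v1 _ (ob_inv i) (t1 hy vv d (ob_inv i) Ob.self) c hc fun h => by
    obtain ⟨t, rfl⟩ := mem_one.1 h
    rw [← Algebra.smul_def] at e
    have := ind_iff.1 i1 (s' - t * s) (1 - t) (by linear_combination (norm := module) e)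
    exact ne (by rw [sub_eq_zero.1 this.1, ← sub_eq_zero.1 this.2, one_mul])
  obtain ⟨k, -, b, hb, e'⟩ := cl (a / (β + s • 1)) (div_ne_zero ((ob_inv i).ind _ _ ha).1 u0)
  have h1 := (ob_inv i).mu hb.inv ha
  rw [(div_eq_iff u0).1 e', mul_left_comm _ c, mul_assoc b, inv_mul_cancel_left₀ hb.ne0, mul_left_comm, ← e] at h1
  obtain ⟨φ, hφ, e1⟩ := hy.fr
  have pw : ∀ k : ℕ, φ (β ^ k) = ζ ^ k • β ^ k := fun k => by rw [e1, ← pow_mul, mul_comm, pow_mul, hβ, smul_pow]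
  have i2 : Ind F (β ^ k) (β ^ (k + 1)) := ⟨pow_ne_zero _ β0, fun h => by
    obtain ⟨t, ht⟩ := Submodule.mem_span_singleton.1 h
    exact i1.2 (Submodule.mem_span_singleton.2 ⟨t, mul_left_cancel₀ (pow_ne_zero k β0) (by simpa [pow_succ] using ht)⟩)⟩
  obtain ⟨z1, m1, f1⟩ := hy.sc _ (inv_ne_zero (pow_ne_zero (k + 1) ζ0))
  obtain ⟨z2, m2, f2⟩ := hy.sc _ (inv_ne_zero (pow_ne_zero k ζ0))
  simp only [LinearEquiv.smul_def] at f1 f2
  have := (eig hy vv d i2 (mul_mem m1 hφ) hζ.inv (by simp [f1, pw, pow_succ, mul_smul, ζ0]) (by simp [f1, pw, ζ0])).line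
    (eig hy vv d i2.symm (mul_mem m2 hφ) hζ (by rw [LinearEquiv.mul_apply, f2, pw, pow_succ ζ, mul_smul, inv_smul_smul₀ (pow_ne_zero k ζ0)]) (by simp [f2, pw, ζ0]))
    ((ob_inv i).ind _ _ h1) (mem_ln.2 ⟨s, 1, by simp [mul_add, pow_succ, add_comm]⟩)
    (mem_ln.2 ⟨s', 1, by simp [mul_add, pow_succ, add_comm]⟩)
  obtain ⟨j, hj, t, t0, g1, g2⟩ := h1
  rw [← g1, ← g2] at this
  exact (this.smul (inv_mem hj)).of i (by simp) (by simpa [t0] using mem_ln.2 ⟨0, t⁻¹, by simp [t0]⟩)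

omit hy vv d in
theorem two : TWO.{u} := by
  intro F K _ _ _ _ _ J hy pt vv
  by_cases d : finrank F K ∣ Fintype.card F - 1
  swap
  · intro x y x' y' i i'
    obtain ⟨a, ha⟩ := vv.v1 _ (ob_inv i) ⟨y / x, x, hy.mu_all d (div_ne_zero i.ne0 i.1), by
      rw [div_mul_cancel₀ _ i.1]; exact Ob.self⟩ (y' / x') (hy.mu_all d (div_ne_zero i'.ne0 i'.1))
      (notF (x := x') (by rwa [div_mul_cancel₀ _ i'.1]))
    have a0 := ((ob_inv i).ind _ _ ha).1
    have := (ob_inv i).mu (hy.mu_all d (div_ne_zero i'.1 a0)) ha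
    rw [mul_left_comm, div_mul_cancel₀ _ a0, div_mul_cancel₀ _ i'.1] at this
    exact this.two
  obtain ⟨r, k, hr, q⟩ := H3.R3.ex_p F
  have n13 := hy.n13
  obtain ⟨f, hf⟩ := ex_dual1 (F := F) (one_ne_zero (α := K))
  have f0 : f ≠ 0 := by rintro rfl; simp at hf
  obtain ⟨P, l, hP, tr⟩ := H3.R3.sylf (J := J ⊓ stabilizer _ f) (f := f) (x := 1) hr q hf
    (fun j hj => by rw [← show j • f = f from hj.2, dsmul_smul, hf]) fun y hy' => by
      have y0 : y ≠ 0 := by rintro rfl; simp at hy'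
      obtain ⟨j, hj, rfl⟩ := pt 1 y one_ne_zero y0
      obtain ⟨g, hg, e1, e2⟩ := H3.R3.anti (f := j • f) (f' := f) hy.sc (fun w hw c =>
        let ⟨g, hg, e1, e2⟩ := full hy vv d ⟨y0, hw⟩ c; ⟨g, hg, e1, 1, e2.trans (one_smul _ _).symm⟩)
        (by rw [dsmul_smul, hf]) hy'
      exact ⟨g * j, ⟨mul_mem hg hj, (mul_smul _ _ _).trans e2⟩, (mul_smul _ _ _).trans e1⟩
  have dK := finrank_ker f0
  obtain ⟨a, ha, a0, fa⟩ := H3.R3.fixp hr q hP (W := LinearMap.ker f) (fun e => by rw [e, finrank_bot] at dK; omega)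
    fun j hj w hw => by rw [LinearMap.mem_ker, ← show j • f = f from (l hj).2, dsmul_smul]; exact hw
  have key : ∀ y, Ind F a y → Ob J a y a 1 := fun y i => by
    obtain ⟨b, ⟨j, hj, s, s0, e1, e2⟩, hb⟩ : ∃ b, Ob J a y a b ∧ f b ≠ 0 := by
      by_contra! h
      have h1 := Set.ncard_le_ncard (s := {b | Ob J a y a b}) (t := {u | u ∈ LinearMap.ker f ∧ u ≠ 0})
        fun b hb => ⟨h b hb, ((ob_inv i).ind _ _ hb).ne0⟩
      have h2 := (big hy vv d i).trans (Nat.mul_le_mul (hy.lt_q d) h1)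
      have : 0 < Fintype.card F ^ finrank F (LinearMap.ker f) := Nat.pow_pos Fintype.card_pos
      rw [ncard_ne0, ← dK, pow_succ'] at h2
      have := Nat.le_of_mul_le_mul_left h2 Fintype.card_pos
      omega
    obtain ⟨g, hg, e⟩ := tr ((f b)⁻¹ • b) 1 (by simp [hb]) hf
    exact ⟨g * j, mul_mem (l hg).1 hj, (f b)⁻¹ * s, mul_ne_zero (inv_ne_zero hb) s0, by
      rw [LinearEquiv.mul_apply, e1]; exact fa g hg, by rw [← e, ← e2]; simp [mul_smul]⟩
  intro x y x' y' i i'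
  obtain ⟨j, hj, rfl⟩ := pt a x a0 i.1
  obtain ⟨j', hj', rfl⟩ := pt a x' a0 i'.1
  obtain ⟨g, hg, e1, c, e2⟩ := (key (j⁻¹ • y) (by simpa using i.smul j⁻¹)).two
  obtain ⟨g', hg', s, s0, e3, e4⟩ := key (j'⁻¹ • y') (by simpa using i'.smul j'⁻¹)
  refine ⟨j' * g'⁻¹ * g * j⁻¹, mul_mem (mul_mem (mul_mem hj' (inv_mem hg')) hg) (inv_mem hj), ?_, c * s, ?_⟩
  · rw [mul_smul, mul_smul, mul_smul, inv_smul_smul, e1, inv_smul_eq_iff.2 e3.symm]
  · rw [mul_smul, mul_smul, mul_smul, e2, ← e4]; simp [mul_smul]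

end H13.SG
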