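/-
S3159, chunk EN: `G = Sp₈(2)`.
-/
import Cfsg.Agent.H13.SX1
import Cfsg.Agent.H0.Co.B

set_option autoImplicit false
set_option synthInstance.maxSize 2000
set_option linter.unusedSectionVars false
open Cfsg Subgroup H19 H23.F4 H26.SX
open H11.TC (Ch2)
namespace H13.SX
universe u
variable {G : Type u} [Group G] [Finite G] {b r x θ : G} {φ : Sp →* G} {δ : V → G} {ι : Sp8 →* G} {R : Subgroup G}

theorem ea0 (t : tA) : ea b φ (0, t) = φ (dA t) := by simp [ea]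
theorem eab : ea b φ (1, 0, 0, 0) = b := by simp [ea, show dA (0, 0, 0) = 1 from dA_zero]
theorem ea1 : ea b φ (0, 1, 0, 0) = φ d1 := by rw [ea0, dA1]
theorem eaw : ea b φ (0, 1, 1, 0) = φ ww := by rw [ea0]; exact congrArg φ (by decide +kernel)
theorem eaz : ea b φ (0, 1, 1, 1) = φ zz := by rw [ea0]; exact congrArg φ (by decide +kernel)
theorem b3 (W : Wc b φ R) : b ^ 3 = 1 := W.o3 ▸ pow_orderOf_eq_one b
theorem cmb (W : Wc b φ R) {i : ℕ} {g k : Sp} : Commute (b ^ i * φ g) (φ k) ↔ Commute g k := by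
  rw [← comm_map W.inj]
  refine ⟨fun h => ?_, ((W.cb k).pow_left i).mul_left⟩
  simpa using ((W.cb k).pow_left i).inv_left.mul_left h
theorem mA (g : Sp) (h : g ∈ AM) : φ g ∈ AA b φ := mem_sup_right (mem_map_of_mem φ h)
theorem bA : b ∈ AA b φ := mem_sup_left (mem_zpowers b)
theorem inA (api : Api.{u}) (W : Wc b φ R) {g : Sp} (h : φ g ∈ AA b φ) : ∃ t, g = dA t := by
  obtain ⟨v, e⟩ := (api.mem W _).1 h
  refine ⟨v.2, mul_inv_eq_one.1 (eq_one_of_central fun k => (comm_map W.inj).1 ?_)⟩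
  rw [map_mul, map_inv, e, ea, mul_inv_cancel_right]
  exact (W.cb k).pow_left _
theorem cent0 (W : Wc b φ ⊥) (h : Commute x b) : ∃ (i : ℕ) (g : Sp), x = b ^ i * φ g := by
  obtain ⟨i, k, g, hk, e⟩ := W.cent x h
  exact ⟨i, g, by rw [e, mem_bot.1 hk, mul_one]⟩

/-- elements of weight two and three are not conjugate -/
theorem nwz (api : Api.{u}) (h : B4 b r φ ⊥) : ¬ IsConj (φ ww) (φ zz) := fun c => by
  have W := h.toFc.toWc
  have S : Syl 3 (AA b φ) C[φ ww] := syl_pow (m := 4) (by decide) (pg_of_pow p3 (api.cA W).2.2)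
    (fun a ha => mem_cent1.2 (mul_comm_of_comm (api.cA W).2.1 ha (mA _ ⟨(1, 1, 0), by decide +kernel⟩))) fun k hk hn => by
    obtain ⟨m, hm⟩ := (api.nac W k).1 hn
    have L := fun v => (h.lg _).symm.trans ((api.lga W hm v).trans (h.lg v))
    have m4 : cmp4 m (cmp4 m (cmp4 m m)) = id4 := (by decide +kernel : ∀ a, wt a = 1 → ∀ b, wt b = 1 → ∀ c, wt c = 1 →
      b + c = (0, 1, 1, 0) → ∀ d, wt d = 1 → (∀ v, wt (ap4 (a, b, c, d) v) = 1 → wt v = 1) →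
      cmp4 (a, b, c, d) (cmp4 (a, b, c, d) (cmp4 (a, b, c, d) (a, b, c, d))) = id4)
      m.1 (by simpa [ap4] using (L (1, 0, 0, 0)).2 rfl) m.2.1 (by simpa [ap4] using (L (0, 1, 0, 0)).2 rfl)
      m.2.2.1 (by simpa [ap4] using (L (0, 0, 1, 0)).2 rfl) (by
        have := hm (0, 1, 1, 0)
        rw [eaw, mem_cent1.1 hk, mul_inv_cancel_right, ← eaw (b := b)] at this
        simpa [ap4] using (api.einj W this).symm)
      m.2.2.2 (by simpa [ap4] using (L (0, 0, 0, 1)).2 rfl) fun v => (L v).1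
    obtain ⟨v, k', hk', e⟩ := api.cen W _ (m4 ▸ api.amul W hm (api.amul W hm (api.amul W hm hm)))
    rw [mem_bot.1 hk', mul_one] at e
    exact (api.mem W _).2 ⟨v, by rw [← e, pow_succ', pow_three]⟩
  obtain ⟨g, e⟩ := isConj_iff.1 c
  obtain ⟨k, -, hk⟩ := S.scj_le (K := cj g⁻¹ (PM.map φ)) (cj_le_iff.2 (by
    rw [inv_inv, cj_cent1, e, map_le_iff_le_comap]
    refine sup_le (AM_le ?_ ?_ ?_) (zpowers_le.2 ?_) <;>
      exact mem_cent1.2 ((comm_map W.inj).2 (by decide +kernel)))) ((pi_map syl_PM.pi).J _)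
  have := mul_comm_of_comm (api.cA W).2.1 (hk (conj_mem_cj.2 (conj_mem_cj.2 (mem_map_of_mem φ
    (mem_sup_left ⟨_, dA1⟩))))) (hk (conj_mem_cj.2 (conj_mem_cj.2 (mem_map_of_mem φ (mem_sup_right (mem_zpowers ρ))))))
  exact absurd ((comm_map W.inj).1 ((Commute.conj_iff _).1 ((Commute.conj_iff _).1 this))) (by decide +kernel)

/-- long elements centralizing `b d1` and the swap of the last two planes -/
theorem fin (api : Api.{u}) (h : B4 b r φ ⊥) (l : IsConj b θ) (c1 : Commute θ (b * φ d1)) (c2 : Commute θ (φ sw23)) :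
    IsConj b (θ * (b * φ d1)) ∨ IsConj b (θ * (b * φ d1)⁻¹) := by
  have W := h.toFc.toWc
  have ew : ea b φ (1, 1, 0, 0) = b * φ d1 := by simp [ea, dA1]
  have m : ∀ g ∈ AM, Commute g sw23 → φ g ∈ AA b φ ⊓ C[φ sw23] := fun g h c => ⟨mA g h, mem_cent1.2 ((comm_map W.inj).2 c)⟩
  have S : Syl 3 (AA b φ ⊓ C[φ sw23]) (C[b * φ d1] ⊓ C[φ sw23]) := syl_pow (m := 8) (by decide)
    ((pg_of_pow p3 (api.cA W).2.2).infl _) (inf_le_inf_right _ fun a ha => mem_cent1.2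
      (mul_comm_of_comm (api.cA W).2.1 ha (mul_mem bA (mA _ ⟨_, dA1⟩)))) fun k hk hn => by
    obtain ⟨v, e⟩ := (api.mem W _).1 (conj_mem_of_norm hn ⟨bA, mem_cent1.2 (W.cb _)⟩).1
    obtain ⟨v', e'⟩ := (api.mem W _).1 (conj_mem_of_norm hn (m d1 ⟨_, dA1⟩ (by decide +kernel))).1
    have := (by decide +kernel : ∀ v, wt v = 1 → ∀ v', wt v' = 1 → v + v' = (1, 1, 0, 0) →
      v = (1, 0, 0, 0) ∧ v' = (0, 1, 0, 0) ∨ v = (0, 1, 0, 0) ∧ v' = (1, 0, 0, 0)) v ((h.lg v).1 (isConj_iff.2 ⟨k, e⟩)) v'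
      ((h.lg v').1 (((h.lg (0, 1, 0, 0)).2 rfl).trans (isConj_iff.2 ⟨k, by rw [ea1, e']⟩))) (api.einj W (by
        rw [api.add W, ← e, ← e', conj_mul, mem_cent1.1 hk.1, mul_inv_cancel_right, ew]))
    have s : ∀ a, k * (k * a * k⁻¹) * k⁻¹ = a → Commute (k * k) a := fun a e =>
      mul_inv_eq_iff_eq_mul.1 (by rw [← e]; nth_rw 1 [e]; group)
    obtain ⟨k1, k2⟩ : Commute (k * k) b ∧ Commute (k * k) (φ d1) := by
      rcases this with ⟨rfl, rfl⟩ | ⟨rfl, rfl⟩ <;> rw [eab, ea1] at * <;> exact ⟨s _ (by simp only [e, e']), s _ (by simp only [e, e'])⟩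
    obtain ⟨i, g, eg⟩ := cent0 W k1
    have k3 : Commute (k * k) (φ sw23) := Commute.mul_left (mem_cent1.1 hk.2) (mem_cent1.1 hk.2)
    have k4 := conj_mem_of_norm (mul_mem hn hn) (m (d2 * d3) ⟨(0, 1, 1), by decide +kernel⟩ (by decide +kernel))
    rw [eg] at k2 k3 k4
    rw [show b ^ i * φ g * φ (d2 * d3) * (b ^ i * φ g)⁻¹ = φ (g * (d2 * d3) * g⁻¹) by
      rw [mul_inv_rev, ← mul_assoc, mul_assoc (b ^ i), mul_assoc (b ^ i), ← map_inv, ← map_mul, ← map_mul,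
        ((W.cb _).pow_left i).eq, mul_inv_cancel_right]] at k4
    obtain ⟨t, et⟩ := inA api W k4.1
    have := (by decide +kernel : ∀ t, fx (dA t) = fx (d2 * d3) → Commute (dA t) sw23 → dA t = d2 * d3 ∨ dA t = (d2 * d3)⁻¹) t
      (by rw [← et, fx_conj]) (et ▸ (comm_map W.inj).1 (mem_cent1.1 k4.2))
    obtain ⟨t', e⟩ := cE (g := g * g) (((cmb W).1 k2).mul_left ((cmb W).1 k2)) (mul_inv_eq_iff_eq_mul.1 (by
      rw [show g * g * (d2 * d3) * (g * g)⁻¹ = g * (g * (d2 * d3) * g⁻¹) * g⁻¹ by group]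
      rcases this with e | e <;> rw [← et] at e
      · rw [e, e]
      · rw [e, ← conj_inv, e, inv_inv])) (((cmb W).1 k3).mul_left ((cmb W).1 k3))
    refine ⟨?_, pow_mem hk.2 8⟩
    rw [show k ^ 8 = (k * k) ^ 4 by rw [← pow_two, ← pow_mul], eg, ((W.cb g).pow_left i).mul_pow, ← map_pow]
    exact mul_mem (pow_mem (pow_mem bA _) _) (mA _ ⟨t', by rw [← e, ← pow_two, ← pow_two, ← pow_mul]⟩)
  obtain ⟨k, hk, e⟩ := S.scj_le (K := zpowers θ) (zpowers_le.2 ⟨mem_cent1.2 c1, mem_cent1.2 c2⟩)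
    (pg_zp (isConj_one_right.1 (b3 W ▸ l.pow 3)))
  have e := e (conj_mem_cj.2 (mem_zpowers θ))
  obtain ⟨v, hv⟩ := (api.mem W _).1 e.1
  have ew' : ea b φ (2, 2, 0, 0) = (b * φ d1)⁻¹ := eq_inv_of_mul_eq_one_left (by
    rw [← ew, ← api.add W]; exact (ea0 0).trans (by rw [dA_zero, map_one]))
  have c : Commute k (b * φ d1) := mem_cent1.1 hk.1
  exact ((by decide +kernel : ∀ v : t4, wt v = 1 → Commute (dA v.2) sw23 → wt (v + (1, 1, 0, 0)) = 1 ∨
    wt (v + (2, 2, 0, 0)) = 1) v ((h.lg v).1 (l.trans (isConj_iff.2 ⟨k, hv⟩))) ((cmb W).1 (mem_cent1.1 (hv ▸ e.2)))).imp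
    (fun w => ((h.lg _).2 w).trans (isConj_iff.2 ⟨k, by
      rw [api.add W, ← hv, ew, ← conj_mul, c.eq, mul_inv_cancel_right]⟩).symm)
    fun w => ((h.lg _).2 w).trans (isConj_iff.2 ⟨k, by
      rw [api.add W, ← hv, ew', ← conj_mul, c.inv_right.eq, mul_inv_cancel_right]⟩).symm

theorem form8 (m : MB b r φ δ) (i : I8 b r φ δ ι) (h : Commute x r) :
    ∃ p ε k, x = ι (X8 e0 (up p) * rb (T8 e0) ε * emb k) := by
  obtain ⟨p, ε, k, e⟩ := m.form x h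
  exact ⟨p, ε, k, by rw [e, map_mul, map_mul, i.hd, i.em]; cases ε <;> simp [rb, i.he]⟩

theorem c3 (m : MB b r φ δ) (i : I8 b r φ δ ι) (h : Commute x r) (h3 : x ^ 3 = 1) :
    x = 1 ∨ ∃ n, Commute n r ∧ (n * x * n⁻¹ = φ d1 ∨ n * x * n⁻¹ = φ ww ∨ n * x * n⁻¹ = φ zz) := by
  obtain ⟨y, rfl⟩ : ∃ y, x = ι y := let ⟨_, _, _, e⟩ := form8 m i h; ⟨_, e⟩
  have y3 : y ^ 3 = 1 := i.inj (by rw [map_pow, h3, map_one])
  obtain ⟨n, g, n0, e⟩ := fix3 (fix_e0 (i.inj (by rw [map_mul, map_mul, i.he, h.eq]))) y3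
  have k : ∀ {d}, IsConj d g → ∃ n, Commute n r ∧ n * ι y * n⁻¹ = φ d := fun c => by
    obtain ⟨l, rfl⟩ := isConj_iff.1 c.symm
    exact ⟨ι (emb l * n), i.he ▸ (comm_T8 (by simp [mul_smul, n0])).map ι, by
      rw [← i.em, map_mul emb, map_mul emb, ← e]; simp [mul_assoc]⟩
  rcases cls3 (g := g) (emb_inj (by rw [map_pow, ← e, conj_pow, y3]; simp)) with rfl | c | c | c
  · exact .inl (by rw [map_one, conj_eq_one_iff] at e; rw [e, map_one])
  exacts [.inr ((k c).imp fun _ h => ⟨h.1, .inl h.2⟩), .inr ((k c).imp fun _ h => ⟨h.1, .inr (.inl h.2)⟩),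
    .inr ((k c).imp fun _ h => ⟨h.1, .inr (.inr h.2)⟩)]

theorem ιd0 (h : B4 b r φ ⊥) (i : I8 b r φ δ ι) : ι d0 = b := by
  rw [d0, map_mul, i.he, i.hf, ← mul_assoc, h.rr, one_mul]

theorem case1 (h : B4 b r φ ⊥) (m : MB b r φ δ) (i : I8 b r φ δ ι) {k : Sp} (c : IsConj r (φ k)) :
    IsConj (T8 e0) (emb k) := by
  have W := h.toFc.toWc
  obtain ⟨g, e⟩ := isConj_iff.1 c.symm
  have l : ∀ {n : G} {v}, n * (g * b * g⁻¹) * n⁻¹ = ea b φ v → wt v = 1 := fun e =>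
    (h.lg _).1 ((isConj_iff.2 ⟨g, rfl⟩).trans (isConj_iff.2 ⟨_, e⟩))
  rcases c3 m i (x := g * b * g⁻¹) (e ▸ (W.cb k).conj g) (by rw [conj_pow, b3 W]; simp) with e' | ⟨n, c, e' | e' | e'⟩
  · have := W.o3
    rw [conj_eq_one_iff.1 e', orderOf_one] at this
    exact absurd this (by decide)
  · have a : ι σ1 * φ d1 * (ι σ1)⁻¹ = b := by
      rw [← ιd0 h i, ← i.em, ← map_inv, ← map_mul, ← map_mul]; exact congrArg ι (by decide +kernel)
    obtain ⟨j, l, el⟩ := cent0 W (x := ι σ1 * n * g) (mul_inv_eq_iff_eq_mul.1 (by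
      nth_rw 2 [← a]; rw [← e']; group))
    have : ι (emb (l * k * l⁻¹)) = ι (σ1 * T8 e0 * σ1⁻¹) := by
      have : ι σ1 * n * g * φ k * (ι σ1 * n * g)⁻¹ = ι σ1 * (n * (g * φ k * g⁻¹) * n⁻¹) * (ι σ1)⁻¹ := by group
      rw [e, c.eq, mul_inv_cancel_right, el, mul_inv_rev, ← mul_assoc, mul_assoc (b ^ j), mul_assoc (b ^ j), ← map_inv,
        ← map_mul, ← map_mul, ((W.cb _).pow_left j).eq, mul_inv_cancel_right] at this
      rw [i.em, this, map_mul, map_mul, map_inv, i.he]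
    exact (isConj_iff.2 ⟨σ1, (i.inj this).symm⟩).trans (emb.map_isConj (isConj_iff.2 ⟨l, rfl⟩)).symm
  · exact absurd (l (e'.trans eaw.symm)) (by decide)
  · exact absurd (l (e'.trans eaz.symm)) (by decide)

theorem case2 (api : Api.{u}) (h : B4 b r φ ⊥) (m : MB b r φ δ) (i : I8 b r φ δ ι) (ε : Bool) :
    ¬ IsConj r (ι (y4 ε)) := fun c => by
  have W := h.toFc.toWc
  obtain ⟨y1, y2, y3, y5⟩ := (by decide +kernel : ∀ ε, Commute (emb ww) (y4 ε) ∧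
    Commute (X8 e0 (up f3) * emb (T e3)) (y4 ε) ∧
    Commute (emb d3) (X8 e0 (up f3) * emb (T e3) * (X8 e0 (up f3) * emb (T e3)) * y4 ε) ∧ y4 ε * y4 ε = 1) ε
  obtain ⟨u1, u2, u3⟩ : Commute (X8 e0 (up f3) * emb (T e3)) (emb ww) ∧ (X8 e0 (up f3) * emb (T e3)) ^ 4 = 1 ∧
    X8 e0 (up f3) * emb (T e3) * (X8 e0 (up f3) * emb (T e3)) ≠ 1 := by decide +kernel
  generalize X8 e0 (up f3) * emb (T e3) = u at *
  obtain ⟨g, gw, gy⟩ : ∃ g, g * φ ww * g⁻¹ = φ ww ∧ g * ι (y4 ε) * g⁻¹ = r := by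
    obtain ⟨g, e⟩ := isConj_iff.1 c.symm
    rcases c3 m i (x := g * φ ww * g⁻¹) (e ▸ i.em ww ▸ (y1.map ι).conj g)
      (by rw [conj_pow, map3 (by decide +kernel)]; simp) with e' | ⟨n, c, e' | e' | e'⟩
    · exact absurd (W.inj ((conj_eq_one_iff.1 e').trans (map_one φ).symm)) (by decide +kernel)
    · exact absurd ((h.lg (0, 1, 1, 0)).1 (((h.lg (0, 1, 0, 0)).2 rfl).trans (by
        rw [eaw, ea1]; exact ((isConj_iff.2 ⟨g, rfl⟩).trans (isConj_iff.2 ⟨n, e'⟩)).symm))) (by decide)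
    · exact ⟨n * g, by rw [← e']; nth_rw 1 [e']; group, by rw [← mul_inv_cancel_right r n, ← c.eq, ← e]; group⟩
    · exact (nwz api h ((isConj_iff.2 ⟨g, rfl⟩).trans (isConj_iff.2 ⟨n, e'⟩))).elim
  obtain ⟨p, η, k, e⟩ := form8 m i (x := g * ι u * g⁻¹) (gy ▸ (y2.map ι).conj g)
  obtain ⟨q, hq, e'⟩ := sq8 (p := p) (ε := η) (k := k) rfl (i.inj (by
      rw [map_mul ι, map_mul ι (emb ww), ← e, i.em, ← gw]; exact (i.em ww ▸ u1.map ι).conj g))
    (i.inj (by rw [map_pow, ← e, conj_pow, ← map_pow, u2]; simp)) fun n => u3 (i.inj (by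
      have := congrArg ι n
      rw [map_mul ι, ← e, conj_mul, map_one, conj_eq_one_iff] at this
      rw [map_mul, this, map_one]))
  obtain ⟨n, -, n1, n2⟩ := cj8 q hq
  have x1 : ι n * g * ι (u * u * y4 ε) * (ι n * g)⁻¹ = φ sw23 := by
    have := congrArg ι e'
    rw [map_mul ι, ← e, map_mul, i.he] at this
    rw [← i.em, ← n1, map_mul, map_mul, map_mul, map_mul, map_inv, ← mul_inv_cancel_right (ι (X8 e0 (up q))) r, ← this,
      inv_eq_of_mul_eq_one_right h.rr, ← gy]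
    group
  have x2 : ι n * g * φ ww * (ι n * g)⁻¹ = b * φ d1 := by
    rw [← ιd0 h i, ← i.em d1, ← map_mul, ← n2, map_mul, map_mul, map_inv, i.em, ← gw, gw]
    nth_rw 2 [← gw]
    group
  have l : ∀ t, IsConj b (ι n * g * φ (dA t) * (ι n * g)⁻¹) → wt (0, t) = 1 := fun t c =>
    (h.lg _).1 (c.trans (isConj_iff.2 ⟨_, by rw [ea0]⟩).symm)
  rcases fin api h (θ := ι n * g * φ d3 * (ι n * g)⁻¹) (((h.lg (0, 0, 0, 1)).2 rfl).trans (isConj_iff.2 ⟨_, by rw [ea0, dA3]⟩))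
    (x2 ▸ ((comm_map W.inj).2 (by decide +kernel)).conj _) (x1 ▸ (i.em d3 ▸ y3.map ι).conj _) with c | c
  · rw [← x2, conj_mul, ← map_mul, show d3 * ww = dA (1, 1, 1) by decide +kernel] at c
    exact absurd (l _ c) (by decide)
  · rw [← x2, conj_inv, conj_mul, ← map_inv, ← map_mul, show d3 * ww⁻¹ = dA (2, 2, 1) by decide +kernel] at c
    exact absurd (l _ c) (by decide)

theorem en : EN.{u} := fun api ⟨c8, s8, _⟩ G _ _ b r φ δ ι ch h m i => by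
  have W := h.toFc.toWc
  have n : ∀ {y : Sp8}, y ≠ 1 → ι y ≠ 1 := fun n e => n (i.inj (e.trans (map_one ι).symm))
  have : Fact (Nat.Prime 2) := ⟨Nat.prime_two⟩
  refine H0.Co.top_holt i.inj (z := T8 e0) (orderOf_eq_prime (by rw [pow_two, T8_mul_self]) (by decide +kernel))
    (by rw [idx8]; decide) (fun c => absurd (c.1.1 (T8 e0) (T8 f0)) (by decide +kernel)) ⟨by rw [c8]; decide, fun k e => ?_⟩
    (api.odd ch h.rr (mapT e1) (h.rL (T e1)) (i.he ▸ n (by decide +kernel)) (i.em _ ▸ n (by decide +kernel))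
      fun e => absurd (i.inj (i.he.trans (e.trans (i.em _).symm))) (by decide +kernel))
    (fun x hx => let ⟨_, _, _, e⟩ := form8 m i (i.he ▸ mem_cent1.1 hx); ⟨_, e.symm⟩) fun v c => ?_
  · rw [c8] at e
    rcases le_or_gt k 14 with l | l
    · exact absurd (e ▸ Nat.factorial_le l) (by decide)
    · exact absurd (e ▸ Nat.factorial_le l) (by decide)
  · have vv : v * v = 1 := i.inj (by
      obtain ⟨g, e⟩ := isConj_iff.1 c
      rw [map_mul, ← e, conj_mul, ← map_mul]; simp)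
    rw [i.he] at c
    rcases nf vv with ⟨k, e⟩ | ⟨ε, e⟩
    · exact (case1 h m i (c.trans (i.em k ▸ ι.map_isConj e))).trans e.symm
    · exact (case2 api h m i ε (c.trans (ι.map_isConj e))).elim

end H13.SX
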