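import Mathlib
import Cfsg.Agent.H13.Sx4
import Cfsg.Agent.H10.Syl
import Cfsg.Agent.H24.FixAct
import Cfsg.Agent.S0699

/-! Normal subgroups of triply transitive groups of degree divisible by three. -/

set_option autoImplicit false

namespace H13.Sx

open MulAction Subgroup Cfsg
open scoped Pointwise

variable {G Ω : Type*} [Group G] [MulAction G Ω] [Finite G] [Finite Ω]

theorem wag [FaithfulSMul G Ω] (h3 : T3 Ω (⊤ : Subgroup G)) (ho : Odd (Nat.card Ω)) {H : Subgroup G}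
    [H.Normal] (h2 : T2 Ω H) {a b : Ω} (hab : a ≠ b) : T3 Ω H := by
  by_cases h5 : 5 ≤ Nat.card Ω
  · refine t3_iff.1 (Agent.S0699.wagner ho h5 (t3_top.2 h3) H fun e => ?_)
    obtain ⟨g, hg, e1, -⟩ := h2 a b b a hab hab.symm
    exact hab (by rw [← e1, mem_bot.1 (e.le hg), one_smul])
  refine h2.t3 hab fun c d h1 h4 h6 h7 => ⟨1, one_mem _, one_smul _ _, one_smul _ _, ?_⟩
  by_contra h
  rw [one_smul] at h
  have := Set.ncard_le_ncard (Set.subset_univ ({a, b, c, d} : Set Ω))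
  rw [Set.ncard_insert_of_notMem (by simp [*]), Set.ncard_insert_of_notMem (by simp [*]),
    Set.ncard_pair h, Set.ncard_univ] at this
  obtain ⟨k, hk⟩ := ho
  omega

theorem gen (h3 : T3 Ω (⊤ : Subgroup G)) (hn : 3 ∣ Nat.card Ω) {H : Subgroup G} [hH : H.Normal]
    (h2 : T2 Ω H) {a b : Ω} (hab : a ≠ b)
    (hg : ¬ 3 ∣ (toPermHom G Ω).ker.relIndex (H ⊓ stabilizer G a)) : O2 H a b := by
  let f := (toPermHom G Ω).rangeRestrict
  have hs : Function.Surjective f := (toPermHom G Ω).rangeRestrict_surjective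
  have he : ∀ (g : G) (x : Ω), f g • x = g • x := fun _ _ => rfl
  haveI := hH.map f hs
  have k3 : T3 Ω (⊤ : Subgroup (toPermHom G Ω).range) := fun a b c d e k h1 h2 h4 h5 h6 h7 =>
    let ⟨g, _, h⟩ := h3 a b c d e k h1 h2 h4 h5 h6 h7; ⟨f g, trivial, h⟩
  have k2 : T2 Ω (H.map f) := fun a b c d h1 h4 =>
    let ⟨g, hg, h⟩ := h2 a b c d h1 h4; ⟨f g, ⟨g, hg, rfl⟩, h⟩
  have h1 : O2 (H.map f) a b := by
    rcases Nat.even_or_odd (Nat.card Ω) with h | h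
    swap
    · exact (wag k3 h k2 hab).o2 hab
    refine (core k3 (Nat.Coprime.mul_dvd_of_dvd_of_dvd (by norm_num : Nat.Coprime 2 3) h.two_dvd hn)
      k2 hab (Or.inl ?_)).elim (fun h => h.o2 hab) fun h => h.1
    rwa [show H.map f ⊓ stabilizer _ a = (H ⊓ stabilizer G a).map f from le_antisymm (by
      rintro _ ⟨⟨g, hg, rfl⟩, e⟩
      exact ⟨g, ⟨hg, e⟩, rfl⟩) (by
      rintro _ ⟨g, hg, rfl⟩
      exact ⟨⟨g, hg.1, rfl⟩, hg.2⟩), ← relIndex_ker, MonoidHom.ker_rangeRestrict]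
  intro c d e c1 c2 c3 c4 c5 c6
  obtain ⟨_, ⟨g, hg, rfl⟩, h⟩ := h1 c d e c1 c2 c3 c4 c5 c6
  exact ⟨g, hg, h⟩

theorem partA (h3 : T3 Ω (⊤ : Subgroup G)) (hn : 3 ∣ Nat.card Ω) [Nontrivial Ω] {H : Subgroup G}
    [hH : H.Normal] (h2 : T2 Ω H) : ∃ a b : Ω, a ≠ b ∧ O2 H a b := by
  haveI := Fact.mk Nat.prime_three
  obtain ⟨a, b₀, h0⟩ := exists_pair_ne Ω
  obtain ⟨P, hP⟩ := H10.exists_isSylowIn 3 (H ⊓ stabilizer G a)
  have cj : ∀ (g : G) (X : Subgroup G) (x : Ω), X ≤ H ⊓ stabilizer G (g⁻¹ • x) →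
      MulAut.conj g • X ≤ H ⊓ stabilizer G x := fun g X x h => by
    rintro _ ⟨u, hu, rfl⟩
    refine ⟨hH.conj_mem _ (h hu).1 g, ?_⟩
    change (g * u * g⁻¹) • x = x
    rw [mul_smul, mul_smul, show u • g⁻¹ • x = g⁻¹ • x from (h hu).2, smul_inv_smul]
  have hmax : ∀ (x : Ω) (X : Subgroup G), X ≤ H ⊓ stabilizer G x → IsPGroup 3 X →
      Nat.card X ≤ Nat.card P := fun x X h hX => by
    obtain ⟨y, hy⟩ := exists_ne x
    obtain ⟨g, -, rfl, -⟩ := h2 a b₀ x y h0 hy.symm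
    rw [← H1.card_conj_smul g⁻¹ X]
    exact hP.card_le (hX.map _) (cj _ X a (by rwa [inv_inv]))
  let F := H24.fixSub Ω P
  have hF : ∀ x, x ∈ F ↔ P ≤ H ⊓ stabilizer G x := fun x =>
    H24.mem_fp.trans ⟨le_inf (hP.1.trans inf_le_left), fun h => h.trans inf_le_right⟩
  have witt : ∀ (g : G) (x y z : Ω), x ∈ F → y ∈ F → z ∈ F → g • x ∈ F → g • y ∈ F → g • z ∈ F →
      ∃ h ∈ H, h * g ∈ normalizer (P : Set G) ∧ h • g • x = g • x ∧ h • g • y = g • y ∧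
        h • g • z = g • z := fun g x y z h1 h4 h5 h6 h7 h8 => by
    have h9 : H10.IsSylowIn 3 P (H ⊓ stabilizer G (g • x) ⊓ (H ⊓ stabilizer G (g • y)) ⊓
        (H ⊓ stabilizer G (g • z))) := ⟨le_inf (le_inf ((hF _).1 h6) ((hF _).1 h7)) ((hF _).1 h8),
      hP.2.1, fun Q hQ k1 k2 => (eq_of_le_of_card_ge k1
        (hmax _ Q (k2.trans inf_le_right) hQ)).symm⟩
    have k : ∀ x, x ∈ F → MulAut.conj g • P ≤ H ⊓ stabilizer G (g • x) := fun x hx =>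
      cj g P _ (by rw [inv_smul_smul]; exact (hF x).1 hx)
    obtain ⟨h, hh, e⟩ := h9.exists_conj_eq (h9.of_card_le (X := MulAut.conj g • P) (hP.2.1.map _)
      (le_inf (le_inf (k x h1) (k y h4)) (k z h5)) (H1.card_conj_smul g P).ge)
    exact ⟨h, hh.2.1, by rw [H1.mem_normalizer_iff_conj_smul_eq, ← H1.conj_smul_conj_smul, e],
      hh.1.1.2, hh.1.2.2, hh.2.2⟩
  have ha : a ∈ F := (hF a).2 hP.1
  have hc : 3 ∣ Nat.card F := Nat.modEq_zero_iff_dvd.1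
    ((hP.2.1.card_modEq_card_fixedPoints Ω).symm.trans (Nat.modEq_zero_iff_dvd.2 hn))
  haveI : Nonempty F := ⟨⟨a, ha⟩⟩
  obtain ⟨b, hab, -⟩ := ex3 (Nat.le_of_dvd Nat.card_pos hc) (⟨a, ha⟩ : F) ⟨a, ha⟩
  obtain ⟨c, hac, hbc⟩ := ex3 (Nat.le_of_dvd Nat.card_pos hc) (⟨a, ha⟩ : F) b
  have ne : ∀ {x y : F}, x ≠ y → (x : Ω) ≠ y := mt Subtype.ext
  have h4 := gen (G := normalizer (P : Set G)) (Ω := F) (H := H.subgroupOf _)
    (fun x y z u v w k1 k2 k3 k4 k5 k6 => by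
      obtain ⟨g, -, e1, e2, e3⟩ := h3 x y z u v w (ne k1) (ne k2) (ne k3) (ne k4) (ne k5) (ne k6)
      obtain ⟨h, -, k, f1, f2, f3⟩ := witt g x y z x.2 y.2 z.2 (e1 ▸ u.2) (e2 ▸ v.2) (e3 ▸ w.2)
      exact ⟨⟨_, k⟩, trivial, Subtype.ext ((mul_smul _ _ _).trans (f1.trans e1)),
        Subtype.ext ((mul_smul _ _ _).trans (f2.trans e2)),
        Subtype.ext ((mul_smul _ _ _).trans (f3.trans e3))⟩) hc
    (fun x y u v k1 k2 => by
      obtain ⟨g, hg, e1, e2⟩ := h2 x y u v (ne k1) (ne k2)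
      obtain ⟨h, hh, k, f1, f2, -⟩ := witt g x y y x.2 y.2 y.2 (e1 ▸ u.2) (e2 ▸ v.2) (e2 ▸ v.2)
      exact ⟨⟨_, k⟩, mul_mem hh hg, Subtype.ext ((mul_smul _ _ _).trans (f1.trans e1)),
        Subtype.ext ((mul_smul _ _ _).trans (f2.trans e2))⟩) hab fun h => by
      have h5 := h.trans (relIndex_dvd_of_le_left (H := P.subgroupOf _) _ fun g hg =>
        Equiv.ext fun x => Subtype.ext ((hF _).1 x.2 hg).2)
      rw [← relIndex_map_map_of_injective _ _ (normalizer (P : Set G)).subtype_injective,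
        map_subgroupOf_eq_of_le le_normalizer] at h5
      refine (hP.of_le (fun g hg => ?_) ?_).not_dvd_relIndex h5
      · exact ⟨⟨g, le_normalizer hg⟩, ⟨(hP.1 hg).1, Subtype.ext (hP.1 hg).2⟩, rfl⟩
      rintro _ ⟨g, hg, rfl⟩
      exact ⟨hg.1, congrArg Subtype.val hg.2⟩
  have h5 : ∀ e, a ≠ e → (b : Ω) ≠ e → ∃ h ∈ H, h • a = a ∧ h • (b : Ω) = b ∧ h • e ∈ F :=
    fun e h6 h7 => by
      obtain ⟨g, -, e1, e2, rfl⟩ := h3 a b c a b e (ne hab) (ne hac) (ne hbc) (ne hab) h6 h7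
      obtain ⟨h, hh, k, f1, f2, -⟩ := witt g a b b ha b.2 b.2 (e1.symm ▸ ha) (e2.symm ▸ b.2)
        (e2.symm ▸ b.2)
      exact ⟨h, hh, by rwa [e1] at f1, by rwa [e2] at f2, mul_smul h g (c : Ω) ▸ H24.smul_mem_fp k c.2⟩
  refine ⟨a, b, ne hab, fun x y z x1 x2 y1 y2 z1 z2 => ?_⟩
  obtain ⟨p, p0, p1, p2, p3⟩ := h5 x x1 x2
  obtain ⟨q, q0, q1, q2, q3⟩ := h5 y y1 y2
  obtain ⟨r, r0, r1, r2, r3⟩ := h5 z z1 z2
  have n1 : ∀ {p : G} {u x : Ω} {hu : u ∈ F} (h : p • x ∈ F), p • u = u → u ≠ x →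
      (⟨u, hu⟩ : F) ≠ ⟨_, h⟩ := fun h e k l =>
    k (MulAction.injective _ (e.trans (congrArg Subtype.val l)))
  obtain ⟨g, g0, g1, g2, h⟩ := h4 ⟨_, p3⟩ ⟨_, q3⟩ ⟨_, r3⟩ (n1 _ p1 x1) (n1 _ p2 x2) (n1 _ q1 y1)
    (n1 _ q2 y2) (n1 _ r1 z1) (n1 _ r2 z2)
  have g1 : (g : G) • a = a := congrArg Subtype.val g1
  have g2 : (g : G) • (b : Ω) = b := congrArg Subtype.val g2
  have k : ∀ {p q : G} {x y : Ω}, p ∈ H → q ∈ H → p • a = a → q • a = a → p • (b : Ω) = b →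
      q • (b : Ω) = b → (g : G) • p • x = q • y → ∃ g ∈ H, g • a = a ∧ g • (b : Ω) = b ∧ g • x = y :=
    fun {p q x y} p0 q0 p1 q1 p2 q2 e => ⟨q⁻¹ * g * p, mul_mem (mul_mem (inv_mem q0) g0) p0,
      by simp [mul_smul, inv_smul_eq_iff, *], by simp [mul_smul, inv_smul_eq_iff, *],
      by simp [mul_smul, e]⟩
  rcases h with h | h | h
  · obtain ⟨g, k0, k1, k2, k3⟩ := k p0 q0 p1 q1 p2 q2 (congrArg Subtype.val h)
    exact ⟨g, k0, k1, k2, Or.inl k3⟩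
  · obtain ⟨g, k0, k1, k2, k3⟩ := k p0 r0 p1 r1 p2 r2 (congrArg Subtype.val h)
    exact ⟨g, k0, k1, k2, Or.inr (Or.inl k3)⟩
  · obtain ⟨g, k0, k1, k2, k3⟩ := k q0 r0 q1 r1 q2 r2 (congrArg Subtype.val h)
    exact ⟨g, k0, k1, k2, Or.inr (Or.inr k3)⟩

theorem partB [FaithfulSMul G Ω] (h3 : T3 Ω (⊤ : Subgroup G)) (hn : Nat.card Ω % 4 = 0)
    {H : Subgroup G} [hH : H.Normal] (h2 : T2 Ω H) {a b : Ω} (hab : a ≠ b) (ho : O2 H a b)
    (h : ¬ T3 Ω H) : Odd (Nat.card (H ⊓ stabilizer G a : Subgroup G)) := by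
  have h1 := mt (h2.t3 hab) h
  push Not at h1
  obtain ⟨c, d, c1, c2, d1, d2, h1⟩ := h1
  have hc := (h2.card hab).1
  generalize hE : H ⊓ stabilizer G a ⊓ stabilizer G b = E at hc
  have hm : ∀ g, g ∈ E ↔ g ∈ H ∧ g • a = a ∧ g • b = b := fun g => by
    rw [← hE, mem_inf, mem_inf, and_assoc]; rfl
  have h4 : ∀ c d, a ≠ c → b ≠ c → a ≠ d → b ≠ d →
      {w | ∃ g ∈ E, g • c = w}.ncard ≤ {w | ∃ g ∈ E, g • d = w}.ncard := fun c d c1 c2 d1 d2 => by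
    obtain ⟨k, -, k1, k2, rfl⟩ := h3 a b c a b d hab c1 c2 hab d1 d2
    refine Set.ncard_le_ncard_of_injOn (k • ·) ?_ (MulAction.injective k).injOn
    rintro _ ⟨g, hg, rfl⟩
    obtain ⟨g0, g1, g2⟩ := (hm g).1 hg
    exact ⟨k * g * k⁻¹, (hm _).2 ⟨hH.conj_mem g g0 k,
      by simp [mul_smul, inv_smul_eq_iff.2 k1.symm, *],
      by simp [mul_smul, inv_smul_eq_iff.2 k2.symm, *]⟩, by simp [mul_smul]⟩
  have h5 : ({a, b}ᶜ : Set Ω) = {w | ∃ g ∈ E, g • c = w} ∪ {w | ∃ g ∈ E, g • d = w} := by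
    ext e
    simp only [Set.mem_compl_iff, Set.mem_insert_iff, Set.mem_singleton_iff, not_or]
    refine ⟨fun he => ?_, ?_⟩
    · obtain ⟨g, g0, g1, g2, k | k | k⟩ := ho c d e c1 c2 d1 d2 (Ne.symm he.1) (Ne.symm he.2)
      exacts [(h1 g g0 g1 g2 k).elim, Or.inl ⟨g, (hm g).2 ⟨g0, g1, g2⟩, k⟩,
        Or.inr ⟨g, (hm g).2 ⟨g0, g1, g2⟩, k⟩]
    · rintro (⟨g, hg, rfl⟩ | ⟨g, hg, rfl⟩) <;> obtain ⟨-, g1, g2⟩ := (hm g).1 hg
      exacts [⟨fun e => c1 (MulAction.injective g (g1.trans e.symm)),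
        fun e => c2 (MulAction.injective g (g2.trans e.symm))⟩,
        ⟨fun e => d1 (MulAction.injective g (g1.trans e.symm)),
        fun e => d2 (MulAction.injective g (g2.trans e.symm))⟩]
  have h6 := congrArg Set.ncard h5
  rw [Set.ncard_compl, Set.ncard_pair hab, Set.ncard_union_eq (Set.disjoint_left.2 (by
    rintro _ ⟨g, hg, rfl⟩ ⟨k, hk, e⟩
    obtain ⟨g0, g1, g2⟩ := (hm _).1 (mul_mem (inv_mem hk) hg)
    exact h1 _ g0 g1 g2 (by rw [mul_smul, ← e, inv_smul_smul]))),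
    (h4 d c d1 d2 c1 c2).antisymm (h4 c d c1 c2 d1 d2)] at h6
  by_contra h7
  obtain ⟨t, ht⟩ := exists_prime_orderOf_dvd_card' 2 (Nat.not_odd_iff_even.1 h7).two_dvd
  obtain ⟨x, hx⟩ : ∃ x : Ω, (t : G) • x ≠ x := by
    by_contra h
    push Not at h
    rw [show t = 1 from Subtype.ext (eq_of_smul_eq_smul (α := Ω) fun x => by simp [h]),
      orderOf_one] at ht
    omega
  have t1 : (t : G) • a = a := t.2.2
  have t2 : (t : G) • (t : G) • x = x := by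
    rw [← mul_smul, ← Subgroup.coe_mul, ← sq, ← ht, pow_orderOf_eq_one]; simp
  have x1 : a ≠ x := fun e => hx (e ▸ t1)
  obtain ⟨g, -, g1, rfl, rfl⟩ := h3 a x ((t : G) • x) a b c x1
    (fun e => x1 (MulAction.injective _ (t1.trans e))) hx.symm hab c1 c2
  have h8 := At.card_orb (H ⊓ stabilizer G a ⊓ stabilizer G ({g • x, g • (t : G) • x} : Set Ω)) (g • x)
  have h9 : ∀ k : G, k ∈ stabilizer G ({g • x, g • (t : G) • x} : Set Ω) ↔
      k • g • x = g • x ∧ k • g • (t : G) • x = g • (t : G) • x ∨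
        k • g • x = g • (t : G) • x ∧ k • g • (t : G) • x = g • x := fun k => by
    rw [mem_stabilizer_iff, Set.smul_set_insert, Set.smul_set_singleton, Set.pair_eq_pair_iff]
  rw [show {w | ∃ k ∈ H ⊓ stabilizer G a ⊓ stabilizer G ({g • x, g • (t : G) • x} : Set Ω),
      k • g • x = w} = {g • x, g • (t : G) • x} from Set.ext fun w => ⟨by
      rintro ⟨k, hk, rfl⟩
      exact ((h9 k).1 hk.2).imp And.left And.left, by
      rintro (rfl | rfl)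
      · exact ⟨1, one_mem _, one_smul _ _⟩
      exact ⟨g * t * g⁻¹, ⟨⟨hH.conj_mem _ t.2.1 g, by
        simp [mul_smul, inv_smul_eq_iff.2 g1.symm, *]⟩, (h9 _).2 (Or.inr (by simp [mul_smul, t2]))⟩,
        by simp [mul_smul]⟩⟩, Set.ncard_pair c2, show H ⊓ stabilizer G a ⊓ stabilizer G
      ({g • x, g • (t : G) • x} : Set Ω) ⊓ stabilizer G (g • x) = E ⊓ stabilizer G (g • (t : G) • x)
      from Subgroup.ext fun k => ⟨fun hk => ⟨(hm k).2 ⟨hk.1.1.1, hk.1.1.2, hk.2⟩,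
        ((h9 k).1 hk.1.2).elim And.right fun e => (c2 (Eq.trans (Eq.symm hk.2) e.1)).elim⟩,
        fun hk => let ⟨k0, k1, k2⟩ := (hm k).1 hk.1
          ⟨⟨⟨k0, k1⟩, (h9 k).2 (Or.inl ⟨k2, hk.2⟩)⟩, k2⟩⟩] at h8
  have h10 := card_dvd_of_le (inf_le_left (a := H ⊓ stabilizer G a)
    (b := stabilizer G ({g • x, g • (t : G) • x} : Set Ω)))
  rw [h8, hc, At.card_orb E (g • (t : G) • x), ← mul_assoc] at h10
  haveI : Nonempty Ω := ⟨a⟩
  have := Nat.card_pos (α := Ω)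
  rcases (Nat.Prime.dvd_mul Nat.prime_two).1 (Nat.dvd_of_mul_dvd_mul_right Nat.card_pos h10) with
    h | h <;> omega

omit [Finite G] in
theorem two_orb {H : Subgroup G} (h2 : T2 Ω H) {a b : Ω} (hab : a ≠ b) (ho : O2 H a b) :
    Nat.card (orbitRel.Quotient H (Fin 3 ↪ Ω)) ≤ 2 := by
  by_contra h
  have := Fintype.ofFinite (orbitRel.Quotient H (Fin 3 ↪ Ω))
  rw [Nat.card_eq_fintype_card, not_le, Fintype.two_lt_card_iff] at h
  obtain ⟨x, y, z, h1, h3, h4⟩ := h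
  have key : ∀ x : orbitRel.Quotient H (Fin 3 ↪ Ω), ∃ t : Fin 3 ↪ Ω, t 0 = a ∧ t 1 = b ∧
      Quotient.mk _ t = x := fun x => by
    obtain ⟨t, rfl⟩ := Quotient.exists_rep x
    obtain ⟨g, hg, e1, e2⟩ := h2 (t 0) (t 1) a b (t.injective.ne (by decide)) hab
    exact ⟨(⟨g, hg⟩ : H) • t, e1, e2, Quotient.sound ⟨_, rfl⟩⟩
  obtain ⟨x, x1, x2, rfl⟩ := key x
  obtain ⟨y, y1, y2, rfl⟩ := key y
  obtain ⟨z, z1, z2, rfl⟩ := key z
  have n : ∀ {t : Fin 3 ↪ Ω} {i : Fin 3} {a}, t i = a → i ≠ 2 → a ≠ t 2 := fun e h =>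
    e ▸ (Function.Embedding.injective _).ne h
  obtain ⟨g, hg, e1, e2, h⟩ := ho (x 2) (y 2) (z 2) (n x1 (by decide)) (n x2 (by decide))
    (n y1 (by decide)) (n y2 (by decide)) (n z1 (by decide)) (n z2 (by decide))
  have k : ∀ {x y : Fin 3 ↪ Ω}, x 0 = a → x 1 = b → y 0 = a → y 1 = b → g • x 2 = y 2 →
      (Quotient.mk _ x : orbitRel.Quotient H (Fin 3 ↪ Ω)) = Quotient.mk _ y :=
    fun {x y} x1 x2 y1 y2 e => Quotient.sound (orbitRel_apply.2 ⟨(⟨g, hg⟩ : H)⁻¹,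
      inv_smul_eq_iff.2 (Eq.symm (Function.Embedding.ext fun i => by
      change g • x i = y i
      fin_cases i
      · exact x1 ▸ y1 ▸ e1
      · exact x2 ▸ y2 ▸ e2
      · exact e))⟩)
  rcases h with h | h | h
  exacts [h1 (k x1 x2 y1 y2 h), h3 (k x1 x2 z1 z2 h), h4 (k y1 y2 z1 z2 h)]

end H13.Sx
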