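/-
Port of `H2/B12b` to the `ϖ`-local setting.
-/
import Cfsg.Agent.H13.V12a

set_option autoImplicit false
set_option linter.unusedSectionVars false

namespace H13.V
section
open H2 H2.BG
open Cfsg Subgroup H18
open H19 hiding eq_bot_mono

attribute [-instance] H18.fintypeSubgroup
universe u

section general
variable {G : Type*} [Group G] [Finite G] {π : Set ℕ} {p q : ℕ} {A B E H K M P Q R S U X Y : Subgroup G}

end general

variable {G : Type u} [Group G] [Finite G] [VS G] [Gen.{u}] [U79 G] {π : Set ℕ} {p q : ℕ}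
  {A A0 B E E1 E2 E3 F H K L M Mstar P P0 Q R S T U V X Y : Subgroup G}
  [B10_11 G] [B10_12 G] [B10_13 G] [B11_1 G] [B11_5 G] [B11_7 G]

theorem tau2_cent_tau2 (hM : Mx M) (hE : Hall (sigma M)ᶜ E M) (hA : El p 2 A E)
    (hB : El q 2 B E) : B ≤ C(A) := by
  by_cases h : q = p
  · subst h
    rw [← tau2_Ohm1 hM hE hB hB.le le_rfl, tau2_Ohm1 hM hE hA hA.le le_rfl]
    exact hA.le_cent
  · exact (tau2_normal hM hE hB).cents_of_disjoint (tau2_normal hM hE hA)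
      (hB.pg.inf_eq_bot (hA.pg.sing_ne (Ne.symm h)))

theorem tau2_norm_le_norm (hM : Mx M) (hE : Hall (sigma M)ᶜ E M) (hA : El p 2 A E)
    (hB : El q 2 B E) : N(A) ≤ N(B) := by
  rw [← tau2_Ohm1 hM hE hB (tau2_cent_tau2 hM hE hA hB) (tau2_cent_le hM hE hA)]
  exact norms_Ohm1 q (norm_le_norm_cent A)

/-! ### 12.7 -/

theorem nonabelian_tau2_eq (hM : Mx M) (hp : p ∈ tau2 M) (hP : PG p P0) (hna : ¬ Ab P0)
    (hq : q ∈ tau2 M) : q = p := by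
  by_contra hne
  obtain ⟨E, hE, -⟩ := ex_sigma_compl hM bot_le PiN.bot
  obtain ⟨A, hA⟩ := ex_tau2Elem hE hp
  obtain ⟨B, hB⟩ := ex_tau2Elem hE hq
  have hBA := tau2_cent_tau2 hM hE hA hB
  obtain ⟨Q, hQ, hBQ⟩ := exists_maxNormed_ge hB.pg (norms_of_cents (cents_symm hBA))
  obtain ⟨P, hS, -, -, -, h⟩ := max_normed_2Elem_signaliser (tau2_w hM.1 hp) hB.prime (Ne.symm hne) hA
    ((tau2_not_beta hM hp).2 A (hA.mono hE.le)) hQ (hB.of_le hBA).dvd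
  exact not_ab_syl hP hna hS (tau2_ab hM hp hS.pi ((h fun _ => ⟨B, hB.of_le hBQ,
    ((tau2_not_beta hM hq).2 B (hB.mono hE.le)).of_le hBQ le_top⟩).trans
      ((cent_mono hBQ).trans ((tau2_cent_le hM hE hB).trans hE.le))))

theorem nonabelian_tau2 (hM : Mx M) (hE : Hall (sigma M)ᶜ E M) (hp : p ∈ tau2 M)
    (hA : El p 2 A E) (hP0 : PG p P0) (hna0 : ¬ Ab P0) :
    tau2 M = {p} ∧ (#(A ⊓ C(Ms M)) = p ∧ Dprod (Ms M) (A ⊓ C(Ms M)) (Fit M)) ∧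
      (∀ X, El p 1 X E → X ≠ A ⊓ C(Ms M) → Ms M ⊓ C(X) = ⊥ ∧ ¬ C(X) ≤ M) ∧
      ∃ E0, Sdprod (A ⊓ C(Ms M)) E0 E ∧ ∀ x ∈ Ms M, x ≠ 1 → PiG (tau1 M) (E0 ⊓ C[x]) := by
  have hAM := hA.mono hE.le
  have hs := tau2_sigma' hp
  have hp' : PiG {p}ᶜ (Ms M) := (Ms_pi M).compl_sing hs
  have hn : A ≤ N(Ms M) := hAM.le.trans (Ms_norm M)
  obtain ⟨P, hP, hAP⟩ := hA.pg.exists_syl hA.le
  obtain ⟨S, hS, hPS⟩ := hP.pi.exists_syl le_top
  have hna := not_ab_syl hP0 hna0 hS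
  have hSM : S ⊓ M ≤ C(A) := cents_of_comm (tau2_ab hM hp (hS.pi.infl M) inf_le_right) le_rfl
    (le_inf (hAP.trans hPS) hAM.le)
  have hCS : S ⊓ C(A) = P := hP.max (le_inf hPS ((le_inf hPS (hP.le.trans hE.le)).trans hSM))
    (inf_le_right.trans (tau2_cent_le hM hE hA)) (hS.pi.infl _)
  obtain ⟨hZ, ⟨Y, hYc, hZY, hd⟩, htr⟩ := B10_13.basic_p2maxElem_structure (tau2_w hM.1 hp) hA.top
    ((tau2_not_beta hM hp).2 A hAM) hS.pi (hAP.trans hPS) hna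
  obtain ⟨A0, hA0, hne⟩ := hA.exists_cent_ne_bot hn hp' (Msigma_neq1 hM)
  have huq := fun X (hX : El p 1 X A) => tau2_uniq hM hp hAM (hX.vcent (tau2_w hM.1 hp))
    (cents_of_comm hA.comm le_rfl hX.le)
  have hu := huq A0 hA0 hne
  have hZM : ¬ C(Ohm1 p Z(S)) ≤ M := fun h => hna (tau2_ab hM hp hS.pi
    ((cents_symm ((Ohm1_le _ _).trans inf_le_right)).trans h))
  have hA0Z : A0 ≠ Ohm1 p Z(S) := fun e => hZM (e ▸ hu.le)
  have hc : ∀ X, El p 1 X A → X ≠ A0 → ¬ C(X) ≤ M := fun X hX hX0 h => by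
    obtain ⟨g, hg, e⟩ := htr A0 X hA0 hA0Z hX fun e => hZM (e ▸ h)
    rw [← e, ← cj_cent] at h
    exact hX0 (e.symm.trans (cj_of_mem_cent (cent_mono hA0.le (hSM ⟨hg.1, hu.mem_of_cj_le h⟩))))
  have hreg : ∀ X, El p 1 X A → X ≠ A0 → Ms M ⊓ C(X) = ⊥ := fun X hX hX0 => by_contra fun h =>
    hc X hX hX0 (huq X hX h).le
  have hMs : Ms M ≤ C(A0) := hA.le_of_cent_le hn hp' fun X hX => by
    by_cases e : X = A0
    · exact e ▸ inf_le_right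
    · exact (hreg X hX e).le.trans bot_le
  have hnc : ∀ X, Ms M ⊓ C(X) = ⊥ → ¬ X ≤ C(Ms M) := fun X h h' =>
    Msigma_neq1 hM (eq_bot_mono (le_inf le_rfl (cents_symm h')) h)
  have e : A ⊓ C(Ms M) = A0 := by
    have h0 : A0 ≤ A ⊓ C(Ms M) := le_inf hA0.le (cents_symm hMs)
    exact (hA0.eq_of_le (hA.el1_of_lt (lt_of_le_of_ne inf_le_left fun e => hnc A
      (tau2_cent_eq_bot hM hp hAM) (inf_eq_left.1 e)) (ne_bot_mono h0 hA0.ne_bot)) h0).symm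
  have hnE : A0 ⊴ E := ⟨hA0.le.trans hA.le, e ▸ norms_inf (tau2_normal hM hE hA).norm
    (norms_cent (hE.le.trans (Ms_norm M)))⟩
  have hnM : A0 ⊴ M := ⟨hA0.le.trans hAM.le, by
    rw [← (sdprod_sigma hM hE).sup]; exact sup_le (norms_of_cents hMs) hnE.norm⟩
  have ht : tau2 M = {p} := Set.eq_singleton_iff_unique_mem.2
    ⟨hp, fun q hq => nonabelian_tau2_eq hM hp hP0 hna0 hq⟩
  have hdP := hd A0 hA0 hA0Z
  rw [hCS] at hdP
  rw [e]
  refine ⟨ht, ⟨hA0.card1, hMs, le_antisymm (sup_le (le_Fit (Ms_normal M) (tau2_Msigma_nil hM hp))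
    (le_Fit hnM hA0.pg.nil)) (Fit_le_of_Oc fun q hq => ?_), Ms_inf_eq_bot (hA0.pi hs)⟩,
    fun X hX h => ⟨hreg X (hX.of_le (tau2_el1_le hM hE hA hX)) h,
      hc X (hX.of_le (tau2_el1_le hM hE hA hX)) h⟩, ?_⟩
  · by_cases h0 : Oc {q} M = ⊥
    · exact h0.le.trans bot_le
    rcases prime_class_mmax_norm ((Oc_pi {q} M).mem_of_ne_bot h0 ((Fit_w hM).of_le (Oc_le_Fit q M))) hM (Oc_pi {q} M) (mmax_normal hM (Oc_normal _ _) h0).le with h | h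
    · exact (Oc_mono (Set.singleton_subset_iff.2 h) M).trans le_sup_left
    rw [ht, Set.mem_singleton_iff] at h
    subst h
    have h1 : Y ⊓ C(Ms M) = ⊥ := by_contra fun h => hnc _ (hreg _ hZ hA0Z.symm)
      (((hZ.of_le hZY).le_of_cyc hYc inf_le_left
        (((hP.pi.of_le hdP.right_le).infl _).dvd_of_ne_bot h)).trans inf_le_right)
    refine (le_inf (Oc_le_hall (hE.sub_syl hs hP)) (Oc_cents (Ms_normal M) hp')).trans ?_
    rw [← hdP.sup, sup_inf_modl hdP.sd.norm (cents_symm hMs), h1, sup_bot_eq]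
    exact le_sup_right
  · obtain ⟨E0, h0⟩ := gaschutz_amb hnE hA0.comm hP.le (hA0.pg.coprime hP.idx) hdP.sd
    refine ⟨E0, h0, fun x hx hx1 r hr hdr => ?_⟩
    obtain ⟨X, hX⟩ := exists_el1 hr hdr
    have hXE := hX.mono (inf_le_left.trans h0.right_le)
    have hX1 : Ms M ⊓ C(X) ≠ ⊥ := ne_bot_of_mem ⟨hx, le_cent1_iff.1 (hX.le.trans inf_le_right)⟩ hx1
    rcases tau_of_dvd hM hE hr hXE.dvd with h | h | h
    · exact h
    · rw [ht, Set.mem_singleton_iff] at h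
      subst h
      exact absurd (hreg X (hX.of_le (tau2_el1_le hM hE hA hXE)) fun e' => hX.ne_bot
        (eq_bot_mono (le_inf e'.le (hX.le.trans inf_le_left)) h0.inf)) hX1
    · refine absurd ((tau2_regular_cent hM hE hp hA ?_ (hX.pi (tau3_tau2' h))).cent le_rfl
        hX.ne_bot) hX1
      obtain ⟨E3, h3, hle⟩ := (hX.pi h).exists_hall (mmax_sub_sol hM hE.le) hXE.le
      exact hle.trans (tau3_cent_tau2 hM hE h3 hA)

instance inst_B12_7 : B12_7 G where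
  nonabelian_tau2 := nonabelian_tau2

/-! ### 12.8, 12.9 -/

theorem abelian_tau2_aux (hM : Mx M) (hE : Hall (sigma M)ᶜ E M) (hA : El p 2 A E)
    (hS : Syl p S ⊤) (hAS : A ≤ S) (hab : Ab S) :
    N(A) = N(S) ∧ ⁅N(S), N(S)⁆ ≤ Fit E ∧ Fit E ≤ C(S) ∧ C(S) ≤ E := by
  have hp := sigma'2Elem_tau2 hM hE hA
  have hSC : S ≤ C(A) := cents_of_comm hab le_rfl hAS
  have hCE := tau2_cent_le hM hE hA
  have hNS : N(S) ≤ N(A) := tau2_Ohm1 hM hE hA hAS (hSC.trans hCE) ▸ norm_le_norm_Ohm1 p S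
  have hr : rk C(A) ≤ 2 := not_lt.1 fun e => tau2_not_norm_le hM hp (hA.mono hE.le) (uniq_norm_le
    (U9.cent_rank3_Uniqueness (hM.loc (hA.le.trans hE.le)) (by rw [hA.rk_eq]; omega) e) hM (hA.le.trans hE.le))
  have hF : Fit N(A) ≤ C(A) := Fit_le_of_Oc fun q _ => by
    by_cases e : p = q
    · exact e ▸ (Oc_le_hall (hS.of_le (norms_of_cents hSC) le_top)).trans hSC
    · exact Oc_cents (normalIn_norm A) (hA.pg.sing_ne e)
  have hd := G4b.rank2_der1_sub_Fitting (hA.vnorm (tau2_w hM.1 hp)).odd (hA.vnorm (tau2_w hM.1 hp)).sol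
    ((rk_mono hF).trans hr)
  have hFE : Fit N(A) ≤ Fit E := (le_inf le_rfl (hF.trans hCE)).trans
    (Fit_inf_le (tau2_normal hM hE hA).norm)
  have hSF : S ≤ Fit N(A) := (mFT_Sylow_der1 (tau2_w hM.1 hp) hS).trans ((der_mono hNS).trans hd)
  exact ⟨le_antisymm ((Fit_norm _).trans (nil_hall_norm (Fit_nil _) (hS.of_le hSF le_top))) hNS,
    (der_mono hNS).trans (hd.trans hFE),
    nil_le_cent_hall (Fit_nil E) (hS.of_le (hSF.trans hFE) le_top) hab,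
    (cent_mono hAS).trans hCE⟩

theorem abelian_tau2_sub_Fitting (hM : Mx M) (hE : Hall (sigma M)ᶜ E M) (hA : El p 2 A E)
    (hS : Syl p S ⊤) (hAS : A ≤ S) (hab : Ab S) :
    S ≤ ⁅N(S), N(S)⁆ ∧ ⁅N(S), N(S)⁆ ≤ Fit E ∧ Fit E ≤ C(S) ∧ C(S) ≤ E :=
  ⟨mFT_Sylow_der1 (hM.1.el2 (hA.mono hE.le)) hS, (abelian_tau2_aux hM hE hA hS hAS hab).2⟩

theorem abelian_tau2_syl (hM : Mx M) (hp : p ∈ tau2 M) (hS : Syl p S ⊤) (hab : Ab S)
    (hq : q ∈ tau2 M) (hT : PG q T) : Ab T := by_contra fun h => by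
  obtain rfl := nonabelian_tau2_eq hM hq hT h hp
  exact not_ab_syl hT h hS hab

theorem abelian_tau2_hall (hM : Mx M) (hE : Hall (sigma M)ᶜ E M) (hp : p ∈ tau2 M)
    (hS : Syl p S ⊤) (hab : Ab S) (h2 : Hall (tau2 M) E2 E) :
    E2 ≤ Fit E ∧ E2 ⊴ E ∧ Ab E2 ∧ Hall (tau2 M) E2 ⊤ := by
  have h1 : Hall (tau2 M) (Oc (tau2 M) (Fit E)) ⊤ := hall_of_syl le_top (Oc_pi _ _)
    fun q _ hq _ => by
      obtain ⟨B, hB⟩ := ex_tau2Elem hE hq
      obtain ⟨T, hT, hBT⟩ := hB.pg.exists_syl le_top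
      have := abelian_tau2_sub_Fitting hM hE hB hT hBT (abelian_tau2_syl hM hp hS hab hq hT.pi)
      exact ⟨T, hT, nil_le_Oc (Fit_nil E) (this.1.trans this.2.1) (hT.pi.sing hq)⟩
  have hn := (Fit_normal E).Oc (tau2 M)
  rw [(h1.of_le hn.le le_top).eq_of_normal hn.norm h2]
  exact ⟨Oc_le _ _, hn, nil_ab_of_syl (nil_mono (Fit_nil E) (Oc_le _ _)) fun q P _ hP h =>
    abelian_tau2_syl hM hp hS hab (hP.pi.mem_of_ne_bot h (h1.pi.of_le hP.le)) hP.pi, h1⟩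

theorem abelian_tau2_norm (hM : Mx M) (hE : Hall (sigma M)ᶜ E M) (hA : El p 2 A E)
    (hS : Syl p S ⊤) (hAS : A ≤ S) (hab : Ab S) (h2 : Hall (tau2 M) E2 E)
    (h3 : Hall (tau3 M) E3 E) :
    N(A) = N(S) ∧ N(S) = N(E2) ∧ N(S) = N(E3 ⊔ E2) ∧ N(S) = N(Fit E) := by
  have hp := sigma'2Elem_tau2 hM hE hA
  obtain ⟨a1, a2, a3, a4⟩ := abelian_tau2_aux hM hE hA hS hAS hab
  obtain ⟨b1, b2, -, -⟩ := abelian_tau2_hall hM hE hp hS hab h2
  obtain ⟨-, c2, c3⟩ := tau3_compl hM hE h3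
  have c1 := le_Fit c2 (nil_of_cyc c3)
  have hS2 : S ≤ E2 := h2.le_of_normal b2.norm ((comm_iff_le_cent.1 hab).trans a4) (hS.pi.sing hp)
  have key : ∀ K, S ≤ K → K ≤ Fit E → N(K) ≤ N(S) := fun K h h' =>
    nil_hall_norm (nil_mono (Fit_nil E) h') (hS.of_le h le_top)
  have hF : N(S) ≤ N(Fit E) := by
    rw [← inf_eq_left.2 a3, ← Fit_eq_inf ⟨a4, norms_cent (a1 ▸ (tau2_normal hM hE hA).norm)⟩]
    exact norms_Fit (norm_le_norm_cent S)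
  have n2 := hF.trans (nil_hall_norm (Fit_nil E) (h2.of_le b1 (Fit_le E)))
  have n3 := hF.trans (nil_hall_norm (Fit_nil E) (h3.of_le c1 (Fit_le E)))
  exact ⟨a1, le_antisymm n2 (key _ hS2 b1),
    le_antisymm (norms_sup n3 n2) (key _ (hS2.trans le_sup_right) (sup_le c1 b1)),
    le_antisymm hF (key _ (hS2.trans b1) le_rfl)⟩

theorem abelian_tau2_center (hM : Mx M) (hE : Hall (sigma M)ᶜ E M) (hA : El p 2 A E)
    (hS : Syl p S ⊤) (hAS : A ≤ S) (hab : Ab S) (hq : q ∈ tau1 M) (hX : El q 1 X E)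
    (hreg : Ms M ⊓ C(X) = ⊥) : X ≤ C(E) := by
  have hp := sigma'2Elem_tau2 hM hE hA
  obtain ⟨E1, E2, E3, h, hX1⟩ := ex_tau1_compl hM hE hX.le (hX.pi hq)
  obtain ⟨⟨-, c2⟩, -, ⟨c1, c3⟩, ⟨-, -, -, sd⟩, -⟩ := sigma_compl_context hM h
  obtain ⟨b1, b2, b3, -⟩ := abelian_tau2_hall hM hE hp hS hab h.hall2
  obtain ⟨n1, -, n3, -⟩ := abelian_tau2_norm hM hE hA hS hAS hab h.hall2 h.hall3
  have hKF : E3 ⊔ E2 ≤ Fit E := sup_le (le_Fit c2 (nil_of_cyc c3)) b1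
  have hK : Ab (E3 ⊔ E2) := comm_sup (comm_of_cyclic c3) b3 (c2.cents_of_disjoint b2
    (h.hall3.pi.inf_eq_bot (h.hall2.pi.mono fun _ => tau2_tau3')))
  have hH := h.hall3.union h.hall2 (b2.le.trans c2.norm)
  have hn := (norms_of_der_le_cent n3.le ((abelian_tau2_aux hM hE hA hS hAS hab).2.1.trans
    (nil_le_cent_hall (Fit_nil E) (hH.of_le hKF (Fit_le E)) hK))
    (hX.le.trans ((tau2_normal hM hE hA).norm.trans n1.le))).2
  have hMn := (B10_11.commG_sigma'_1Elem_cyclic hM (hH.le.trans hE.le) (hE.pi.of_le hH.le)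
    (tau1_sigma' hq) (hX.mono hE.le) (hX1.trans sd.norm) hreg
    (hH.pi.compl_sing fun e => e.elim (tau1_tau3' hq) (tau1_tau2' hq)) hK).2.2
  have h0 : ⁅E3 ⊔ E2, X⁆ = ⊥ := by_contra fun e => tau2_not_norm_le hM hp (hA.mono hE.le)
    (n1.le.trans (hn.trans (mmax_normal hM
      ⟨commg_le_of_le (hH.le.trans hE.le) (hX.le.trans hE.le), hMn⟩ e).le))
  rw [← sd.sup]
  exact cents_sup (cents_symm (commg_eq_bot.1 h0)) (cents_of_comm (comm_of_cyclic c1) hX1 le_rfl)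

theorem abelian_tau2_norm_Sylow (hM : Mx M) (hE : Hall (sigma M)ᶜ E M) (hA : El p 2 A E)
    (hS : Syl p S ⊤) (hAS : A ≤ S) (hab : Ab S) (hX : X ≤ N(S)) :
    N(S) ≤ N(S ⊓ C(X)) ∧ N(S) ≤ N(⁅S, X⁆) :=
  let h := abelian_tau2_aux hM hE hA hS hAS hab
  norms_of_der_le_cent le_rfl (h.2.1.trans h.2.2.1) hX

theorem tau1_act_tau2 (hM : Mx M) (hE : Hall (sigma M)ᶜ E M) (hp : p ∈ tau2 M)
    (hA : El p 2 A E) (hq : q ∈ tau1 M) (hQ : El q 1 Q E) (hreg : Ms M ⊓ C(Q) = ⊥)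
    (hne : ⁅A, Q⁆ ≠ ⊥) :
    (El p 1 ⁅A, Q⁆ A ∧ A ⊓ C(Ms M) = ⁅A, Q⁆ ∧ M ≤ N(⁅A, Q⁆)) ∧ ¬ Cjg (A ⊓ C(Q)) ⁅A, Q⁆ ∧
      El p 1 (A ⊓ C(Q)) A ∧ ¬ C(A ⊓ C(Q)) ≤ M := by
  have hAM := hA.mono hE.le
  have hpq : p ≠ q := fun e => tau1_tau2' hq (e ▸ hp)
  have hn : Q ≤ N(A) := hQ.le.trans (tau2_normal hM hE hA).norm
  have hc : (#A).Coprime #Q := hA.pg.coprime (hQ.pg.sing_ne hpq.symm)
  obtain ⟨a1, a2, a3⟩ := B10_11.commG_sigma'_1Elem_cyclic hM hAM.le (hA.pi (tau2_sigma' hp))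
    (tau1_sigma' hq) (hQ.mono hE.le) hn hreg (hA.pg.sing_ne hpq) hA.comm
  have h0 : El p 1 ⁅A, Q⁆ A := hA.el1_of_lt
    (lt_of_le_of_ne (commg_le_left hn) fun e => hA.not_cyc (e ▸ a2)) hne
  have hle : ⁅A, Q⁆ ≤ A ⊓ C(Ms M) := le_inf h0.le a1
  have e : A ⊓ C(Ms M) = ⁅A, Q⁆ := (h0.eq_of_le (hA.el1_of_lt (lt_of_le_of_ne inf_le_left fun e =>
    Msigma_neq1 hM (eq_bot_mono (le_inf le_rfl (cents_symm (inf_eq_left.1 e)))
      (tau2_cent_eq_bot hM hp hAM))) (ne_bot_mono hle hne)) hle).symm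
  have hd := ab_cent_dprod hA.comm hn hc
  have h1 : El p 1 (A ⊓ C(Q)) A := hA.el1_of_lt (lt_of_le_of_ne inf_le_left fun e =>
    hne (commg_eq_bot.2 (inf_eq_left.1 e))) fun e => hA.not_cyc
      (by have := hd.sup; rw [e, bot_sup_eq] at this; exact this ▸ a2)
  have hN := mmax_norm hM hne (h0.pi (tau2_w hM.1 hp)) a3
  refine ⟨⟨h0, e, a3⟩, ?_, h1, ?_⟩
  · rintro ⟨g, hg⟩
    have h2 : cj g Q ≤ C(⁅A, Q⁆) := by
      rw [← hg, ← cj_cent]; exact cj_mono g (cents_symm inf_le_right)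
    obtain ⟨T, hT, hQT⟩ := hQ.pg.exists_syl (hQ.le.trans hE.le)
    obtain ⟨m, hm, h3⟩ := hT.scj_le (h2.trans ((cent_le_norm _).trans hN.le)) (hQ.pg.J g)
    have h4 := (((hQ.J g).J m).of_le h3).eq_of_cyc (hQ.of_le hQT)
      (tau13_cyclic hM (Or.inl hq) hT.pi hT.le)
    have h5 : Q ≤ C(⁅A, Q⁆) := h4.ge.trans (cj_le_of_mem_norm (norms_cent a3 hm) h2)
    exact hne (eq_bot_mono (le_inf (le_inf h0.le (cents_symm h5)) le_rfl) hd.inf)
  · obtain ⟨S, hS, hAS⟩ := hA.pg.exists_syl le_top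
    refine ((nonabelian_tau2 hM hE hp hA hS.pi fun hab => hne (commg_eq_bot.2 (cents_symm
      ((abelian_tau2_center hM hE hA hS hAS hab hq hQ hreg).trans (cent_mono hA.le))))).2.2.1 _
      (h1.mono hA.le) fun e' => ?_).2
    exact hne (eq_bot_mono (le_inf (e'.trans e).ge le_rfl) hd.inf)

instance inst_B12_8 : B12_8 G where
  abelian_tau2_sub_Fitting hM hE _ := abelian_tau2_sub_Fitting hM hE
  abelian_tau2 hM hE hp hA hS hAS hab := ⟨fun _ h2 => (abelian_tau2_hall hM hE hp hS hab h2).2,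
    fun _ _ => abelian_tau2_norm hM hE hA hS hAS hab,
    fun _ _ => abelian_tau2_center hM hE hA hS hAS hab⟩
  abelian_tau2_norm_Sylow hM hE _ := abelian_tau2_norm_Sylow hM hE
  tau1_act_tau2 := tau1_act_tau2

/-! ### 12.10, 12.11 -/

theorem sigma'_nil_abelian (hM : Mx M) (hK : K ≤ M) (hs : PiG (sigma M)ᶜ K) (hn : Nil K) :
    Ab K := nil_ab_of_syl hn fun p P hp hP h1 => by
  have hd := hP.pi.dvd_of_ne_bot h1
  rcases partition_pi_mmax hM hp (hd.trans (card_dvd (hP.le.trans hK))) with h | h | h | h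
  · exact comm_of_cyclic (tau13_cyclic hM (Or.inl h) hP.pi (hP.le.trans hK))
  · exact tau2_ab hM h hP.pi (hP.le.trans hK)
  · exact comm_of_cyclic (tau13_cyclic hM (Or.inr h) hP.pi (hP.le.trans hK))
  · exact absurd h (hs p hp (hd.trans (card_dvd hP.le)))

theorem der_mmax_compl_abelian (hM : Mx M) (hE : Hall (sigma M)ᶜ E M) : Ab ⁅E, E⁆ :=
  sigma'_nil_abelian hM ((der_le E).trans hE.le) (hE.pi.of_le (der_le E))
    (der1_sigma_compl_nil hM hE)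

theorem tau2_compl_abelian (hM : Mx M) (hE : Hall (sigma M)ᶜ E M)
    (h2 : Hall (tau2 M) E2 E) : Ab E2 := by
  by_cases h0 : E2 = ⊥
  · exact h0 ▸ comm_bot
  obtain ⟨p, hpp, hd⟩ := exists_prime_dvd_card h0
  have hp := h2.pi p hpp hd
  obtain ⟨S, hS⟩ := exists_syl p (⊤ : Subgroup G)
  by_cases hab : Ab S
  · exact (abelian_tau2_hall hM hE hp hS hab h2).2.2.1
  · exact tau2_ab hM hp (h2.pi.mono fun q hq => nonabelian_tau2_eq hM hp hS.pi hab hq)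
      (h2.le.trans hE.le)

theorem tau2_abelian (hM : Mx M) (hK : K ≤ M) (h : PiG (tau2 M) K) : Ab K := by
  obtain ⟨E, hE, hle⟩ := ex_sigma_compl hM hK (h.mono fun _ => tau2_sigma')
  obtain ⟨E2, h2, hle2⟩ := h.exists_hall (mmax_sub_sol hM hE.le) hle
  exact comm_mono (tau2_compl_abelian hM hE h2) hle2

theorem tau1'_cent_tau2 (hM : Mx M) (hE : Hall (sigma M)ᶜ E M) (hA : El p 2 A E) :
    Oc (tau1 M)ᶜ E ≤ C(A) := by
  obtain ⟨E1, E2, E3, h⟩ := ex_sigmaCompl hM hE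
  rw [← tau23_eq hM hE h.hall2 h.hall3]
  exact sup_le (tau3_cent_tau2 hM hE h.hall3 hA) (cents_of_comm (tau2_compl_abelian hM hE h.hall2)
    le_rfl (h.hall2.le_of_norm' hA.le (hA.pi (sigma'2Elem_tau2 hM hE hA))
      (h.hall2.le.trans (tau2_normal hM hE hA).norm)))

theorem tau1_cent_tau2Elem_factor (hM : Mx M) (hE : Hall (sigma M)ᶜ E M) (hA : El p 2 A E) :
    (E ⊓ C(A)) ⊴ E ∧ PiN (tau1 M) ((E ⊓ C(A)).relIndex E) ∧
      ∀ K, K ≤ E → PiG (tau1 M)ᶜ K → K ≤ C(A) :=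
  ⟨inf_cent_normal (tau2_normal hM hE hA).norm, by
    simpa using (tau1'_hall hM hE).idx.dvd
      (relIndex_dvd_left (le_inf (Oc_le _ _) (tau1'_cent_tau2 hM hE hA)) E),
    fun _ hK h => ((tau1'_hall hM hE).le_Oc hK h).trans (tau1'_cent_tau2 hM hE hA)⟩

theorem norm_noncyclic_sigma (hM : Mx M) (hp : p ∈ sigma M) (hP : PG p P) (hle : P ≤ M)
    (hnc : ¬ Cyc P) : N(P) ≤ M := by
  obtain ⟨A, hA⟩ := hP.exists_el2 (hM.odd hle) hnc
  rw [← (B10_1.sigma_group_trans hM hp hP).2.2 hle]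
  exact sup_le ((cent_mono hA.le).trans (p2Elem_mmax hM (hA.mono hle)).1) inf_le_left

theorem cent1_nreg_sigma_uniq {x : G} (hM : Mx M) (hx : x ∈ M) (hx1 : x ≠ 1)
    (h2 : PiE (tau2 M) x) (h : Ms M ⊓ C[x] ≠ ⊥) : UniqMax C[x] M := by
  obtain ⟨p, hpp, hd⟩ := exists_prime_dvd_orderOf hx1
  have hp := h2 p hpp hd
  have h2' := piG_zpowers.2 h2
  obtain ⟨E, hE, hle⟩ := ex_sigma_compl hM (zpowers_le.2 hx) (h2'.mono fun _ => tau2_sigma')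
  obtain ⟨A, hA⟩ := ex_tau2Elem hE hp
  refine tau2_uniq hM hp (hA.mono hE.le) (loc_cent1 (h2.mono fun _ => tau2_w hM.1) hx1) ?_ h
  rw [← cent_zpowers]
  exact cents_symm ((tau1_cent_tau2Elem_factor hM hE hA).2.2 _ hle (h2'.mono fun _ => tau2_tau1'))

theorem tau2_sigma_of_norm (hM : Mx M) (hE : Hall (sigma M)ᶜ E M) (hA : El p 2 A E)
    (hMs : Mx Mstar) (hN : N(A) ≤ Mstar) (hq : q ∈ tau2 M) :
    q ∈ sigma Mstar ∧ q ∉ beta Mstar := by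
  refine ⟨by_contra fun hs => ?_, fun e => (tau2_not_beta hM hq).1 (beta_sub_betaG e)⟩
  obtain ⟨B, hB⟩ := ex_tau2Elem hE hq
  have hBs := hB.mono ((tau2_normal hM hE hA).norm.trans hN)
  exact tau2_not_norm_le hMs (tau2_of_el hMs hs hBs) hBs ((tau2_norm_le_norm hM hE hB hA).trans hN)

theorem not_cent_of_dvd_index (hq : q.Prime) (hd : q ∣ (E ⊓ C(A)).relIndex E) (hQ : Syl q Q E) :
    ¬ Q ≤ C(A) := fun h => hQ.not_dvd_relIndex hq (le_inf hQ.le h) hd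

theorem tau12_of_norm (hM : Mx M) (hE : Hall (sigma M)ᶜ E M) (hA : El p 2 A E)
    (hMs : Mx Mstar) (hN : N(A) ≤ Mstar) :
    PiN (tau1 Mstar ∪ tau2 Mstar) ((E ⊓ C(A)).relIndex E) := by
  intro q hq hd
  have hp := sigma'2Elem_tau2 hM hE hA
  obtain ⟨h1, h2⟩ := tau2_sigma_of_norm hM hE hA hMs hN hp
  have hnA := (tau2_normal hM hE hA).norm
  have hEs := hnA.trans hN
  obtain ⟨Q, hQ⟩ := exists_syl q E
  have hpq : q ≠ p := fun e => tau2_tau1' hp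
    (e ▸ (tau1_cent_tau2Elem_factor hM hE hA).2.1 q hq hd)
  have hQs := hQ.le.trans hEs
  have hnd : ¬ Q ≤ ⁅Mstar, Mstar⁆ := fun h => by
    have hA' := (le_Msigma hMs (hA.le.trans hEs) (hA.pi h1)).trans (Msigma_der1 hMs)
    have := (quo_cents_iff (hQs.trans (Oc_norm _ _)) ((hA.le.trans hEs).trans (Oc_norm _ _))).1
      (nil_cents_pi (Mbeta_quo_nil hMs) (quo_mono _ h) (quo_mono _ hA') (hQ.pi.quo _)
        ((hA.pg.sing_ne hpq.symm).quo _))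
    exact not_cent_of_dvd_index hq hd hQ (commg_eq_bot.1 (eq_bot_mono
      (le_inf this (commg_le_right (hQ.le.trans hnA))) ((Oc_pi _ _).inf_eq_bot (hA.pi h2))))
  rcases partition_pi_mmax hMs hq ((hd.trans (relIndex_dvd_card _ _)).trans (card_dvd hEs)) with
    h | h | h | h
  exacts [Or.inl h, Or.inr h, absurd (tau3_le_der hMs (hQ.pi.sing h) hQs) hnd,
    absurd ((le_Msigma hMs hQs (hQ.pi.sing h)).trans (Msigma_der1 hMs)) hnd]

theorem primes_norm_tau2Elem (hM : Mx M) (hE : Hall (sigma M)ᶜ E M) (hp : p ∈ tau2 M)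
    (hA : El p 2 A E) (hMs : Mx Mstar) (hN : N(A) ≤ Mstar) :
    (∀ q ∈ tau2 M, q ∈ sigma Mstar ∧ q ∉ beta Mstar) ∧
      PiN (tau1 Mstar ∪ tau2 Mstar) ((E ⊓ C(A)).relIndex E) ∧
      ∀ q : ℕ, q.Prime → q ∣ (E ⊓ C(A)).relIndex E → q ∣ #(E ⊓ C(A)) →
        q ∈ tau2 Mstar ∧ (∃ P, Syl p P ⊤ ∧ P ⊴ Mstar) ∧ ∃ Q, Syl q Q ⊤ ∧ Q ≤ Mstar ∧ Ab Q := by
  refine ⟨fun q => tau2_sigma_of_norm hM hE hA hMs hN, tau12_of_norm hM hE hA hMs hN,
    fun q hq hd hd' => ?_⟩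
  obtain ⟨f1, f2, -⟩ := tau1_cent_tau2Elem_factor hM hE hA
  have hq1 := f2 q hq hd
  have hCE := tau2_cent_le hM hE hA
  have hEs := (tau2_normal hM hE hA).norm.trans hN
  obtain ⟨Q, hQ⟩ := exists_syl q E
  have hQc := tau13_cyclic hM (Or.inl hq1) hQ.pi (hQ.le.trans hE.le)
  have hQ0 := hQ.inf_normal f1
  have hQ1 := hQ0.sne_bot hq hd'
  rw [inf_eq_right.2 hCE] at hQ0 hQ1
  have hw : q ∈ vw G := hQ0.pi.mem_of_ne_bot hQ1 ((hA.vcentw (tau2_w hM.1 hp)).of_le hQ0.le)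
  obtain ⟨L, hL, hNL⟩ := exists_mmax_norm hQ1 (hQ0.pi.sing hw)
  have hAL : A ≤ L := (norms_of_cents (cents_symm inf_le_right)).trans hNL
  have hNA : N(A) ≤ L := by
    rw [← hQ0.frattini (cent_normal_norm A)]
    exact sup_le (p2Elem_mmax hL (hA.of_le hAL)).1 (inf_le_right.trans hNL)
  have hpL := (tau2_sigma_of_norm hM hE hA hL hNA hp).1
  have hps := (tau2_sigma_of_norm hM hE hA hMs hN hp).1
  have hqL : q ∈ tau2 L := (prime_class_mmax_norm hw hL hQ0.pi hNL).resolve_left fun e =>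
    (tau12_of_norm hM hE hA hL hNA q hq hd).elim (fun h => tau1_sigma' h e) fun h => tau2_sigma' h e
  have hnil := tau2_Msigma_nil hL hqL
  obtain rfl : L = Mstar := by_contra fun e => ((B10_12.sigma_disjoint hL hMs
    (mmax_norm_notJ (tau2_w hM.1 hp) hL hMs hA.pg hAL hN (Or.inl ⟨hpL, e⟩))).2 hnil).2 p hpL hps
  refine ⟨hqL, ⟨_, syl_Ms_top hL hpL (nil_Oc_hall hnil _), (Ms_normal L).Oc _⟩, ?_⟩
  obtain ⟨F, hF, hQF⟩ := ex_sigma_compl hL (hQ.le.trans hEs) (hQ.pi.sing (tau2_sigma' hqL))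
  obtain ⟨B, hB⟩ := ex_tau2Elem hF hqL
  obtain ⟨T, hT, hBT⟩ := hB.pg.exists_syl le_top
  by_cases hab : Ab T
  · exact ⟨T, hT, (comm_iff_le_cent.1 hab).trans
      ((abelian_tau2_aux hL hF hB hT hBT hab).2.2.2.trans hF.le), hab⟩
  exfalso
  obtain ⟨-, -, h3, E0, h4, -⟩ := nonabelian_tau2 hL hF hqL hB hT.pi hab
  obtain ⟨X, hX⟩ := hQ0.pi.exists_el1 hQ1
  have hXQ := hX.mono inf_le_left
  have e : X = B ⊓ C(Ms L) := by_contra fun e => hA.ne_bot (eq_bot_mono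
    (le_inf (le_Msigma hL hAL (hA.pi hpL)) (cents_symm (hX.le.trans inf_le_right)))
    (h3 X (hXQ.mono hQF) e).1)
  rw [← e] at h4
  have h5 := (h4.modl hXQ.le).sup
  rw [inf_eq_right.2 hQF] at h5
  by_cases h6 : E0 ⊓ Q = ⊥
  · rw [h6, sup_bot_eq] at h5
    exact not_cent_of_dvd_index hq hd hQ (h5 ▸ hX.le.trans inf_le_right)
  · exact hX.ne_bot (eq_bot_mono (le_inf le_rfl ((hXQ.le_of_cyc hQc inf_le_right
      ((hQ.pi.infr _).dvd_of_ne_bot h6)).trans inf_le_left)) h4.inf)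

instance inst_B12_10 : B12_10 G where
  sigma'_nil_abelian := sigma'_nil_abelian
  der_mmax_compl_abelian := der_mmax_compl_abelian
  tau2_compl_abelian := tau2_compl_abelian
  tau1_cent_tau2Elem_factor hM hE _ := tau1_cent_tau2Elem_factor hM hE
  norm_noncyclic_sigma := norm_noncyclic_sigma
  cent1_nreg_sigma_uniq := cent1_nreg_sigma_uniq
  primes_norm_tau2Elem := primes_norm_tau2Elem

end

end H13.V
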