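/-
Port of `H19/B13a` to the `ϖ`-local setting.
-/
import Cfsg.Agent.H13.V12e

set_option autoImplicit false
set_option linter.unusedSectionVars false

namespace H13.V
section
open H19
open Cfsg Subgroup H18 H2.BG

attribute [-instance] H18.fintypeSubgroup
universe u
variable {G : Type u} [Group G] [Finite G] [VS G] [Gen.{u}] [U79 G] {π : Set ℕ} {p q r : ℕ}
  {A B E E1 E2 E3 F H K L M P Q R S U V X Y : Subgroup G}

instance flat_B12_2 : B12_2 G := inferInstance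
instance flat_B12_5 : B12_5 G := inferInstance
instance flat_B12_7 : B12_7 G := inferInstance
instance flat_B12_8 : B12_8 G := inferInstance
instance flat_B12_10 : B12_10 G := inferInstance
instance flat_B12_12 : B12_12 G := inferInstance
instance flat_B12_13 : B12_13 G := inferInstance
instance flat_B12_15 : B12_15 G := inferInstance
instance flat_B12_18 : B12_18 G := inferInstance
example : B12 G := inferInstance

theorem le_of_w (h : PiG (vw G) X → Ms M ⊓ C(X) ≤ L) : Ms M ⊓ C(X) ≤ L := by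
  by_cases e : Ms M ⊓ C(X) = ⊥
  · exact e.le.trans bot_le
  · exact h (w_of_cent_ne_bot (Ms_w M) e)

theorem w_of_not_le (h : ¬ Ms M ⊓ C(X) ≤ L) : PiG (vw G) X :=
  w_of_cent_ne_bot (Ms_w M) fun e => h (e.le.trans bot_le)

theorem Malpha_sup_norm (hM : Mx M) (hQ : Hall π Q ⁅M, M⁆) : M ≤ N(Ma M ⊔ Q) :=
  hQ.sup_norm_of_nil_quo ((der_le M).trans (Oc_norm _ _)) (Malpha_quo_nil hM) (Oc_norm _ _)
    (der_normal M).norm

/-- a `σ(M)'`-subgroup of `H'` normalizing a `σ(M)`-subgroup of `H` centralizes it -/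
theorem cents_of_le_der_notJ (hM : Mx M) (hH : Mx H) (hnc : ¬ Cjg M H) (hs : π ⊆ sigma M)
    (hP : PG p P) (hp : p ∉ π) (hle : P ≤ ⁅H, H⁆) (hK : K ≤ H) (hKM : K ≤ Oc π M)
    (hPM : P ≤ M) : K ≤ C(P) := by
  obtain ⟨S, hS, hPS⟩ := hP.exists_syl hle
  have h1 : PiG πᶜ (Ma H ⊔ S) := ((Oc_pi _ _).mono fun r hr e =>
    (sigma_disjoint hH hM (not_cjg_symm hnc)).1.2 r hr (hs e)).sup (hS.pi.sing hp)
    (hS.le.trans ((der_le H).trans (Oc_norm _ _)))
  exact commg_eq_bot.1 (eq_bot_mono (le_inf ((commutator_mono hKM le_rfl).trans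
    ((Oc_normal π M).commg_le hPM)) ((commutator_mono le_rfl (hPS.trans le_sup_right)).trans
      (commg_le_right (hK.trans (Malpha_sup_norm hH hS))))) ((Oc_pi π M).inf_eq_bot h1))

/-- 13.1 -/
theorem Msigma_setI_mmax_central (hM : Mx M) (hH : Mx H) (hp : p.Prime) (hdM : p ∣ #M)
    (hs : p ∉ sigma M) (hdH : p ∣ #H) (h1 : p ∉ tau1 H) (hne : ⁅Ms M ⊓ H, M ⊓ H⁆ ≠ ⊥)
    (hnc : ¬ Cjg M H) :
    (∀ P, P ≤ M ⊓ H → PG p P → P ≤ C(Ms M ⊓ H)) ∧ p ∉ tau2 H ∧ (p ∈ tau1 M → p ∈ betaG G) := by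
  obtain ⟨q, hq, hd⟩ := exists_prime_dvd_card hne
  have hqs : q ∈ sigma M := Ms_pi M q hq (hd.trans (card_dvd
    ((commutator_mono inf_le_left inf_le_left).trans ((Ms_normal M).commg_le le_rfl))))
  obtain ⟨S, hS⟩ := exists_syl q ⁅H, H⁆
  have key := fun hb => B12_15.sigma_norm_rank1 hM (hS.pi.sing hqs) (hS.sne_bot hq (hd.trans
    (card_dvd (commutator_mono inf_le_right inf_le_right)))) hp hdM hs hb hH
    (hS.le.trans (der_le H)) hnc
  have e := Mbeta_frattini hH hS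
  have hn : H ⊓ N(S) ≤ N(Mb H) := inf_le_left.trans (Oc_norm _ _)
  have hb' : p ∉ betaG G → PiG {p}ᶜ (Mb H) := fun hb =>
    (Oc_pi _ _).compl_sing fun h => hb (beta_sub_betaG h)
  have h2 : p ∉ tau2 H := fun h => by
    have hb := (tau2_not_beta hH h).1
    have := (key hb).1
    rw [prk_sup_norm e hn (hb' hb), tau2_prk h] at this; omega
  have h3 : ∀ P, P ≤ H → PG p P → P ≤ ⁅H, H⁆ := fun P hP hp' => by
    rcases partition_pi_mmax hH hp hdH with h | h | h | h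
    · exact absurd h h1
    · exact absurd h h2
    · exact tau3_le_der hH (hp'.sing h) hP
    · exact (le_Msigma hH hP (hp'.sing h)).trans (Msigma_der1 hH)
  refine ⟨fun P hP hp' => cents_symm (cents_of_le_der_notJ hM hH hnc le_rfl hp' hs
    (h3 P (hP.trans inf_le_right) hp') inf_le_right inf_le_left (hP.trans inf_le_left)), h2, fun ht => by_contra fun hb => ?_⟩
  obtain ⟨X, hX⟩ := exists_el1 hp hdH
  exact (der_pi_of_sup_norm e hn (hb' hb) (PiN.of_not_dvd ((key hb).2 ht))).not_dvd hp rfl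
    (hX.of_le (h3 X hX.le hX.pg)).dvd

/-- 13.2 -/
theorem cent_norm_tau13_mmax (hw : p ∈ vw G) (hM : Mx M) (hp : p ∈ tau1 M ∪ tau3 M) (hle : P ≤ M)
    (hP : PG p P) (hH : Mx H) (hN : N(P) ≤ H) :
    (∀ P1, P1 ≤ M ⊓ H → PG p P1 → P1 ≤ C(Ms M ⊓ H)) ∧
      (∀ X, X ≤ M ⊓ H → PiG (sigma M)ᶜ X → PiG (tau1 H)ᶜ X → X ≤ C(Ms M ⊓ H)) ∧
      (⁅Ms M ⊓ H, M ⊓ H⁆ ≠ ⊥ → p ∈ sigma H ∧ (p ∈ tau1 M → p ∈ beta H)) := by
  have hnc := mmax_norm_notJ hw hM hH hP hle hN (Or.inr hp)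
  by_cases hne : ⁅Ms M ⊓ H, M ⊓ H⁆ = ⊥
  · have := cents_symm (commg_eq_bot.1 hne)
    exact ⟨fun _ h _ => h.trans this, fun _ h _ _ => h.trans this, fun h => absurd hne h⟩
  have hd := hP.dvd_of_ne_bot (ne_bot_of_norm_le hH.1 hN)
  have h2 := prime_class_mmax_norm hw hH hP hN
  obtain ⟨a1, a2, a3⟩ := Msigma_setI_mmax_central hM hH (tau13_prime hp) (hd.trans (card_dvd hle))
    (tau13_sigma' hp) (hd.trans (card_dvd (le_normalizer.trans hN)))
    (fun e => h2.elim (tau1_sigma' e) (tau1_tau2' e)) hne hnc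
  refine ⟨a1, fun X hX b1 b2 => le_of_exists_syl fun q hq hd => ?_,
    fun _ => ⟨h2.resolve_right a2, fun e => beta_of_sigma (h2.resolve_right a2) (a3 e)⟩⟩
  obtain ⟨Q, hQ⟩ := exists_syl q X
  exact ⟨Q, hQ, (Msigma_setI_mmax_central hM hH hq (hd.trans (card_dvd (hX.trans inf_le_left)))
    (b1 q hq hd) (hd.trans (card_dvd (hX.trans inf_le_right))) (b2 q hq hd) hne hnc).1 Q
    (hQ.le.trans hX) hQ.pi⟩

theorem cent_le_Ms_inf (hN : N(X) ≤ H) : Ms M ⊓ C(X) ≤ Ms M ⊓ H :=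
  inf_le_inf_left _ ((cent_le_norm X).trans hN)

theorem tau13_pgroup_primact (hM : Mx M) (hp : p ∈ tau1 M ∪ tau3 M) (hP : PG p P)
    (hle : P ≤ M) : Semiprime (Ms M) P := semiprime_of_el1 fun q X hX => le_of_w fun hw => by
  obtain ⟨H, hH, hN⟩ := exists_mmax_norm hX.ne_bot hw
  exact (cent_le_Ms_inf hN).trans (cents_symm ((cent_norm_tau13_mmax
    ((hP.of_le hX.le).mem_of_ne_bot hX.ne_bot hw) hM hp (hX.le.trans hle)
    (hP.of_le hX.le) hH hN).1 P (le_inf hle (le_normalizer.trans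
      ((cyc_norm (tau13_cyclic hM hp hP hle) hX.le).trans hN))) hP))

/-- 13.3(a) -/
theorem cyclic_primact_Msigma (hM : Mx M) (hE : Hall (sigma M)ᶜ E M) (hP : Syl p P E)
    (hc : Cyc P) : Semiprime (Ms M) P := by
  by_cases h : P = ⊥
  · exact h ▸ semireg_bot_right.semiprime
  have hpp := hP.pi.prime_of_ne_bot h
  have hd := (hP.pi.dvd_of_ne_bot h).trans (card_dvd hP.le)
  refine tau13_pgroup_primact hM ?_ hP.pi (hP.le.trans hE.le)
  rcases tau_of_dvd hM hE hpp hd with e | e | e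
  · exact Or.inl e
  · have := cyc_prk hc p
    rw [hP.prk_syl, (tau2E hE).1 e] at this; omega
  · exact Or.inr e

/-- 13.3(b) -/
theorem tau3_primact_Msigma (hM : Mx M) (hE : Hall (sigma M)ᶜ E M) (h3 : Hall (tau3 M) E3 E) :
    Semiprime (Ms M) E3 := semiprime_of_el1 fun q X hX => le_of_w fun hw => by
  obtain ⟨a1, a2, a3⟩ := tau3_compl hM hE h3
  obtain ⟨H, hH, hN⟩ := exists_mmax_norm hX.ne_bot hw
  have hEH := a2.norm.trans ((cyc_norm a3 hX.le).trans hN)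
  exact (cent_le_Ms_inf hN).trans (cents_symm ((cent_norm_tau13_mmax (hX.self.mem_pi hw) hM (Or.inr (hX.mem_pi h3.pi))
    (hX.le.trans (h3.le.trans hE.le)) hX.pg hH hN).2.1 E3 (le_inf (h3.le.trans hE.le)
      (h3.le.trans hEH)) (hE.pi.of_le h3.le) fun r _ hd e =>
        (mem_tau1.1 e).2.2 (hd.trans (card_dvd (a1.trans (der_mono hEH))))))

instance inst_B13_1 : B13_1 G where
  Msigma_setI_mmax_central := Msigma_setI_mmax_central
  cent_norm_tau13_mmax := cent_norm_tau13_mmax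
  cyclic_primact_Msigma := cyclic_primact_Msigma
  tau3_primact_Msigma := tau3_primact_Msigma

theorem cent_tau1Elem_aux (hM : Mx M) (hp : p ∈ tau1 M) (hP : El p 1 P M) (hR : El r 1 R M)
    (hr : r ∉ sigma M) (hRP : R ≤ C(P)) (hS : PG q S) (hle : S ≤ Ms M ⊓ C(P)) (hn : R ≤ N(S))
    (hc : ¬ S ≤ C(R)) :
    q ∉ alpha M ∧ r ∈ tau1 M ∧ Ma M ⊓ C(R) ≠ ⊥ ∧ Ma M ⊓ C(⁅S, R⁆ ⊔ R) = ⊥ := by
  have hw : p ∈ vw G := hP.self.mem_pi (w_of_not_le fun e => hc (hle.trans e))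
  obtain ⟨H, hH, hN⟩ := exists_mmax_norm hP.ne_bot (hP.pi hw)
  have hnc := mmax_norm_notJ hw hM hH hP.pg hP.le hN (Or.inr (Or.inl hp))
  have hne := ne_of_not_cjg hnc
  have hCH := (cent_le_norm P).trans hN
  have hS1 := hle.trans (cent_le_Ms_inf hN)
  have hSM := hle.trans (inf_le_left.trans (Ms_le M))
  have hR1 := le_inf hR.le (hRP.trans hCH)
  have h1 : ⁅S, R⁆ ≠ ⊥ := fun e => hc (commg_eq_bot.1 e)
  have hQS := commg_le_left hn
  have hq := (hS.of_le hQS).mem_of_ne_bot h1 ((Ms_pi M).of_le (hQS.trans (hle.trans inf_le_left)))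
  have hqr : q ≠ r := fun e => hr (e ▸ hq)
  obtain ⟨-, a1, a2⟩ := cent_norm_tau13_mmax hw hM (Or.inl hp) hP.le hP.pg hH hN
  obtain ⟨a3, a4⟩ := a2 (ne_bot_mono (commutator_mono hS1 hR1) h1)
  have a5 : r ∈ tau1 H := by_contra fun e =>
    hc (cents_mono (cents_symm (a1 R hR1 (hR.pi hr) (hR.pi e))) hS1 le_rfl)
  have hab : Ab S := by_contra fun e => hne (eq_of_uniq (nonabelian_Uniqueness (sigma_w hq) hS e) hH hM
    (hS1.trans inf_le_right) hSM)
  have hreg := ab_commg_inf_cent hab hn ((hS.sing_ne hqr).coprime' hR.pg)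
  have hPa : P ≤ Ma H := (Malpha_Hall hH).le_Oc (le_normalizer.trans hN)
    (hP.pi (beta_sub_alpha (a4 hp)))
  have hu : UniqMax N(⁅S, R⁆) H := by_contra fun e => hP.ne_bot <| eq_bot_mono
    (le_inf hPa (cents_symm (sup_le (hQS.trans (hle.trans inf_le_right)) hRP)))
    (cent_Malpha_reg_tau1_a (sigma_w hq) hH a5 (hR.of_le (hRP.trans hCH)) (hS.of_le hQS)
      (hQS.trans (hS1.trans inf_le_right)) h1 (commg_normr S R) hreg e (ne_bot_mono hPa hP.ne_bot)
      fun e => (sigma_disjoint hH hM (not_cjg_symm hnc)).1.2 q e hq).2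
  obtain ⟨T, hT, hQT⟩ := (hS.of_le hQS).exists_syl (hQS.trans (le_inf hSM (hS1.trans inf_le_right)))
  obtain ⟨-, -, -, b1, b2⟩ := sigma_subgroup_embedding hM hq (hQS.trans hSM) (hS.of_le hQS) hH hu.le
    hne hT hQT
  have hqH : q ∈ sigma H := by_contra fun e =>
    (hP.of_le (le_inf hP.le (le_normalizer.trans hN))).mem_pi (b2 e).2.2.pi a3
  have hqa : q ∉ alpha M := fun e => (sigma_disjoint hM hH hnc).1.2 q e hqH
  have hr1 := ((b1 hqH).2.1 a5).resolve_right (sigma'_alpha' hM hr)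
  exact ⟨hqa, hr1, cent_Malpha_reg_tau1_a (sigma_w hq) hM hr1 hR (hS.of_le hQS) (hQS.trans hSM) h1
    (commg_normr S R) hreg (fun e => hne (hu.eq e)) (b1 hqH).2.2.2 hqa⟩

theorem cent_tau1Elem_Malpha (hM : Mx M) (hp : p ∈ tau1 M) (hP : El p 1 P M)
    (hR : El r 1 R M) (hr : r ∉ sigma M) (hRP : R ≤ C(P)) : Ma M ⊓ C(P) ≤ C(R) :=
  le_of_inv_syl (norms_inf (hR.le.trans (Oc_norm _ _)) (norms_cent (norms_of_cents hRP)))
    (((Oc_pi _ _).infl _).coprime (hR.pi (sigma'_alpha' hM hr))) (Or.inl (sol_of_ab hR.comm))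
    fun q _ hq hd hS hn => by_contra fun e => (cent_tau1Elem_aux hM hp hP hR hr hRP hS.pi
      (hS.le.trans (inf_le_inf_right _ (Malpha_sub_Msigma hM))) hn e).1 ((Oc_pi _ _).infl _ q hq hd)

/-- 13.4 -/
theorem cent_tau1Elem_Msigma (hM : Mx M) (hp : p ∈ tau1 M) (hP : El p 1 P M)
    (hR : El r 1 R M) (hr : r ∉ sigma M) (hRP : R ≤ C(P)) : Ms M ⊓ C(P) ≤ C(R) :=
  le_of_inv_syl (norms_inf (hR.le.trans (Ms_norm _)) (norms_cent (norms_of_cents hRP)))
    (((Ms_pi M).infl _).coprime (hR.pi hr)) (Or.inl (sol_of_ab hR.comm))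
    fun q S _ _ hS hn => by_contra fun e => by
      obtain ⟨-, a1, a2, a3⟩ := cent_tau1Elem_aux hM hp hP hR hr hRP hS.pi hS.le hn e
      have b1 := cent_tau1Elem_Malpha hM hp hP hR hr hRP
      have b2 := cent_tau1Elem_Malpha hM a1 hR hP (tau1_sigma' hp) (cents_symm hRP)
      have b3 : ⁅S, R⁆ ≤ C(Ma M ⊓ C(P)) := (commutator_mono le_rfl (cents_symm b1)).trans
        (commg_le_right (norms_cent (norms_inf ((hS.le.trans (inf_le_left.trans (Ms_le M))).trans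
          (Oc_norm _ _)) (norms_cent (norms_of_cents (hS.le.trans inf_le_right))))))
      exact a2 (eq_bot_mono (le_inf inf_le_left (cents_sup
        ((le_inf inf_le_left b2).trans (cents_symm b3)) inf_le_right)) a3)

/-- 13.5 -/
theorem tau1_primact (hM : Mx M) (hle : F ≤ M) (h1 : PiG (tau1 M) F) : Semiprime (Ms M) F :=
  semiprime_of_el1 fun p X hX => cents_symm <| le_of_exists_syl fun r hr hd => by
    obtain ⟨R, hR⟩ := exists_syl r F
    obtain ⟨Y, hY⟩ := exists_el1 hr (hR.sdvd_card hr hd)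
    have hr1 := h1 r hr hd
    have := cent_tau1Elem_Msigma hM (hX.mem_pi h1) (hX.mono hle) (hY.mono (hR.le.trans hle))
      (tau1_sigma' hr1) (cents_of_comm (comm_of_cyclic (tau1_cyclic hM hle h1)) (hY.le.trans hR.le) hX.le)
    exact ⟨R, hR, cents_symm ((le_inf inf_le_left this).trans (((tau13_pgroup_primact hM (Or.inl hr1)
      hR.pi (hR.le.trans hle)).cent hY.le hY.ne_bot).le.trans inf_le_right))⟩

theorem exists_tau2_el (hE : Hall (sigma M)ᶜ E M) (h2 : Hall (tau2 M) E2 E) (h : E2 ≠ ⊥) :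
    ∃ p A, p ∈ tau2 M ∧ El p 2 A E :=
  let ⟨p, hp, hd⟩ := exists_prime_dvd_card h
  let ⟨A, hA⟩ := ex_tau2Elem hE (h2.pi p hp hd); ⟨p, A, h2.pi p hp hd, hA⟩

theorem SigmaCompl.sup_eq (hM : Mx M) (h : SigmaCompl M E E1 E2 E3) (h2 : E2 = ⊥) :
    Sdprod E3 E1 E := by
  simpa [h2] using (sigma_compl_context hM h).2.2.2.1.2.1

/-- 13.6 -/
theorem cent_cent_Msigma_tau1_uniq (hM : Mx M) (hle : P ≤ M) (hP : PiG (tau1 M) P)
    (h1 : P ≠ ⊥) (hX : El q 1 X (Ms M)) (hXP : X ≤ C(P)) :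
    UniqMax C(X) M ∧ ∀ S, Syl q S (Ms M) → UniqMax S M := by
  refine cent_der_sigma_uniq hM (hX.mono (Ms_le M)) (or_iff_not_imp_left.2 fun hb => ?_)
  obtain ⟨E, hE, hPE⟩ := ex_sigma_compl hM hle (hP.mono fun _ => tau1_sigma')
  obtain ⟨E1, E2, E3, hc, hPE1⟩ := ex_tau1_compl hM hE hPE hP
  have hE1M := hc.hall1.le.trans hE.le
  have hpr := tau1_primact hM hE1M hc.hall1.pi
  have hXE := (le_inf hX.le hXP).trans ((hpr.cent hPE1 h1).le.trans inf_le_right)
  obtain ⟨W, hW, hWc⟩ := der_compl_cent_beta' hM hE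
  have n1 := hE1M.trans (Ms_norm M)
  have hcop := cop_Ms (hE.pi.of_le hc.hall1.le)
  have hs : Sol E1 := mmax_sub_sol hM hE1M
  obtain ⟨S, hS, hn⟩ := inv_syl_exists q (norms_inf n1 (norms_cent (hc.hall1.le.trans
    (der_normal E).norm))) (hcop.coprime_dvd_left (card_dvd inf_le_left)) (Or.inl hs)
  obtain ⟨c, hc1, h⟩ := inv_syl_le_cj n1 hcop (Or.inl hs) hX.le (norms_of_cents (cents_symm hXE)) hX.pg
    (hS.of_idx inf_le_left ((hW.idx.dvd (relIndex_dvd_left (le_inf hW.le (cents_symm hWc)) _)).compl_sing'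
      hb)) hn
  rw [le_cj_iff] at h
  have hY := hX.Jle c⁻¹ (cj_le_of_mem (inv_mem hc1.1) hX.le)
  have hY1 : cj c⁻¹ X ≤ C(E1) := cj_le_of_mem (inv_mem hc1.2) hXE
  have hY2 := h.trans (hS.le.trans inf_le_right)
  generalize hd : cj c⁻¹ X = Y at hY hY1 hY2
  rw [cj_eq_iff, inv_inv] at hd
  by_cases h2 : E2 = ⊥
  · rw [hd]
    refine cj_le_of_mem_norm ((der_normal _).norm hc1.1) ((le_inf hY.le ?_).trans
      (sigma_compl_embedding hM hE).1)
    rw [← (hc.sup_eq hM h2).sup]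
    exact cents_sup (hY2.trans (cent_mono (tau3_compl hM hE hc.hall3).1)) hY1
  obtain ⟨p, A, hp, hA⟩ := exists_tau2_el hE hc.hall2 h2
  refine absurd (eq_bot_mono (le_inf hY.le ?_) (tau2_cent_eq_bot hM hp (hA.mono hE.le))) hY.ne_bot
  obtain ⟨r, R, hR⟩ := exists_el1' (ne_bot_mono hPE1 h1)
  rw [← (ab_cent_dprod hA.comm (hc.hall1.le.trans (tau2_normal hM hE hA).norm)
    ((hA.pi hp).coprime (hc.hall1.pi.mono fun _ => tau1_tau2'))).sup]
  refine cents_sup (cents_symm ?_) (hY2.trans (cent_mono (commutator_mono hA.le hc.hall1.le)))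
  obtain ⟨n, hB⟩ := abelem_el hA.prime (abelem_mono hA.ab inf_le_left) (le_refl (A ⊓ C(E1)))
  refine hB.le_of_el1 fun Z hZ => cents_symm ((le_inf hY.le (hY1.trans (cent_mono hR.le))).trans
    (cent_tau1Elem_Msigma hM (hR.mem_pi hc.hall1.pi) (hR.mono hE1M)
      (hZ.mono (inf_le_left.trans (hA.le.trans hE.le))) (tau2_sigma' hp)
      (hZ.le.trans (inf_le_right.trans (cent_mono hR.le)))))

/-- 13.7 -/
theorem tau13_primact_Msigma (hM : Mx M) (h : SigmaCompl M E E1 E2 E3)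
    (hnr : ¬ Semireg E3 E1) : Semiprime (Ms M) (E3 ⊔ E1) := by
  obtain ⟨p, P, hP, h1⟩ := exists_el1_of_not_semireg hnr
  obtain ⟨r, R, hR⟩ := exists_el1' h1
  have hE := h.hall
  have hE1M := h.hall1.le.trans hE.le
  have hE3M := h.hall3.le.trans hE.le
  have hp1 := tau1_primact hM hE1M h.hall1.pi
  have hp3 := tau3_primact_Msigma hM hE h.hall3
  have hR3 := hR.mono inf_le_left
  have hr := hR3.mem_pi h.hall3.pi
  obtain ⟨-, a2, a3⟩ := tau3_compl hM hE h.hall3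
  have e : Ms M ⊓ C(E1) = Ms M ⊓ C(E3) := by
    rw [← hp3.cent hR3.le hR.ne_bot]
    refine le_antisymm (hp1.cent hP.le hP.ne_bot ▸ le_inf inf_le_left (cent_tau1Elem_Msigma hM
      (hP.mem_pi h.hall1.pi) (hP.mono hE1M) (hR3.mono hE3M) (tau3_sigma' hr)
      (hR.le.trans inf_le_right))) (le_inf inf_le_left (by_contra fun hc => ?_))
    have h2 : E2 = ⊥ := by_contra fun e =>
      let ⟨_, _, hq, hA⟩ := exists_tau2_el hE h.hall2 e
      hc (((tau2_regular hM h hq hA).2.1.cent hR3.le hR.ne_bot).le.trans bot_le)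
    have hw : r ∈ vw G := hR.self.mem_pi (w_of_not_le hc)
    obtain ⟨H, hH, hN⟩ := exists_mmax_norm hR.ne_bot (hR.pi hw)
    have hEH := a2.norm.trans ((cyc_norm a3 hR3.le).trans hN)
    obtain ⟨-, b1, b2⟩ := cent_norm_tau13_mmax hw hM (Or.inr hr) (hR3.le.trans hE3M) hR.pg hH hN
    have b3 := (b2 fun e => hc ((cent_le_Ms_inf hN).trans ((commg_eq_bot.1 e).trans
      (cent_mono (le_inf hE1M (h.hall1.le.trans hEH)))))).1
    have b4 : PiG (tau1 H) E1 := fun q hq hd => by_contra fun e => by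
      obtain ⟨X, hX⟩ := exists_el1 hq hd
      have := b1 X (hX.le.trans (le_inf hE1M (h.hall1.le.trans hEH)))
        (hE.pi.of_le (hX.le.trans h.hall1.le)) (hX.pi e)
      exact hc ((le_inf inf_le_left ((cent_le_Ms_inf hN).trans (cents_symm this))).trans
        ((hp1.cent hX.le hX.ne_bot).le.trans inf_le_right))
    have b5 := (le_inf (le_Msigma hH (le_normalizer.trans hN) (hR.pi b3))
      (hR.le.trans inf_le_right)).trans
      ((tau1_primact hH (h.hall1.le.trans hEH) b4).cent hP.le hP.ne_bot).le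
    refine hR.ne_bot (eq_bot_mono (le_inf hR3.le ?_) (sigma_compl_context hM h).2.2.2.2)
    rw [← (h.sup_eq hM h2).sup]
    exact cents_sup (cents_of_comm (comm_of_cyclic a3) hR3.le le_rfl) (b5.trans inf_le_right)
  have hn := h.hall1.le.trans a2.norm
  have key : Ms M ⊓ C(E3) ≤ C(E3 ⊔ E1) := cents_sup inf_le_right (e.ge.trans inf_le_right)
  refine semiprime_of_el1 fun q X hX => le_trans ?_ key
  by_cases hq : q ∈ tau3 M
  · exact (hp3.cent (h.hall3.le_of_normal a2.norm (hX.le.trans (sup_le h.hall3.le h.hall1.le))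
      (hX.pi hq)) hX.ne_bot).le
  obtain ⟨k, hk, hle⟩ := exists_cj_le_of_le_sup hn hX.le (h.hall3.pi.coprime (hX.pi hq))
    (Or.inl (sol_of_ab hX.comm))
  have := (hp1.cent hle (hX.J k).ne_bot).trans e
  rw [← cj_cent, ← cj_of_mem_norm (Ms_norm M (hE3M hk)), ← cj_inf, cj_of_mem_norm (Ms_norm M (hE3M hk)),
    cj_eq_iff, cj_of_mem_norm (inv_mem (norms_inf (hE3M.trans (Ms_norm M))
      (norms_cent le_normalizer) hk))] at this
  exact this.le

instance inst_B13_4 : B13_4 G where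
  cent_tau1Elem_Msigma hM hE hp hP hR := cent_tau1Elem_Msigma hM hp (hP.mono hE.le) (hR.mono hE.le)
    (hR.mem_pi hE.pi)
  tau1_primact_Msigma hM hE h1 := tau1_primact hM (h1.le.trans hE.le) h1.pi
  cent_cent_Msigma_tau1_uniq := cent_cent_Msigma_tau1_uniq
  tau13_primact_Msigma := tau13_primact_Msigma

end

end H13.V
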