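/-
Port of `H17/B14b` to the `ϖ`-local setting.
-/
import Cfsg.Agent.H13.V14a

set_option autoImplicit false
set_option linter.unusedSectionVars false

namespace H13.V
section
open H17 H17.S14
open Cfsg Subgroup H18 H2.BG
open H19 hiding eq_bot_mono

attribute [-instance] H18.fintypeSubgroup
universe u
variable {G : Type u} [Group G] [Finite G] [VS G] {π : Set ℕ} {p q : ℕ}
  {A E H K L M P Q R S U X Y Mstar : Subgroup G} {g x y r s : G}

theorem cj_mem_sigMax (hM : M ∈ sigMax x) (hg : g ∈ C[x]) : cj g M ∈ sigMax x := by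
  have := (mem_sigMax_cj (g := g)).2 hM
  rwa [mem_cent1.1 hg, mul_inv_cancel_right] at this

theorem ncard_sigMax_conj (g x : G) : (sigMax (g * x * g⁻¹)).ncard = (sigMax x).ncard := by
  have : sigMax (g * x * g⁻¹) = cj g '' sigMax x := by
    ext L
    constructor
    · intro h
      exact ⟨cj g⁻¹ L, mem_sigMax_cj.1 (by rwa [cj_cj_inv]), cj_cj_inv g L⟩
    · rintro ⟨L, h, rfl⟩
      exact mem_sigMax_cj.2 h
  rw [this, Set.ncard_image_of_injective _ fun a b => cj_inj.1]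

theorem sigR_of_not (h : ¬ 1 < (sigMax x).ncard) : sigR x = ⊥ := by rw [sigR, if_neg h]

theorem sigR_of_lt (h : 1 < (sigMax x).ncard) : sigR x = Ms (sigN x) ⊓ C[x] := by
  rw [sigR, if_pos h]

theorem lt_of_mem_sigR (hr : r ∈ sigR x) (h1 : r ≠ 1) : 1 < (sigMax x).ncard := by
  by_contra h
  rw [sigR_of_not h] at hr
  exact h1 hr

theorem sigR_le (x : G) : sigR x ≤ C[x] := by
  unfold sigR; split_ifs
  exacts [inf_le_right, bot_le]

theorem sigN_eq (h : UniqMax C[x] L) : sigN x = L := by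
  have hx : ∃ L : Subgroup G, Mx L ∧ C[x] ≤ L := ⟨L, h.max, h.le⟩
  rw [sigN, dif_pos hx]
  exact h.uniq _ hx.choose_spec.1 hx.choose_spec.2

theorem eq_of_not_lt (h : ¬ 1 < (sigMax x).ncard) (h1 : M ∈ sigMax x) (h2 : L ∈ sigMax x) :
    M = L := by
  by_contra hne
  exact h ((Set.one_lt_ncard_iff (Set.toFinite _)).2 ⟨M, L, h1, h2, hne⟩)

variable [Gen.{u}] [U79 G] [B12_12 G] [B12_13 G] [B12_15 G] [B12_18 G] [B13 G]

theorem cjg_of_sigma (hM : Mx M) (hL : Mx L) (h1 : p ∈ sigma M) (h2 : p ∈ sigma L) :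
    Cjg M L := by
  by_contra h
  exact B13_8.sigma_partition hM hL h p h1 h2

theorem pi_s'_of_not_cjg {n : ℕ} (hM : Mx M) (hL : Mx L) (h : ¬ Cjg M L)
    (hn : PiN (sigma M) n) : PiN (sigma L)ᶜ n := hn.mono (B13_8.sigma_partition hM hL h)

theorem cjg_of_pi {n : ℕ} (hM : Mx M) (hL : Mx L) (h1 : PiN (sigma M) n)
    (h2 : PiN (sigma L) n) (hn : n ≠ 1) : Cjg M L := by
  by_contra h
  exact hn ((h2.eq_one (pi_s'_of_not_cjg hM hL h h1)))

theorem cjg_of_elt (hM : Mx M) (hL : Mx L) (h1 : PiE (sigma M) x)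
    (h2 : PiE (sigma L) x) (hx : x ≠ 1) : Cjg M L :=
  cjg_of_pi hM hL h1 h2 (by simpa using hx)

theorem sigMax_cjg (hx : x ≠ 1) (h1 : M ∈ sigMax x) (h2 : L ∈ sigMax x) : Cjg M L :=
  cjg_of_elt h1.1 h2.1 ((Ms_pi M).elt h1.2) ((Ms_pi L).elt h2.2) hx

theorem cent_le_of_not_lt (h : ¬ 1 < (sigMax x).ncard) (hM : M ∈ sigMax x) : C[x] ≤ M :=
  fun _ hg => mem_of_cj_eq hM.1 (eq_of_not_lt h (cj_mem_sigMax hM hg) hM)

theorem sig_core (hx1 : x ≠ 1) (h : 1 < (sigMax x).ncard) :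
    ∃ N, UniqMax C[x] N ∧ Ms N ⊓ C[x] ≠ ⊥ ∧ PiE (tau2 N) x ∧
      (∀ M ∈ sigMax x, ¬ Cjg M N ∧ tau2 N ⊆ sigma M ∧ (∀ p ∈ sigma N, p ∣ #M → p ∈ beta N) ∧
        Hall (sigma N)ᶜ (M ⊓ N) N) ∧
      ∀ L1 ∈ sigMax x, ∀ L2 ∈ sigMax x, ∃ r ∈ Ms N ⊓ C[x], cj r L1 = L2 := by
  obtain ⟨q, X, hX⟩ := exists_el1_zpowers hx1
  have hw : q ∈ vw G := by
    obtain ⟨M, -, hM, -⟩ := (Set.one_lt_ncard_iff (Set.toFinite _)).1 h
    exact hX.mem_pi ((Ms_w M).of_le (zpowers_le.2 hM.2))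
  obtain ⟨N, hN, hXN⟩ := mmax_exists (hX.vnorm hw)
  have hCX : C(X) ≤ N := (cent_le_norm X).trans hXN
  have hCx : C[x] ≤ N := by rw [← cent_zpowers]; exact (cent_mono hX.le).trans hCX
  have hxN : x ∈ N := hCx (mem_cent1_self x)
  have hXs : ∀ L ∈ sigMax x, X ≤ Ms L := fun L hL => hX.le.trans (zpowers_le.2 hL.2)
  have hqs : ∀ L ∈ sigMax x, q ∈ sigma L := fun L hL => (hX.of_le (hXs L hL)).mem_pi (Ms_pi L)
  have part : ∀ L ∈ sigMax x, ¬ Cjg L N ∧ q ∈ tau2 N ∧ (∀ p ∈ sigma N, p ∣ #L → p ∈ beta N) ∧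
      Hall (sigma N)ᶜ (L ⊓ N) N := fun L hL => by
    have hXL := (hXs L hL).trans (Ms_le L)
    have hne : N ≠ L := by
      rintro rfl
      obtain ⟨H, hH, hne⟩ := Set.exists_ne_of_one_lt_ncard h N
      obtain ⟨c, hc, e⟩ := sigma_trans_aux hN (hqs N hL) X hX.pg N H (Cjg.refl N)
        (sigMax_cjg hx1 hL hH) hXL ((hXs H hH).trans (Ms_le H))
      exact hne (by rw [← e, cj_of_mem (hCX hc)])
    obtain ⟨S, hS, hXS⟩ := hX.pg.exists_syl (le_inf hXL ((norms_of_le le_rfl).trans hXN))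
    obtain ⟨hnc, -, -, -, h'⟩ :=
      B12_15.sigma_subgroup_embedding hL.1 (hqs L hL) hXL hX.pg hN hXN hne hS hXS
    exact ⟨hnc, h' (B13_8.sigma_partition hL.1 hN hnc q (hqs L hL))⟩
  have nA : ∀ L ∈ sigMax x, ∀ A, El q 2 A (L ⊓ N) → N(A) ≤ L := fun L hL A hA =>
    norm_noncyclic_sigma hL.1 (hqs L hL) hA.pg (hA.le.trans inf_le_left) hA.not_cyc
  have trans : ∀ L1 ∈ sigMax x, ∀ L2 ∈ sigMax x, ∃ r ∈ Ms N ⊓ C[x], cj r L1 = L2 := by
    intro L1 h1 L2 h2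
    obtain ⟨-, t2, -, H1⟩ := part L1 h1
    obtain ⟨-, -, -, H2⟩ := part L2 h2
    have sd1 := sdprod_sigma hN H1
    obtain ⟨g, hg, e⟩ := H1.conj H2 (mmax_sol hN)
    obtain ⟨u, hu, b, hb, rfl⟩ := sd1.mem hg
    rw [cj_mul, cj_of_mem hb] at e
    obtain ⟨A, hA⟩ := ex_tau2Elem H1 t2
    have hA2 : El q 2 (cj u A) (L2 ⊓ N) := e ▸ hA.J u
    have e2 : cj u L1 = L2 := by
      by_contra hne
      refine mmax_norm_notJ hw (coatom_J h1.1 u) h2.1 hA2.pg (cj_mono u (hA.le.trans inf_le_left))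
        (nA L2 h2 _ hA2) (Or.inl ⟨by rw [sigma_cj]; exact hqs L1 h1, hne⟩) ?_
      exact (cjg_cj u L1).symm.trans (sigMax_cjg hx1 h1 h2)
    refine ⟨u, ⟨hu, ?_⟩, e2⟩
    have a1 : u * x * u⁻¹ * x⁻¹ ∈ L2 ⊓ N := by
      refine mul_mem ?_ (inv_mem (mem_inf.2 ⟨Ms_le _ h2.2, hxN⟩))
      rw [← e]
      exact conj_mem_cj.2 (mem_inf.2 ⟨Ms_le _ h1.2, hxN⟩)
    have a2 : u * x * u⁻¹ * x⁻¹ ∈ Ms N := by
      have := mul_mem hu ((Ms_normal N).conj_mem hxN (inv_mem hu))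
      simpa only [mul_assoc] using this
    have : u * x * u⁻¹ * x⁻¹ ∈ (⊥ : Subgroup G) := (sdprod_sigma hN H2).inf ▸ mem_inf.2 ⟨a2, a1⟩
    rw [mem_bot, mul_inv_eq_one, mul_inv_eq_iff_eq_mul] at this
    exact mem_cent1.2 this
  obtain ⟨M, L, hM, hL, hne⟩ := (Set.one_lt_ncard_iff (Set.toFinite _)).1 h
  obtain ⟨r, hr, e⟩ := trans M hM L hL
  have hr1 : r ≠ 1 := by rintro rfl; exact hne (by rw [← e, cj_one])
  obtain ⟨nc, t2, -⟩ := part M hM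
  rcases pi_of_cent_sigma hN hr.1 hr1 ⟨hxN, mem_cent1_symm.1 hr.2⟩ hx1
    (pi_s'_of_not_cjg hM.1 hN nc ((Ms_pi M).elt hM.2)) with h' | h'
  · exact absurd t2 (kap_tau2' (hX.mem_pi (piG_zpowers.2 h'.1)))
  refine ⟨N, h'.2.2, ne_bot_of_mem hr hr1, h'.1, fun L hL => ?_, trans⟩
  obtain ⟨a, -, b, c⟩ := part L hL
  refine ⟨a, fun p hp => ?_, b, c⟩
  obtain ⟨A, hA⟩ := ex_tau2Elem c t2
  exact (tau2_sigma_of_norm hN c hA hL.1 (nA L hL A hA) hp).1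

theorem FT_signalizer_context (hx : Ell1 x) (h : 1 < (sigMax x).ncard) :
    UniqMax C[x] (sigN x) ∧ sigR x ≠ ⊥ ∧ PiE (tau2 (sigN x)) x ∧
      (TypeF (sigN x) ∨ TypeP2 (sigN x)) ∧
      ∀ M ∈ sigMax x, ¬ Cjg M (sigN x) ∧ tau2 (sigN x) ⊆ sigma M ∧
        (∀ p ∈ sigma (sigN x), p ∣ #M → p ∈ beta (sigN x)) ∧
        Hall (sigma (sigN x))ᶜ (M ⊓ sigN x) (sigN x) := by
  obtain ⟨N, hu, h1, t2, hM, -⟩ := sig_core hx.1 h
  rw [sigR_of_lt h, sigN_eq hu]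
  refine ⟨hu, h1, t2, (typeF_or_typeP hu.max).imp_right fun hP => ⟨hP, fun hp => ?_⟩, hM⟩
  obtain ⟨p, hp', hd⟩ := exists_prime_dvd_orderOf hx.1
  have := t2 p hp' hd
  rcases hp p hp' (tau2_dvd this) with h | h
  exacts [tau2_sigma' this h, kap_tau2' h this]

theorem sigR_trans (hx : x ≠ 1) (h1 : M ∈ sigMax x) (h2 : L ∈ sigMax x) :
    ∃ r ∈ sigR x, cj r M = L := by
  by_cases h : 1 < (sigMax x).ncard
  · obtain ⟨N, hu, -, -, -, tr⟩ := sig_core hx h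
    rw [sigR_of_lt h, sigN_eq hu]
    exact tr M h1 L h2
  · exact ⟨1, one_mem _, by rw [cj_one, eq_of_not_lt h h1 h2]⟩

theorem sigR_sdprod (hx : x ≠ 1) (hM : M ∈ sigMax x) : Sdprod (sigR x) (M ⊓ C[x]) C[x] := by
  by_cases h : 1 < (sigMax x).ncard
  · obtain ⟨hu, -, -, -, hall⟩ := FT_signalizer_context (ell1_of_mem hM hx) h
    have sd := sdprod_sigma hu.max (hall M hM).2.2.2
    have hxN := hu.le (mem_cent1_self x)
    have e : M ⊓ C[x] = M ⊓ sigN x ⊓ C[x] := by rw [inf_assoc, inf_eq_right.2 hu.le]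
    rw [sigR_of_lt h]
    refine ⟨norms_inf ((Ms_normal _).norms (inf_le_right.trans hu.le)) (norms_of_le inf_le_right),
      ?_, H19.eq_bot_mono (inf_le_inf inf_le_left (e.le.trans inf_le_left)) sd.inf⟩
    rw [e, ← cent_zpowers, ← sup_inf_cent_of_disjoint ((Ms_normal _).norms (zpowers_le.2 hxN))
      (norms_of_le (zpowers_le.2 (mem_inf.2 ⟨Ms_le _ hM.2, hxN⟩))) sd.norm sd.inf, sd.sup,
      cent_zpowers, inf_eq_right.2 hu.le]
  · rw [sigR_of_not h, inf_eq_right.2 (cent_le_of_not_lt h hM)]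
    exact ⟨by rw [norm_bot]; exact le_top, bot_sup_eq _, bot_inf_eq _⟩

theorem sigR_inf (hx : x ≠ 1) (hM : M ∈ sigMax x) : sigR x ⊓ M = ⊥ :=
  H19.eq_bot_mono (le_inf inf_le_left (le_inf inf_le_right (inf_le_left.trans (sigR_le x))))
    (sigR_sdprod hx hM).inf

theorem card_sigR (hx : Ell1 x) : #(sigR x) = (sigMax x).ncard := by
  obtain ⟨M, hM⟩ := Ell1.exists_mem hx
  rw [← ncard_orbit_of_free (M := M) (by rw [norm_mmax hM.1, sigR_inf hx.1 hM])]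
  congr 1
  ext L
  exact ⟨fun ⟨r, hr, e⟩ => e ▸ cj_mem_sigMax hM (sigR_le x hr), fun h => sigR_trans hx.1 hM h⟩

theorem cent_le_iff (hx : x ≠ 1) (hM : M ∈ sigMax x) : C[x] ≤ M ↔ ¬ 1 < (sigMax x).ncard := by
  refine ⟨fun h hlt => ?_, fun h => cent_le_of_not_lt h hM⟩
  obtain ⟨L, hL, hne⟩ := Set.exists_ne_of_one_lt_ncard hlt M
  obtain ⟨r, hr, e⟩ := sigR_trans hx hM hL
  exact hne (by rw [← e, cj_of_mem (h (sigR_le x hr))])

theorem sigR_hall (hx : Ell1 x) (h : 1 < (sigMax x).ncard) :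
    Hall (sigma (sigN x)) (sigR x) C[x] := by
  obtain ⟨hu, -⟩ := FT_signalizer_context hx h
  rw [sigR_of_lt h]
  exact (Msigma_Hall hu.max).inf_of_norm' hu.le ((Ms_normal _).norms hu.le)

theorem FT_signalizerJ (hx : Ell1 x) (g : G) : sigR (g * x * g⁻¹) = cj g (sigR x) := by
  by_cases h : 1 < (sigMax x).ncard
  · obtain ⟨hu, -⟩ := FT_signalizer_context hx h
    have := hu.J g
    rw [cj_cent1] at this
    rw [sigR_of_lt h, sigR_of_lt (by rwa [ncard_sigMax_conj]), sigN_eq this, cj_inf, Ms_cj,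
      cj_cent1]
  · rw [sigR_of_not h, sigR_of_not (by rwa [ncard_sigMax_conj]), cj_bot]

instance inst_B14_4 : B14_4 G where
  FT_signalizer_trans {x} hx := by
    obtain ⟨M, hM⟩ := Ell1.exists_mem hx
    refine ⟨fun L1 h1 L2 h2 => sigR_trans hx.1 h1 h2, card_sigR hx, (sigR_sdprod hx.1 hM).normal,
      ?_, fun L hL => ⟨sigR_sdprod hx.1 hL, cent_le_iff hx.1 hL⟩⟩
    by_cases h : 1 < (sigMax x).ncard
    · exact (sigR_hall hx h).coprime
    · simp [sigR_of_not h]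
  FT_signalizer_context := FT_signalizer_context
  FT_signalizerJ := FT_signalizerJ

theorem sigR_s' (hx : x ≠ 1) (hM : M ∈ sigMax x) (hr : r ∈ sigR x) : PiE (sigma M)ᶜ r := by
  by_cases h1 : r = 1
  · exact h1 ▸ PiN.e_one
  have h := lt_of_mem_sigR hr h1
  obtain ⟨hu, -, -, -, hall⟩ := FT_signalizer_context (ell1_of_mem hM hx) h
  rw [sigR_of_lt h] at hr
  exact pi_s'_of_not_cjg hu.max hM.1 (not_cjg_symm (hall M hM).1) ((Ms_pi _).elt hr.1)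

theorem sigR_comm (hr : r ∈ sigR x) : x * r = r * x := (mem_cent1.1 (sigR_le x hr)).symm

theorem sigN_mem_sigMax (hx : Ell1 x) (hr : r ∈ sigR x) (h1 : r ≠ 1) : sigN x ∈ sigMax r := by
  have h := lt_of_mem_sigR hr h1
  rw [sigR_of_lt h] at hr
  exact ⟨(FT_signalizer_context hx h).1.max, hr.1⟩

/-- the σ-decomposition of `x r`, `r ∈ R(x)`, is `{x, r}` -/
theorem sig_decomp (hx : Ell1 x) (hr : r ∈ sigR x) (hL : Mx L) (hy : PiE (sigma L) y)
    (hy1 : y ≠ 1) (hs : PiE (sigma L)ᶜ s) (hc : y * s = s * y) (e : x * r = y * s) :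
    y = x ∨ y = r := by
  obtain ⟨M, hM⟩ := Ell1.exists_mem hx
  have e1 : constt (sigma L) (x * r) = y := by rw [e, constt_eq hy hs hc]
  have hxM := (Ms_pi M).elt hM.2
  by_cases h : Cjg M L
  · left
    rw [h.vsigma_eq, constt_eq hxM (sigR_s' hx.1 hM hr) (sigR_comm hr)] at e1
    exact e1.symm
  have hxL := pi_s'_of_not_cjg hM.1 hL h hxM
  right
  by_cases h' : PiE (sigma L)ᶜ r
  · rw [constt_of_pi' (hxL.e_mul h' (sigR_comm hr))] at e1
    exact absurd e1.symm hy1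
  have r1 : r ≠ 1 := by rintro rfl; exact h' PiN.e_one
  have hN := sigN_mem_sigMax hx hr r1
  have hrN := (Ms_pi _).elt hN.2
  have hc' : Cjg (sigN x) L := by
    by_contra hn
    exact h' (pi_s'_of_not_cjg hN.1 hL hn hrN)
  rw [sigR_comm hr, constt_eq (by rwa [hc'.vsigma_eq]) hxL (sigR_comm hr).symm] at e1
  exact e1.symm

/-- 14.5(a) -/
theorem sigma_cover_disjoint (hx : Ell1 x) (hy : Ell1 y) (hr : r ∈ sigR x) (hs : s ∈ sigR y)
    (h : x * r = y * s) : x = y := by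
  obtain ⟨L, hL⟩ := Ell1.exists_mem hy
  rcases sig_decomp hx hr hL.1 ((Ms_pi L).elt hL.2) hy.1 (sigR_s' hy.1 hL hs) (sigR_comm hs) h
    with e | e
  · exact e.symm
  subst e
  rw [sigR_comm hr, mul_right_inj] at h
  subst h
  have hN := sigN_mem_sigMax hy hs hx.1
  have : y ∈ sigR x ⊓ sigN y := ⟨hr, (FT_signalizer_context hy (lt_of_mem_sigR hs hx.1)).1.le
    (mem_cent1_self y)⟩
  rw [sigR_inf hx.1 hN] at this
  exact absurd this hy.1

theorem sigma_cover_ne_one (hx : Ell1 x) (hr : r ∈ sigR x) : x * r ≠ 1 := fun e => by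
  obtain ⟨M, hM⟩ := Ell1.exists_mem hx
  have h := (sigR_s' hx.1 hM hr).e_inv
  rw [← eq_inv_iff_mul_eq_one.2 e] at h
  exact hx.1 (((Ms_pi M).elt hM.2).e_eq_one h)

theorem conj_ne_one (h : x ≠ 1) (g : G) : g * x * g⁻¹ ≠ 1 := by
  simpa [mul_inv_eq_one] using h

theorem sigma_supportJ {a : G} (hM : Mx M) (ha : a ∈ sigSupp M) :
    g * a * g⁻¹ ∈ sigSupp (cj g M) := by
  obtain ⟨x, hx, h1, r, hr, rfl⟩ := ha
  refine ⟨g * x * g⁻¹, by rw [Ms_cj]; exact conj_mem_cj.2 hx, conj_ne_one h1 g, g * r * g⁻¹, ?_,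
    by group⟩
  rw [FT_signalizerJ (ell1_of_mem ⟨hM, hx⟩ h1)]
  exact conj_mem_cj.2 hr

theorem mem_classSupp_sigSupp {z : G} (hM : Mx M) :
    z ∈ classSupp (sigSupp M) ↔ ∃ L, Cjg M L ∧ z ∈ sigSupp L := by
  constructor
  · rintro ⟨a, ha, g, rfl⟩
    exact ⟨_, cjg_cj g M, sigma_supportJ hM ha⟩
  · rintro ⟨L, ⟨g, rfl⟩, hz⟩
    refine ⟨g⁻¹ * z * g⁻¹⁻¹, ?_, g, by group⟩
    have := sigma_supportJ (g := g⁻¹) (coatom_J hM g) hz
    rwa [cj_inv_cj] at this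

theorem cjg_of_mem_sigSupp {z : G} (hM : Mx M) (hL : Mx L) (h1 : z ∈ sigSupp M)
    (h2 : z ∈ sigSupp L) : Cjg M L := by
  obtain ⟨x, hx, hx1, r, hr, rfl⟩ := h1
  obtain ⟨y, hy, hy1, s, hs, e⟩ := h2
  obtain rfl := sigma_cover_disjoint (ell1_of_mem ⟨hM, hx⟩ hx1) (ell1_of_mem ⟨hL, hy⟩ hy1) hr hs e
  exact sigMax_cjg hx1 ⟨hM, hx⟩ ⟨hL, hy⟩

/-- 14.5(b) -/
theorem sigma_support_disjoint (hM : Mx M) (hL : Mx L) (hnc : ¬ Cjg M L) :
    Disjoint (classSupp (sigSupp M)) (classSupp (sigSupp L)) := by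
  rw [Set.disjoint_left]
  intro z h1 h2
  obtain ⟨M', c1, h1⟩ := (mem_classSupp_sigSupp hM).1 h1
  obtain ⟨L', c2, h2⟩ := (mem_classSupp_sigSupp hL).1 h2
  exact hnc ((c1.trans (cjg_of_mem_sigSupp (c1.vmx hM) (c2.vmx hL) h1 h2)).trans c2.symm)

open Finset in
/-- 14.5(c) -/
theorem card_class_support_sigma (hM : Mx M) :
    (classSupp (sigSupp M)).ncard = (#(Ms M) - 1) * M.index := by
  classical
  have := Fintype.ofFinite G
  have := Fintype.ofFinite (Subgroup G)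
  set Cl : Finset (Subgroup G) := univ.filter fun L => Cjg M L with hCl
  set D : Finset G := univ.filter fun x => x ≠ 1 ∧ ∃ L, Cjg M L ∧ x ∈ Ms L with hD
  have ell : ∀ x ∈ D, Ell1 x := fun x hx => by
    obtain ⟨h1, L, c, hL⟩ := (mem_filter.1 hx).2
    exact ell1_of_mem ⟨c.vmx hM, hL⟩ h1
  have e1 : classSupp (sigSupp M) =
      ↑(D.biUnion fun x => (univ.filter fun r => r ∈ sigR x).image fun r => x * r) := by
    ext z
    rw [mem_classSupp_sigSupp hM]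
    simp only [coe_biUnion, Set.mem_iUnion, mem_coe, mem_image, mem_filter, mem_univ, true_and, hD]
    constructor
    · rintro ⟨L, c, x, hx, h1, r, hr, rfl⟩
      exact ⟨x, ⟨h1, L, c, hx⟩, r, hr, rfl⟩
    · rintro ⟨x, ⟨h1, L, c, hx⟩, r, hr, rfl⟩
      exact ⟨L, c, x, hx, h1, r, hr, rfl⟩
  rw [e1, Set.ncard_coe_finset, card_biUnion]
  swap
  · intro x hx y hy hne
    rw [Function.onFun, Finset.disjoint_left]
    intro z h1 h2
    obtain ⟨r, hr, rfl⟩ := mem_image.1 h1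
    obtain ⟨s, hs, e⟩ := mem_image.1 h2
    exact hne (sigma_cover_disjoint (ell x hx) (ell y hy) (mem_filter.1 hr).2 (mem_filter.1 hs).2
      e.symm)
  have e2 : ∀ x ∈ D, ((univ.filter fun r => r ∈ sigR x).image fun r => x * r).card =
      (Cl.bipartiteAbove (fun x L => x ∈ Ms L) x).card := fun x hx => by
    rw [card_image_of_injective _ (mul_right_injective x), ← Fintype.card_subtype,
      ← Nat.card_eq_fintype_card, card_sigR (ell x hx), ← Set.ncard_coe_finset]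
    congr 1
    ext L
    obtain ⟨h1, L', c, hL'⟩ := (mem_filter.1 hx).2
    simp only [coe_bipartiteAbove, hCl, mem_filter, mem_univ, true_and, Set.mem_ofPred_eq]
    exact ⟨fun h => ⟨c.trans (sigMax_cjg h1 ⟨c.vmx hM, hL'⟩ h), h.2⟩,
      fun h => ⟨h.1.vmx hM, h.2⟩⟩
  rw [sum_congr rfl e2, sum_card_bipartiteAbove_eq_sum_card_bipartiteBelow]
  have e3 : ∀ L ∈ Cl, (D.bipartiteBelow (fun x L => x ∈ Ms L) L).card = #(Ms M) - 1 :=
    fun L hL => by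
    have c := (mem_filter.1 hL).2
    have : D.bipartiteBelow (fun x L => x ∈ Ms L) L = (univ.filter fun x => x ∈ Ms L).erase 1 := by
      ext x
      simp only [mem_bipartiteBelow, hD, mem_filter, mem_univ, true_and, mem_erase]
      exact ⟨fun h => ⟨h.1.1, h.2⟩, fun h => ⟨⟨h.1, L, c, h.2⟩, h.2⟩⟩
    rw [this, card_erase_of_mem (by simp), ← Fintype.card_subtype, ← Nat.card_eq_fintype_card]
    obtain ⟨g, rfl⟩ := c
    rw [Ms_cj]
    exact congrArg (· - 1) (card_cj g _)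
  rw [sum_congr rfl e3, sum_const, smul_eq_mul, mul_comm]
  congr 1
  rw [← Set.ncard_coe_finset]
  nth_rewrite 1 [← norm_mmax hM]
  rw [← ncard_cjg]
  congr 1
  ext L
  simp [hCl]

theorem dich_aux (hL : Mx L) (hg : g ∈ L) (h1 : constt (sigma L) g ≠ 1) :
    (∃ x, Ell1 x ∧ x⁻¹ * g ∈ sigR x) ∨
      ∃ y, y ≠ 1 ∧ ∃ M ∈ sigMax y, y⁻¹ * g ∈ M ⊓ C[y] ∧ y⁻¹ * g ≠ 1 ∧ PiE (kap M) (y⁻¹ * g) := by
  obtain ⟨hz, hs, hs'⟩ := constt_spec (sigma L) g
  have hc := constt_comm (sigma L) g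
  set z := constt (sigma L) g
  have hzL : z ∈ L := zpowers_le.2 hg hz
  have hzs : z ∈ Ms L := (Msigma_Hall hL).mem_Oc hzL hs
  by_cases e : z⁻¹ * g = 1
  · exact Or.inl ⟨z, ell1_of_mem ⟨hL, hzs⟩ h1, e ▸ one_mem _⟩
  have hm : z⁻¹ * g ∈ L ⊓ C[z] :=
    mem_inf.2 ⟨mul_mem (inv_mem hzL) hg,
      mul_mem (inv_mem (mem_cent1_self z)) (mem_cent1.2 hc.symm)⟩
  rcases pi_of_cent_sigma hL hzs h1 hm e hs' with h | ⟨-, ell, hu⟩
  · exact Or.inr ⟨z, h1, L, ⟨hL, hzs⟩, hm, e, h.1⟩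
  refine Or.inl ⟨_, ell, ?_⟩
  obtain ⟨M, hM⟩ := Ell1.exists_mem ell
  have hlt : 1 < (sigMax (z⁻¹ * g)).ncard := by
    by_contra hn
    obtain rfl := hu.uniq M hM.1 (cent_le_of_not_lt hn hM)
    exact e (((Ms_pi M).elt hM.2).e_eq_one hs')
  have : (z⁻¹ * g)⁻¹ * g = z := by
    rw [mul_inv_rev, inv_inv, mul_assoc, hc, inv_mul_cancel_left]
  rw [this, sigR_of_lt hlt, sigN_eq hu]
  exact ⟨hzs, mem_cent1_symm.1 hm.2⟩

/-- 14.6 -/
theorem sigma_decomposition_dichotomy (hw : PiE (vw G) g) (hg : g ≠ 1) :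
    (∃ x, Ell1 x ∧ x⁻¹ * g ∈ sigR x) ∨
      ∃ y, y ≠ 1 ∧ ∃ M ∈ sigMax y, y⁻¹ * g ∈ M ⊓ C[y] ∧ y⁻¹ * g ≠ 1 ∧ PiE (kap M) (y⁻¹ * g) := by
  obtain ⟨p, hp, hd⟩ := exists_prime_dvd_orderOf hg
  obtain ⟨M0, hM0, hs⟩ := exists_sigma (hw p hp hd) hp (hd.trans (orderOf_dvd_natCard g))
  have x1 : constt (sigma M0) g ≠ 1 := fun e => constt_eq_one_iff.1 e p hp hd hs
  obtain ⟨u, hM⟩ := exists_sigMax hM0 (constt_pi _ g)
  have hc := cent1_le_cent1_constt (sigma M0) g (mem_cent1_self g)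
  rw [← sigma_cj u M0] at x1 hM hc
  set M := cj u M0
  set x := constt (sigma M) g
  by_cases h : 1 < (sigMax x).ncard
  swap
  · exact dich_aux hM.1 (cent_le_of_not_lt h hM hc) x1
  have ell := ell1_of_mem hM x1
  have hu := (FT_signalizer_context ell h).1
  by_cases h' : constt (sigma (sigN x)) g = 1
  swap
  · exact dich_aux hu.max (hu.le hc) h'
  obtain ⟨v, -, hv⟩ := ((sigR_sdprod x1 hM).hall_right (sigR_hall ell h)).le_cj
    (mmax_sub_sol hu.max hu.le) (zpowers_le.2 hc) (piG_zpowers.2 (constt_eq_one_iff.1 h'))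
  refine dich_aux (coatom_J hM.1 v) (cj_mono v inf_le_left (hv (Subgroup.mem_zpowers g))) ?_
  rwa [sigma_cj]

theorem sigma_decomposition_excl (hx : Ell1 x) (hr : x⁻¹ * g ∈ sigR x)
    (hy : y ≠ 1) (hM : M ∈ sigMax y) (h1 : y⁻¹ * g ∈ M ⊓ C[y]) (h2 : y⁻¹ * g ≠ 1)
    (h3 : PiE (kap M) (y⁻¹ * g)) : False := by
  have hs : PiE (sigma M)ᶜ (y⁻¹ * g) := h3.mono fun _ => kap_sigma'
  have nt2 : ¬ PiE (tau2 M) (y⁻¹ * g) := fun h => h2 (h3.e_eq_one (h.mono fun _ a b => kap_tau2' b a))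
  have hC : C[y] ≤ M := ((pi_of_cent_sigma hM.1 hM.2 hy h1 h2 hs).resolve_right
    fun h => nt2 h.1).2
  have hn := (cent_le_iff hy hM).1 hC
  rcases sig_decomp hx hr hM.1 ((Ms_pi M).elt hM.2) hy hs (mem_cent1.1 h1.2).symm (by group)
    with e | e
  · subst e
    exact hn (lt_of_mem_sigR hr h2)
  · rw [← e] at hr
    have e' : y⁻¹ * g = x := by
      rw [inv_mul_eq_iff_eq_mul, ← sigR_comm hr, e, mul_inv_cancel_left]
    rw [e', eq_of_not_lt hn hM (sigN_mem_sigMax hx hr hy)] at nt2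
    exact nt2 (FT_signalizer_context hx (lt_of_mem_sigR hr hy)).2.2.1

instance inst_B14_5 : B14_5 G where
  sigma_cover_disjoint := sigma_cover_disjoint
  sigma_cover_ne_one := sigma_cover_ne_one
  sigma_supportJ := sigma_supportJ
  sigma_support_disjoint := sigma_support_disjoint
  card_class_support_sigma := card_class_support_sigma
  sigma_decomposition_dichotomy := sigma_decomposition_dichotomy
  sigma_decomposition_excl := sigma_decomposition_excl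

end

end H13.V
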