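/-
Port of `H17/B14d` to the `ϖ`-local setting.
-/
import Cfsg.Agent.H13.V14c

set_option autoImplicit false
set_option linter.unusedSectionVars false

namespace H13.V
section
open H17 H17.S14
open Cfsg Subgroup H18 H2.BG
open H19 hiding eq_bot_mono

attribute [-instance] H18.fintypeSubgroup
universe u
variable {G : Type u} [Group G] [Finite G] [VS G] {π : Set ℕ} {p q r : ℕ}
  {A E H J K L M P Q R S U X Y W Mstar : Subgroup G} {g x y : G}

theorem TypeF_reg (hM : TypeF M) (hp : p ∈ tau1 M ∪ tau3 M) (hX : El p 1 X M) :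
    Ms M ⊓ C(X) = ⊥ := by
  by_contra h
  have : p ∈ kap M := ⟨hp, X, hX, h⟩
  rw [hM.2] at this
  exact this

variable [Gen.{u}] [U79 G] [B12_12 G] [B12_13 G] [B12_15 G] [B12_18 G] [B13 G]

/-- 14.11 -/
theorem primes_non_Fitting_Ftype (hM : TypeF M) (hE : Hall (sigma M)ᶜ E M)
    (hQ : El q 1 Q E) (h : ¬ Q ≤ Fit E) :
    ∃ Mstar, Mx Mstar ∧
      ((q ∈ tau2 Mstar ∧ UniqMax C(Q) Mstar) ∨ (q ∈ kap Mstar ∧ TypeP1 Mstar)) := by
  have hc := hM.1
  have hQM := hQ.mono hE.le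
  have t1 : q ∈ tau1 M := by
    rcases tau_of_dvd hc hE hQ.prime hQ.dvd with h1 | h2 | h3
    · exact h1
    · obtain ⟨A, hA⟩ := ex_tau2Elem hE h2
      exact absurd ((tau2_el1_le hc hE hA hQ).trans
        (le_Fit (tau2_normal hc hE hA) (nil_of_ab hA.comm))) h
    · obtain ⟨E3, h3'⟩ := exists_hall (tau3 M) (mmax_sub_sol hc hE.le)
      obtain ⟨-, n3, c3⟩ := tau3_compl hc hE h3'
      exact absurd ((h3'.le_of_normal n3.norm hQ.le (hQ.pi h3)).trans
        (le_Fit n3 (nil_of_cyc c3))) h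
  have reg := TypeF_reg hM (Or.inl t1) hQM
  have ab := der_mmax_compl_abelian hc hE
  have q' : PiG {q}ᶜ ⁅E, E⁆ := (der_tau1' hc hE).compl_sing' t1
  have nQ : Q ≤ N(⁅E, E⁆) := (der_normal E).norms hQ.le
  obtain ⟨cK, -, -⟩ := commG_sigma'_1Elem_cyclic hc ((der_le E).trans hE.le)
    (hE.pi.of_le (der_le E)) hQM nQ reg q' ab
  have K1 : ⁅⁅E, E⁆, Q⁆ ≠ ⊥ := fun e => h (le_sup_right.trans (le_Fit
    (normal_of_der_le le_sup_left (sup_le (der_le E) hQ.le))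
    (nil_of_ab (comm_sup ab hQ.comm (commg_eq_bot.1 e)))))
  obtain ⟨p, P, hP⟩ := exists_el1' K1
  have hPd := hP.mono (commg_le_left nQ)
  have hPE := hPd.mono (der_le E)
  have t2 : p ∈ tau2 M := by
    rcases tau_of_dvd hc hE hP.prime hPE.dvd with h1 | h2 | h3
    · exact absurd h1 (hPd.mem_pi (der_tau1' hc hE))
    · exact h2
    · have := TypeF_reg hM (Or.inr h3) (hPE.mono hE.le)
      rw [inf_eq_left.2 (cents_symm (hP.le.trans cK))] at this
      exact absurd this (Msigma_neq1 hc)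
  obtain ⟨A, hA⟩ := ex_tau2Elem hE t2
  have ncA : ¬ A ≤ C(Q) := fun e => hP.ne_bot (H19.eq_bot_mono
    (le_inf hP.le ((tau2_el1_le hc hE hA hPE).trans e))
    (ab_commg_inf_cent ab nQ (q'.coprime' hQ.pg)))
  obtain ⟨-, -, hA1, -⟩ := tau1_act_tau2 hc hE t2 hA t1 hQ reg fun e => ncA (commg_eq_bot.1 e)
  obtain ⟨L, hL, hN⟩ := mmax_exists (hA.vnorm (tau2_w hc.1 t2))
  obtain ⟨hs, hb⟩ := tau2_sigma_of_norm hc hE hA hL hN t2
  have nA := tau2_normal hc hE hA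
  have hQL : El q 1 Q L := hQ.mono (nA.norm.trans hN)
  have hne : Ms L ⊓ C(Q) ≠ ⊥ := ne_bot_mono (inf_le_inf_right _
    (le_Msigma hL ((norms_of_le le_rfl).trans hN) (hA.pi hs))) hA1.ne_bot
  have hd : q ∣ (E ⊓ C(A)).relIndex E := by
    by_contra hd
    exact ncA (cents_symm ((le_of_pi_of_relIndex (nA.inf_cent.norms hQ.le) inf_le_left hQ.le hQ.pg
      (PiN.of_not_dvd hd)).trans inf_le_right))
  refine ⟨L, hL, ?_⟩
  rcases tau12_of_norm hc hE hA hL hN q hQ.prime hd with h1 | h2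
  · have hk : q ∈ kap L := ⟨Or.inl h1, Q, hQL, hne⟩
    have hP : TypeP L := ⟨hL, q, hk⟩
    refine Or.inr ⟨hk, hP.cases.resolve_right fun p2 => ?_⟩
    obtain ⟨K, hK⟩ := exists_hall (kap L) (mmax_sol hL)
    exact hb ((P2type_facts p2 hK).1 ▸ hs)
  · obtain ⟨x, x1, -, rfl⟩ := hQ.exists_gen
    rw [cent_zpowers] at hne ⊢
    exact Or.inl ⟨h2, cent1_nreg_sigma_uniq hL (zpowers_le.1 hQL.le) x1
      (piG_zpowers.1 (hQ.pi h2)) hne⟩

/-- 14.12 -/
theorem P2type_signalizer (hw : r ∈ vw G) (hM : TypeP2 M) (h : KappaCompl M U K)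
    (hMs : Mx Mstar) (hC : C(K) ≤ Mstar) (hR : Syl r R U) (hH : Mx H)
    (hN : N(R) ≤ H) :
    TypeF H ∧ U ≤ Ms H ∧ U ⊔ K = M ⊓ H ∧ ¬ H ⊓ N(U) ≤ M ∧ K ≤ Fit (H ⊓ Mstar) ∧
      Hall (sigma H)ᶜ (H ⊓ Mstar) H := by
  have hc := hM.1.1
  have hK := h.hallK
  obtain ⟨L, d⟩ := exists_dual hM.1 hK
  have hp := (P2type_facts hM hK).2.1
  have hu := d.uniq le_rfl hp
  obtain rfl : Mstar = L := hu.uniq _ hMs hC
  obtain ⟨hE, sd, -, -, ab⟩ := kappa_compl_context hc h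
  replace ab := ab d.fam.K_ne
  have R1 : R ≠ ⊥ := ne_bot_of_norm_le hH.1 hN
  have hr := hR.pi.mem_of_ne_bot R1 (h.hallU.pi.of_le hR.le)
  have hRM := h.hallU.sub_syl hr hR
  have hEH : U ⊔ K ≤ H := (sd.normal.norm.trans (nil_hall_norm (nil_of_ab ab) hR)).trans hN
  have hKH : K ≤ H := le_sup_right.trans hEH
  have nM : ¬ Cjg M H := by
    rintro ⟨g, rfl⟩
    refine hr (Or.inl ?_)
    rw [← sigma_cj g]
    exact mem_sigma_of hH.1 hw ((hRM.J g).of_card ((norms_of_le le_rfl).trans hN) (card_cj g R).symm) hN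
  have nL : ¬ Cjg Mstar H := by
    rintro ⟨g, rfl⟩
    have hg : g ∈ Mstar := by
      by_contra hg
      have := Kst_TI d.PL d.hJ hg
      rw [d.eK, inf_eq_left.2 hKH] at this
      exact d.fam.K_ne this
    rw [cj_of_mem hg] at hN
    have : R ≤ K := d.fam.le_K (d.inf_eq ▸ le_inf hRM.le ((norms_of_le le_rfl).trans hN))
      ((KC.s' h).of_le hR.le)
    exact R1 (H19.eq_bot_mono (le_inf hR.le this) sd.inf)
  have hF : TypeF H := (typeF_or_typeP hH).resolve_right fun hP => (d.cjg hP).elim nM nL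
  have hKs : PiG (sigma Mstar) K := (Ms_pi _).of_le d.symm.le_Ms
  have hKs' : PiG (sigma H)ᶜ K := pi_s'_of_not_cjg hMs hH nL hKs
  obtain ⟨D, hD, hKD⟩ := ex_sigma_compl hH hKH hKs'
  have eK := el1_of_prime hKD hp
  have hq : #K ∈ sigma Mstar := eK.self.mem_pi hKs
  have hKF : K ≤ Fit D := by
    by_contra hn
    obtain ⟨L, hL, ⟨h2, hu'⟩ | ⟨hk, h1⟩⟩ := primes_non_Fitting_Ftype hF hD eK hn
    · exact tau2_sigma' h2 (hu.eq hu' ▸ hq)
    · rcases d.cjg h1.1 with ⟨g, rfl⟩ | c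
      · exact h1.not_P2 (hM.J g)
      · exact kap_sigma' hk (c.vsigma_eq ▸ hq)
  have hKO : K ≤ Oc {#K} D := eK.pg.le_Oc_of_le_Fit hKF
  have sdH := sdprod_sigma hH hD
  have nO : Ms H ⊔ Oc {#K} D ⊴ H := ⟨sup_le (Ms_le H) ((Oc_le _ _).trans hD.le), by
    rw [← sdH.sup]
    nth_rewrite 2 [sdH.sup]
    exact sup_le (norms_of_le le_sup_left) (norms_sup sdH.norm (Oc_norm _ _))⟩
  have hUH : U ≤ H := le_sup_left.trans hEH
  have hU : U ≤ Ms H := by
    have hle : U ≤ Ms H ⊔ Oc {#K} D := by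
      rw [← KC.commg_eq hM.1 h]
      exact (commutator_mono le_rfl (hKO.trans le_sup_right)).trans (nO.commg_le' hUH)
    have hpi : PiG (sigma H ∪ {#K}) (Ms H ⊔ Oc {#K} D) :=
      ((Ms_pi H).mono Set.subset_union_left).sup ((Oc_pi _ _).mono Set.subset_union_right)
        ((Oc_le _ _).trans sdH.norm)
    refine le_Msigma hH hUH fun s hs hd => (hpi.of_le hle s hs hd).resolve_right ?_
    rintro rfl
    exact KC.k' h _ hs hd (hK.pi _ hs dvd_rfl)
  have sdM := sdprod_sigma hc hE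
  have U1 : U ≠ ⊥ := ne_bot_mono hR.le R1
  have dM : Ms M ⊓ Ms H = ⊥ := PiN.inf_eq_bot' (pi_s'_of_not_cjg hc hH nM (Ms_pi M)) (Ms_pi H)
  have eMH : U ⊔ K = M ⊓ H := by
    have : Ms M ⊓ H = ⊥ := by
      refine H19.eq_bot_mono (le_inf inf_le_left (commg_eq_bot.1 (H19.eq_bot_mono (le_inf ?_ ?_)
        dM))) (KC.cent_eq_bot hc h U1)
      · exact (commutator_mono inf_le_left le_rfl).trans ((Ms_normal M).commg_le h.hallU.le)
      · exact (commutator_mono le_rfl hU).trans ((Ms_normal H).commg_le' inf_le_right)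
    rw [← (sdM.modr hEH).sup, this, bot_sup_eq]
  have hDL : D ≤ Mstar := by
    rcases tau_of_dvd hH hD hp eK.dvd with h1 | h2 | h3
    · exact ((Oc_norm _ D).trans (cyc_norm (tau13_cyclic hH (Or.inl h1) (Oc_pi _ D)
        ((Oc_le _ D).trans hD.le)) hKO)).trans hu.norm_le_of_cent
    · obtain ⟨A, hA⟩ := ex_tau2Elem hD h2
      exact (tau2_normal hH hD hA).norm.trans (norm_noncyclic_sigma hMs hq hA.pg
        ((hA.le_cent.trans (cent_mono (tau2_el1_le hH hD hA eK))).trans hC) hA.not_cyc)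
    · exact ((Oc_norm _ D).trans (cyc_norm (tau13_cyclic hH (Or.inr h3) (Oc_pi _ D)
        ((Oc_le _ D).trans hD.le)) hKO)).trans hu.norm_le_of_cent
  have eD : H ⊓ Mstar = D := by
    have c1 : Ms H ⊓ C(K) = ⊥ := by
      by_contra hn
      obtain ⟨x, ⟨hx, hxK⟩, x1⟩ := exists_ne_one hn
      obtain ⟨y, hy, y1⟩ := exists_ne_one d.fam.K_ne
      rcases pi_of_cent_sigma hH hx x1 ⟨hKH hy, mem_cent1_symm.1 (cent_le_cent1 hy hxK)⟩ y1
        (hKs'.elt hy) with h' | h'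
      · rw [hF.2] at h'
        exact y1 (orderOf_eq_one_iff.1 h'.1.eq_one_of_empty)
      · exact nL (h'.2.2.uniq _ hMs (d.cent_le hy y1) ▸ Cjg.refl _)
    have : Ms H ⊓ Mstar = ⊥ := by
      refine H19.eq_bot_mono (le_inf inf_le_left (commg_eq_bot.1 (H19.eq_bot_mono (le_inf ?_ ?_)
        (PiN.inf_eq_bot (Ms_pi H) (pi_s'_of_not_cjg hMs hH nL (Ms_pi _)))))) c1
      · exact (commutator_mono inf_le_left le_rfl).trans ((Ms_normal H).commg_le hKH)
      · exact (commutator_mono le_rfl d.symm.le_Ms).trans ((Ms_normal _).commg_le' inf_le_right)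
    rw [← (sdH.modr hDL).sup, this, bot_sup_eq]
  refine ⟨hF, hU, eMH, fun hn => ?_, eD ▸ hKF, eD ▸ hD⟩
  have e : U = Ms H := nil_eq_of_norm_le (notP1type_Msigma_nil (Or.inl hF)) hU (by
    have : Ms H ⊓ N(U) ≤ (U ⊔ K) ⊓ Ms H := le_inf (eMH ▸ le_inf
      ((inf_le_inf_right _ (Ms_le H)).trans hn) (inf_le_left.trans (Ms_le H))) inf_le_left
    rwa [sup_inf_modl h.norm hU, inf_comm K, Ms_inf_eq_bot hKs', sup_bot_eq] at this)
  rw [e, inf_eq_left.2 (Ms_norm H)] at hn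
  exact nM (eq_mmax hH hc hn ▸ Cjg.refl _)

/-- 14.13(a) -/
theorem non_disjoint_signalizer_Frobenius (hx : x ≠ 1)
    (h : 1 < (sigMax x).ncard) (hM : M ∈ sigMax x) (hs : ¬ PiG (sigma (sigN x))ᶜ M) :
    TypeF M ∧ tau2 M = ∅ ∧ ∀ E, Hall (sigma M)ᶜ E M → Frob (Ms M) E M := by
  have hc := hM.1
  obtain ⟨hu, -, t2x, -, hall⟩ := FT_signalizer_context (ell1_of_mem hM hx) h
  obtain ⟨nc, t2s, sb, -⟩ := hall M hM
  generalize sigN x = L at *
  have hL := hu.max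
  simp only [PiN, not_forall, Set.mem_compl_iff, not_not] at hs
  obtain ⟨q, hq, hd, hqs⟩ := hs
  obtain ⟨Q, hQ⟩ := exists_el1 hq hd
  have hqb := sb q hqs hd
  have hqM : q ∉ sigma M := B13_8.sigma_partition hL hc (not_cjg_symm nc) q hqs
  obtain ⟨g, hg⟩ := B12_15.sigma_Jsub hL (hQ.pi hqs)
  have uQ : UniqMax C(cj g Q) L :=
    (B12_13.cent_der_sigma_uniq hL (hQ.Jle g (hg.trans (Ms_le L))) (Or.inl hqb)).1
  have hF : TypeF M := by
    refine (typeF_or_typeP hc).resolve_right fun hP => ?_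
    obtain ⟨p, hp, hd⟩ := exists_prime_dvd_orderOf hx
    have t2p := t2x p hp hd
    rcases hP.cases with h1 | h2
    · have hk := (h1.2 q hq hQ.dvd).resolve_left hqM
      obtain ⟨K, hK, hQK⟩ := (hQ.pi hk).exists_hall (mmax_sol hc) hQ.le
      obtain ⟨L', d⟩ := exists_dual hP hK
      have u' := (d.uniq hQK hQ.prime_card).J g
      rw [cj_cent] at u'
      obtain rfl := u'.eq uQ
      rw [tau2_cj] at t2p t2s
      exact kap_tau2' (d.hJ.pi p hp (d.hall_sigma.prime_dvd hp (t2s t2p) (tau2_dvd t2p))) t2p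
    · obtain ⟨K, hK⟩ := exists_hall (kap M) (mmax_sol hc)
      exact (tau2_not_beta hL t2p).1 (beta_sub_betaG ((P2type_facts h2 hK).1 ▸ t2s t2p))
  have t2 : tau2 M = ∅ := by
    by_contra hn
    obtain ⟨p, hp⟩ := Set.nonempty_iff_ne_empty.2 hn
    obtain ⟨E, hE, hQE⟩ := ex_sigma_compl hc hQ.le (hQ.pi hqM)
    obtain ⟨A, hA⟩ := ex_tau2Elem hE hp
    have hQ' := hQ.of_le hQE
    have sL : p ∉ sigma L := fun hs =>
      (tau2_not_beta hc hp).1 (beta_sub_betaG (sb p hs (tau2_dvd hp)))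
    have ncA : ¬ A ≤ C(Q) := fun e => tau2_sigma' hp (t2s (tau2_of_el hL sL
      (hA.Jle g ((cj_mono g e).trans (cj_cent g Q ▸ uQ.le)))))
    have t1 : q ∈ tau1 M := by
      rcases tau_of_dvd hc hE hq hQ'.dvd with h1 | h2 | h3
      · exact h1
      · exact absurd (beta_sub_betaG hqb) (tau2_not_beta hc h2).1
      · exact absurd (cents_symm ((tau1_cent_tau2Elem_factor hc hE hA).2.2 Q hQE
          (hQ.pi (tau3_tau1' h3)))) ncA
    obtain ⟨⟨h0, e0, -⟩, nc', h1, -⟩ := tau1_act_tau2 hc hE hp hA t1 hQ'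
      (TypeF_reg hF (Or.inl t1) hQ) fun e => ncA (commg_eq_bot.1 e)
    have h0L : El p 1 ⁅A, Q⁆ L :=
      h0.of_le (e0 ▸ (inf_le_right.trans (cent_le_cent1 hM.2)).trans hu.le)
    have h1L : El p 1 (cj g (A ⊓ C(Q))) L :=
      h1.Jle g ((cj_mono g inf_le_right).trans (cj_cent g Q ▸ uQ.le))
    have rk1 : prk p L = 1 := by
      rcases partition_pi_mmax hL h0.prime h0L.dvd with a | a | a | a
      exacts [tau1_prk a, absurd (t2s a) (tau2_sigma' hp), tau3_prk a, absurd a sL]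
    obtain ⟨v, -, e⟩ := el1_conj hL.1 rk1 h1L h0L
    exact nc' ⟨v * g, by rw [cj_mul, e]⟩
  refine ⟨hF, t2, fun E hE => ⟨sdprod_sigma hc hE, Msigma_neq1 hc, sigma_compl_ne_bot hc hE,
    semireg_of_el1 fun r X hX => TypeF_reg hF ?_ (hX.mono hE.le)⟩⟩
  rcases tau_of_dvd hc hE hX.prime hX.dvd with a | a | a
  exacts [Or.inl a, absurd a (t2 ▸ Set.notMem_empty r), Or.inr a]

instance inst_B14_11 : B14_11 G where
  primes_non_Fitting_Ftype := primes_non_Fitting_Ftype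
  P2type_signalizer := P2type_signalizer
  non_disjoint_signalizer_Frobenius := non_disjoint_signalizer_Frobenius

instance inst_B14 : B14 G := {}

end

end H13.V
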