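/-
Port of `H17/B15a,H17/B15b` to the `ϖ`-local setting.
-/
import Cfsg.Agent.H13.V14d

set_option autoImplicit false
set_option linter.unusedSectionVars false

namespace H13.V
section
open H17
open Cfsg Subgroup H19 H18

attribute [-instance] H18.fintypeSubgroup
universe u
variable {G : Type u} [Group G] [Finite G] [VS G] {M U K X E : Subgroup G}

theorem KappaCompl.J (h : KappaCompl M U K) (g : G) : KappaCompl (cj g M) (cj g U) (cj g K) := by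
  refine ⟨?_, ?_, ?_⟩
  · rw [sigma_cj, kap_cj]; exact h.hallU.J g
  · rw [kap_cj]; exact h.hallK.J g
  · rw [← cj_norm]; exact cj_mono g h.norm

theorem KappaCompl.Jmem (h : KappaCompl M U K) {g : G} (hg : g ∈ M) :
    KappaCompl M (cj g U) (cj g K) := by
  have := KappaCompl.J h g
  rwa [cj_of_mem hg] at this

theorem KappaCompl.sigma' (h : KappaCompl M U K) : PiG (sigma M)ᶜ U :=
  h.hallU.pi.mono (Set.compl_subset_compl.2 Set.subset_union_left)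

theorem KappaCompl.kap' (h : KappaCompl M U K) : PiG (kap M)ᶜ U :=
  h.hallU.pi.mono (Set.compl_subset_compl.2 Set.subset_union_right)

theorem kap_sigma'_pi (h : PiG (kap M) K) : PiG (sigma M)ᶜ K := h.mono fun _ hp => kap_sigma' hp

theorem Hall.der_of_sd (hK : Hall (kap M) K M) {D : Subgroup G} (h : Sdprod D K M) :
    Hall (kap M)ᶜ D M := h.hall_left (by rwa [compl_compl])

variable [H18.Gen.{u}] [U79 G] [B10 G] [B11 G] [B12 G] [B13 G] [B14 G]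

theorem exists_kappaCompl (hM : Mx M) : ∃ U K, KappaCompl M U K := by
  obtain ⟨K, hK⟩ := exists_hall (kap M) (mmax_sol hM)
  obtain ⟨U, hU⟩ := B14_2.ex_kappa_compl hM hK
  exact ⟨U, K, hU⟩

theorem exists_kappaCompl_ge (hM : Mx M) (hX : X ≤ M) (hp : PiG (sigma M ∪ kap M)ᶜ X) :
    ∃ U K, KappaCompl M U K ∧ X ≤ U := by
  obtain ⟨U, K, h⟩ := exists_kappaCompl hM
  obtain ⟨g, hg, hle⟩ := h.hallU.le_cj (mmax_sol hM) hX hp
  exact ⟨_, _, KappaCompl.Jmem h hg, hle⟩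

theorem exists_kappaCompl_of_hall (hM : Mx M) (hU : Hall (sigma M ∪ kap M)ᶜ U M) :
    ∃ K, KappaCompl M U K := by
  obtain ⟨U', K, h, hle⟩ := exists_kappaCompl_ge hM hU.le hU.pi
  obtain rfl := hU.eq_of_le h.hallU hle
  exact ⟨K, h⟩

theorem exists_kappaCompl_sup (hM : Mx M) (hE : Hall (sigma M)ᶜ E M) :
    ∃ U K, KappaCompl M U K ∧ U ⊔ K = E := by
  obtain ⟨U, K, h⟩ := exists_kappaCompl hM
  obtain ⟨g, hg, e⟩ := (B14_2.kappa_compl_context hM h).1.conj hE (mmax_sol hM)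
  exact ⟨_, _, KappaCompl.Jmem h hg, by rw [← cj_sup, e]⟩

theorem KappaCompl.hall_sup (h : KappaCompl M U K) (hM : Mx M) :
    Hall (kap M)ᶜ (Ms M ⊔ U) M := by
  refine ((B10_2.Msigma_Hall hM).union h.hallU ((Ms_normal M).norms h.hallU.le)).congr
    fun p _ _ => ?_
  have := @kap_sigma' G _ _ _ p M
  simp only [Set.mem_union, Set.mem_compl_iff]; tauto

theorem kappa_cyclic (hM : Mx M) (hK : Hall (kap M) K M) : Cyc K := by
  by_cases h1 : K = ⊥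
  · exact h1 ▸ cyc_bot
  obtain ⟨_, -, -, -, -, -, ⟨hc, -⟩, -⟩ := B14_7.Ptype_embedding ((typeP_iff hM hK).2 h1) hK
  exact cyc_mono hc le_sup_left

theorem der_sdprod (hM : TypeP M) (hK : Hall (kap M) K M) : Sdprod ⁅M, M⁆ K M := by
  obtain ⟨_, -, -, -, -, -, -, -, -, -, h⟩ := B14_7.Ptype_embedding hM hK
  exact h

theorem der2_le_Ms (hM : Mx M) : ⁅⁅M, M⁆, ⁅M, M⁆⁆ ≤ Ms M := by
  obtain ⟨E, hE, -⟩ := B12_1.ex_sigma_compl hM bot_le PiN.bot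
  rw [← (B12_1.der1_sigma_compl hM hE).2]
  refine (der_sup_le ((Ms_normal M).norms ((der_le E).trans hE.le))).trans ?_
  rw [comm_iff_der.1 (B12_10.der_mmax_compl_abelian hM hE), sup_bot_eq]

/-- 15.1(c), element form -/
theorem cent1_kappa_compl (hM : Mx M) {x : G} (hx : x ∈ M) (h1 : x ≠ 1)
    (hp : PiE (sigma M ∪ kap M)ᶜ x) (hc : Ms M ⊓ C[x] ≠ ⊥) :
    PiE (tau2 M) x ∧ UniqMax C[x] M := by
  obtain ⟨y, ⟨hy, hyx⟩, hy1⟩ := exists_ne_one hc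
  rcases B14_2.pi_of_cent_sigma hM hy hy1 ⟨hx, mem_cent1_symm.1 hyx⟩ h1
    (hp.mono (Set.compl_subset_compl.2 Set.subset_union_left)) with h | h
  · exact absurd (PiN.e_eq_one h.1 (hp.mono (Set.compl_subset_compl.2 Set.subset_union_right))) h1
  · exact ⟨h.1, h.2.2⟩

/-- 15.1(c) -/
theorem cent_kappa_compl (hM : Mx M) (hX : X ≤ M) (hp : PiG (sigma M ∪ kap M)ᶜ X)
    (h1 : X ≠ ⊥) (hc : Ms M ⊓ C(X) ≠ ⊥) : UniqMax C(X) M ∧ Cyc X ∧ PiG (tau2 M) X := by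
  have key : ∀ x ∈ X, x ≠ 1 → PiE (tau2 M) x ∧ UniqMax C[x] M := fun x hx hx1 =>
    cent1_kappa_compl hM (hX hx) hx1 (hp.elt hx)
      (ne_bot_mono (inf_le_inf_left _ (cent_le_cent1 hx)) hc)
  have t2 : PiG (tau2 M) X := PiN.of_elt fun x hx => by
    by_cases hx1 : x = 1
    · exact hx1 ▸ PiN.e_one
    · exact (key x hx hx1).1
  obtain ⟨E, hE, hXE⟩ := B12_1.ex_sigma_compl hM hX (t2.mono fun _ hq => tau2_sigma' hq)
  obtain ⟨E2, hE2, hX2⟩ := t2.exists_hall (mmax_sub_sol hM hE.le) hXE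
  have hab : Ab X := comm_mono (B12_10.tau2_compl_abelian hM hE hE2) hX2
  have hcyc : Cyc X := by
    refine ab_cyc_of_rk hab (hM.odd hX) ?_
    by_contra hr
    obtain ⟨p, A, hA⟩ := exists_el_of_le_rk (show 2 ≤ rk X by omega)
    have := (B12_5.tau2_context hM (hA.mem_pi t2) (hA.mono hX)).2.2.2.1
    exact hc (H19.eq_bot_mono (inf_le_inf_left _ (cent_mono hA.le)) this)
  refine ⟨?_, hcyc, t2⟩
  obtain ⟨x, rfl⟩ := cyc_iff.1 hcyc
  rw [cent_zpowers]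
  exact (key x (Subgroup.mem_zpowers x) (by rintro rfl; simp at h1)).2

theorem kappa_structure (hM : Mx M) (h : KappaCompl M U K) :
    (Sdprod (Ms M) U (Ms M ⊔ U) ∧ Sdprod (Ms M ⊔ U) K M ∧ Cyc K ∧
        ⁅⁅M, M⁆, ⁅M, M⁆⁆ ≤ Ms M) ∧
      (K ≠ ⊥ → Ms M ⊔ U = ⁅M, M⁆ ∧ Ab U) ∧
      (∀ X, X ≤ U → X ≠ ⊥ → Ms M ⊓ C(X) ≠ ⊥ → UniqMax C(X) M ∧ Cyc X ∧ PiG (tau2 M) X) ∧
      (∃ A0, A0 ⊴ U ∧ Ab A0 ∧ ∀ x ∈ Ms M, x ≠ 1 → U ⊓ C[x] ≤ A0) ∧
      ∃ U0, U0 ≤ U ∧ expo U0 = expo U ∧ Semireg (Ms M) U0 := by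
  obtain ⟨hE, sdE, -, -, abU⟩ := B14_2.kappa_compl_context hM h
  have sdM := B12_1.sdprod_sigma hM hE
  have hall1 := KappaCompl.hall_sup h hM
  refine ⟨⟨sdprod_sup ((Ms_normal M).norms h.hallU.le) (Ms_inf_eq_bot (KappaCompl.sigma' h)),
    ⟨norms_sup ((Ms_normal M).norms h.hallK.le) h.norm, by rw [sup_assoc, sdM.sup],
      PiN.inf_eq_bot' hall1.pi h.hallK.pi⟩, kappa_cyclic hM h.hallK, der2_le_Ms hM⟩,
    fun h1 => ⟨?_, abU h1⟩, fun X hX h1 hc =>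
      cent_kappa_compl hM (hX.trans h.hallU.le) (h.hallU.pi.of_le hX) h1 hc,
    B12_12.FTtypeF_complement hM h.hallU (KappaCompl.sigma' h) fun e he he1 ht => ?_⟩
  · exact (Hall.der_of_sd h.hallK (der_sdprod ((typeP_iff hM h.hallK).2 h1) h.hallK)).eq_of_normal
      (der_normal M).norm hall1
  · by_contra hc
    have := (cent1_kappa_compl hM (h.hallU.le he) he1 (h.hallU.pi.elt he) hc).1
    exact he1 (PiN.e_eq_one this (ht.mono fun _ hp => tau13_tau2' hp))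

instance inst_B15_1 : B15_1 G := ⟨kappa_structure⟩

end

section
open H17
open Cfsg Subgroup H19 H18

attribute [-instance] H18.fintypeSubgroup
universe u
variable {G : Type u} [Group G] [Finite G] [VS G] {M U K X E D V T R L Q A : Subgroup G} {q : ℕ}

variable [H18.Gen.{u}] [U79 G] [B10 G] [B11 G] [B12 G] [B13 G] [B14 G]

theorem Fcore_le_Ms (hM : Mx M) : Fcore M ≤ Ms M := by
  refine le_Oc (Fcore_normal M) fun p hp hd => ?_
  have hS := Fcore_syl hp hd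
  refine mem_sigma_of hM.1 (nil_normal_w hM (Fcore_normal M) (Fcore_nil M) p hp hd) hS ?_
  rw [mmax_normal hM (Oc_normal _ _) (hS.sne_bot hp (hd.trans (card_dvd (Fcore_le M))))]

theorem Fcore_eq_iff (hM : Mx M) : Fcore M = Ms M ↔ Nil (Ms M) :=
  ⟨fun h => h ▸ Fcore_nil M, fun h =>
    le_antisymm (Fcore_le_Ms hM) (le_Fcore (B10_2.Msigma_Hall hM) (Ms_norm M) h)⟩

theorem P1_sdprod (h : TypeP1 M) (hK : Hall (kap M) K M) :
    Sdprod (Ms M) K M ∧ Ms M = ⁅M, M⁆ ∧ (#(Kst M K)).Prime := by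
  have hM := h.1.1
  obtain ⟨U, hU⟩ := B14_2.ex_kappa_compl hM hK
  obtain rfl := hU.eq_bot_iff.2 h.2
  obtain ⟨⟨-, sd, -⟩, hb, -⟩ := kappa_structure hM hU
  have := (hb ((typeP_iff hM hK).1 h.1)).1
  rw [sup_bot_eq] at sd this
  refine ⟨sd, this, ?_⟩
  obtain ⟨_, -, -, -, -, -, -, -, h2, -⟩ := B14_7.Ptype_embedding h.1 hK
  rcases h2 with h2 | h2
  · exact absurd h2.1 h.not_P2
  · exact h2.2

theorem P1_of_not_nil (hM : Mx M) (hn : ¬ Nil (Ms M)) : TypeP1 M := by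
  rcases typeF_or_typeP hM with h | h
  · exact absurd (B14_1.notP1type_Msigma_nil (Or.inl h)) hn
  · rcases h.cases with h | h
    · exact h
    · exact absurd (B14_1.notP1type_Msigma_nil (Or.inr h)) hn

/-- sections of `M_σ` on which `K` acts without fixed points are nilpotent -/
theorem nil_quo_of_reg (hM : Mx M) (hK : Hall (kap M) K M) (h1 : K ≠ ⊥) (hTL : T ≤ L)
    (hL : L ≤ Ms M) (hKL : K ≤ N(L)) (hKT : K ≤ N(T)) (h : L ⊓ Kst M K ≤ T) : Nil (quo T L) := by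
  obtain ⟨p, K1, hK1⟩ := exists_el1' h1
  have hs := kap_sigma'_pi hK.pi
  have hc : (#T).Coprime #K1 := ((Ms_pi M).of_le (hTL.trans hL)).coprime (hs.of_le hK1.le)
  have hsT : Sol L := mmax_sub_sol hM (hL.trans (Ms_le M))
  refine G3a.prime_Frobenius_sol_kernel_nil (R := quo T K1) (quo_norms (hK1.le.trans hKL))
    (sol_quo hsT T) ?_ ?_
  · rw [card_quo_of_disjoint (hK1.le.trans hKT) (inf_eq_bot_of_cop hc)]; exact hK1.prime_card
  · rw [quo_inf_cent' (hK1.le.trans hKT) hTL hc (Or.inr (sol_mono hsT hTL))]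
    refine quo_eq_bot (le_trans (le_inf inf_le_left ?_) h)
    rw [Kst, ← (kappa_semiprime hM hK).cent hK1.le hK1.ne_bot]
    exact inf_le_inf_right _ hL

/-- first half of 15.2 -/
theorem Fcore_sylow (hM : Mx M) (hK : Hall (kap M) K M) (hn : ¬ Nil (Ms M))
    (hq : q = #(Kst M K)) :
    Kst M K ≤ Oc {q} M ∧ Oc {q} M ≤ Ms M ∧ Syl q (Oc {q} M) (Ms M) ∧ Syl q (Oc {q} M) M ∧
      Nil (quo (Oc {q} M) (Ms M)) := by
  have P1 := P1_of_not_nil hM hn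
  obtain ⟨sd, hd, hp⟩ := P1_sdprod P1 hK
  have h1 := (typeP_iff hM hK).1 P1.1
  have hc := cop_Ms (kap_sigma'_pi hK.pi)
  have hF : Fit (Ms M) ⊓ C(K) ≠ ⊥ := fun h0 => by
    have := G3_8.odd_sdprod_primact_commg_sub_Fitting sd hM.1.odd (mmax_sol hM) hc
      (kappa_semiprime hM hK) h0
    rw [(G6.coprime_der1_sdprod sd hc (mmax_sub_sol hM (Ms_le M)) hd.le).1] at this
    exact hn (nil_mono (Fit_nil _) this)
  have hKF : Kst M K ≤ Fit (Ms M) := le_of_prime_of_inf_ne_bot hp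
    (ne_bot_mono (le_inf (inf_le_inf_right _ (Fit_le _)) inf_le_left) hF)
  have hKQ : Kst M K ≤ Oc {q} M :=
    (PiN.of_card (hq ▸ hp) hq.symm).le_Oc_of_le_Fit (hKF.trans (Fit_le_Fit (Ms_normal M)))
  have hqs : q ∈ sigma M := (Ms_pi M).mem (hq ▸ hp) (hq ▸ card_dvd inf_le_left)
  have hQ : Oc {q} M ≤ Ms M := Oc_mono (by simpa using hqs) M
  have hnil : Nil (quo (Oc {q} M) (Ms M)) := nil_quo_of_reg hM hK h1 hQ le_rfl sd.norm
    ((Oc_normal _ _).norms hK.le) (inf_le_right.trans hKQ)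
  obtain ⟨S, hS, hQS⟩ := (Oc_pi {q} M).exists_syl hQ
  have hSn := hS.sup_norm_of_nil_quo ((Ms_le M).trans (Oc_norm _ _)) hnil (Oc_norm {q} M) (Ms_norm M)
  rw [sup_eq_right.2 hQS] at hSn
  obtain rfl : Oc {q} M = S := le_antisymm hQS (le_Oc ⟨hS.le.trans (Ms_le M), hSn⟩ hS.pi)
  exact ⟨hKQ, hQ, hS, (B10_2.Msigma_Hall hM).sub_syl hqs hS, hnil⟩

/-- second half of 15.2, for a `K`-invariant complement -/
theorem Fcore_chief (hM : Mx M) (hK : Hall (kap M) K M) (hn : ¬ Nil (Ms M))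
    (hq : q = #(Kst M K)) (hD : Hall {q}ᶜ D (Ms M)) (hKD : K ≤ N(D)) (hQ : Q = Oc {q} M) :
    Chief M (Q ⊓ C(D)) Q ∧ ¬ Kst M K ≤ Q ⊓ C(D) ∧ (#K).Prime ∧
      (Q ⊓ C(D)).relIndex Q = q ^ #K ∧ ⁅D, D⁆ ≤ C(Q) := by
  have P1 := P1_of_not_nil hM hn
  obtain ⟨sd, hd, hp⟩ := P1_sdprod P1 hK
  have h1 := (typeP_iff hM hK).1 P1.1
  obtain ⟨hKQ, hQs, sQ, sQM, hnil⟩ := Fcore_sylow hM hK hn hq
  rw [← hQ] at hKQ hQs sQ sQM hnil
  have nQ : Q ⊴ M := hQ ▸ Oc_normal _ _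
  have hDM : D ≤ M := hD.le.trans (Ms_le M)
  have sdQ : Sdprod Q D (Ms M) := sdprod_of_hall sQ ((Ms_le M).trans nQ.norm) hD
  have nilD : Nil D := nil_of_quo_disjoint sdQ.norm sdQ.inf (nil_mono hnil (quo_mono _ hD.le))
  have solQ : Sol Q := sQ.pi.sol
  have hlt : Q ⊓ C(D) < Q := by
    refine lt_of_le_of_ne inf_le_left fun e => hn ?_
    rw [← sdQ.sup]
    exact nil_sup_cent sQ.pi.nil nilD (inf_eq_left.1 e)
  have key : ∀ T V : Subgroup G, T ≤ V → V ≤ Q → K ≤ N(T) → K ≤ N(V) → D ≤ N(T) → D ≤ N(V) →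
      V ≤ N(T) → V ⊓ Kst M K ≤ T → V ≤ T ⊔ (Q ⊓ C(D)) := by
    intro T V hTV hVQ hKT hKV hDT hDV hVT h
    have h2 : Nil (quo T (V ⊔ D)) := by
      refine nil_quo_of_reg hM hK h1 (hTV.trans le_sup_left) (sup_le (hVQ.trans hQs) hD.le)
        (norms_sup hKV hKD) hKT (le_trans (le_inf ?_ inf_le_right) h)
      refine (inf_le_inf_left _ hKQ).trans ?_
      rw [sup_inf_modl hDV hVQ, inf_comm D Q, sdQ.inf, sup_bot_eq]
    have h3 := nil_cents_pi h2 (quo_mono T le_sup_left) (quo_mono T le_sup_right)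
      ((sQ.pi.of_le hVQ).quo T) (hD.pi.quo T)
    rw [quo_cents_iff hVT hDT] at h3
    refine (le_sup_cent_of_commg_le hDT ((sQ.pi.of_le (hTV.trans hVQ)).coprime hD.pi)
      (Or.inr (sol_mono solQ (hTV.trans hVQ))) h3).trans (sup_le_sup_left ?_ _)
    exact inf_le_inf_right _ (sup_le (hTV.trans hVQ) hVQ)
  have hDQ0 : D ≤ N(Q ⊓ C(D)) := norms_inf sdQ.norm (norms_cent le_normalizer)
  have hKQ0 : K ≤ N(Q ⊓ C(D)) := norms_inf (nQ.norms hK.le) (norms_cent hKD)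
  have hlt0 := sQ.pi.lt_norm hlt
  have hDK0 : D ⊔ K ≤ N(Q ⊓ N(Q ⊓ C(D))) :=
    norms_inf (nQ.norms (sup_le hDM hK.le)) (norms_norm (sup_le hDQ0 hKQ0))
  obtain ⟨W, hW, hch⟩ := G1a.chief_exists_above (M := (Q ⊓ N(Q ⊓ C(D))) ⊔ (D ⊔ K))
    ⟨hlt0.le.trans le_sup_left, sup_le inf_le_right (sup_le hDQ0 hKQ0)⟩ (left_normal_sup hDK0) hlt0
  have hDW : D ≤ N(W) := hch.normU.norms (le_sup_left.trans le_sup_right)
  have hKW : K ≤ N(W) := hch.normU.norms (le_sup_right.trans le_sup_right)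
  have hW1 : ¬ W ⊓ Kst M K ≤ Q ⊓ C(D) := fun h => hch.lt.not_ge <| by
    simpa using key _ W hch.lt.le (hW.trans inf_le_left) hKQ0 hKW hDQ0 hDW (hW.trans inf_le_right) h
  have hKW' : Kst M K ≤ W := le_of_prime_of_inf_ne_bot hp fun h0 => hW1 (by
    rw [inf_comm, h0]; exact bot_le)
  have hnK : ¬ Kst M K ≤ Q ⊓ C(D) := fun h => hW1 (inf_le_right.trans h)
  obtain rfl : W = Q := by
    refine nil_eq_of_norm_le sQ.pi.nil (hW.trans inf_le_left) ?_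
    refine (key W _ (le_inf (hW.trans inf_le_left) le_normalizer) inf_le_left hKW
      (norms_inf (nQ.norms hK.le) (norms_norm hKW)) hDW (norms_inf sdQ.norm (norms_norm hDW))
      inf_le_right (inf_le_right.trans hKW')).trans (sup_le le_rfl hch.lt.le)
  rw [le_antisymm inf_le_left hW, ← sup_assoc, sdQ.sup, sd.sup] at hch
  have n0 := hch.normV.norm
  have hs := kap_sigma'_pi hK.pi
  have cK : (#W).Coprime #K := ((Ms_pi M).of_le hQs).coprime hs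
  have cD : (#W).Coprime #D := sQ.pi.coprime hD.pi
  have c0 : ∀ Y : Subgroup G, (#W).Coprime #Y → (#(W ⊓ C(D))).Coprime #Y := fun Y h =>
    h.coprime_dvd_left (card_dvd inf_le_left)
  have sol0 : Sol (W ⊓ C(D)) := sol_mono solQ inf_le_left
  have regD : Semireg D K := fun x hx hx1 => by
    refine H19.eq_bot_mono (le_inf ?_ inf_le_left) sdQ.inf
    exact (inf_le_inf_right _ hD.le).trans ((kappa_semiprime hM hK x hx hx1).le.trans hKQ)
  have eK : quo (W ⊓ C(D)) W ⊓ C(quo (W ⊓ C(D)) K) = quo (W ⊓ C(D)) (Kst M K) := by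
    rw [quo_inf_cent' hKQ0 inf_le_left (c0 K cK) (Or.inr sol0)]
    congr 1
    exact le_antisymm (inf_le_inf_right _ hQs) (le_inf hKQ inf_le_right)
  have cardK : #(quo (W ⊓ C(D)) K) = #K := card_quo_of_disjoint hKQ0 (inf_eq_bot_of_cop (c0 K cK))
  have frob : Frob (quo (W ⊓ C(D)) D) (quo (W ⊓ C(D)) K) (quo (W ⊓ C(D)) (D ⊔ K)) := by
    have := regD.quo hKD hKQ0
    refine ⟨⟨quo_norms hKD, (quo_sup hDQ0 hKQ0).symm, this.inf_eq_bot⟩, fun h0 => ?_, fun h0 => ?_,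
      this⟩
    · rw [quo_eq_bot_iff hDQ0] at h0
      have : D = ⊥ := H19.eq_bot_mono (le_inf (h0.trans inf_le_left) le_rfl) sdQ.inf
      exact hlt.ne (by simp [this])
    · rw [h0, card_bot] at cardK
      exact h1 (card_eq_one.1 cardK.symm)
  obtain ⟨f1, f2, f3⟩ := G3_10.Frobenius_primact frob (sol_quo (mmax_sub_sol hM (sup_le hDM hK.le)) _)
    (mFT_quo_odd _ (hM.loc (sup_le hDM hK.le))) (quo_norms (nQ.norms (sup_le hDM hK.le))) (nil_quo sQ.pi.nil _)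
    (fun h0 => hlt.not_ge ((quo_eq_bot_iff (nQ.le.trans n0)).1 h0))
    (cop_quo ((Nat.Coprime.mul_right cD cK).symm.coprime_dvd_left (card_sup_dvd hKD)) _)
    (semiprime_quo ((kappa_semiprime hM hK).mono_left hQs) hKQ0 inf_le_left (c0 K cK) sol0)
    (by rw [quo_inf_cent' hDQ0 inf_le_left (c0 D cD) (Or.inr sol0), quo_self])
  rw [eK] at f2 f3
  rw [cardK] at f1 f2
  have n1 : Kst M K ≤ N(W ⊓ C(D)) := (hKQ.trans nQ.le).trans n0
  rw [card_quo (nQ.le.trans n0), card_quo_of_disjoint n1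
    (by rw [inf_comm]; exact inf_eq_bot_of_prime hp hnK), ← hq] at f2
  refine ⟨hch, hnK, f1, f2, ?_⟩
  have f4 := f3 (cyc_quo (cyclic_of_prime hp) _)
  rw [← quo_comm hDQ0 hDQ0, quo_cents_iff ((der_le D).trans hDQ0) (nQ.le.trans n0),
    commutator_comm] at f4
  exact cents_of_stable (c0 _ (cD.coprime_dvd_right (card_dvd (der_le D))))
    ((der_le D).trans (cents_symm inf_le_right)) f4

theorem Fcore_structure (hM : Mx M) (hK : Hall (kap M) K M)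
    (hne : Fcore M ≠ Ms M) (hq : q = #(Kst M K)) (hD : Hall {q}ᶜ D (Ms M)) :
    ((TypeP1 M ∧ Sdprod (Ms M) K M ∧ Ms M = ⁅M, M⁆) ∧
      ((#K).Prime ∧ q.Prime ∧ q ∣ #(Fcore M) ∧ q ∈ beta M) ∧
      (Syl q (Oc {q} M) M ∧ Nil D ∧ M ≤ N(Oc {q} M ⊓ C(D))) ∧
      (H18.Chief M (Oc {q} M ⊓ C(D)) (Oc {q} M) ∧
        ⁅Oc {q} M, Oc {q} M⁆ ≤ Oc {q} M ⊓ C(D) ∧ (∀ x ∈ Oc {q} M, x ^ q ∈ Oc {q} M ⊓ C(D)) ∧
        (Oc {q} M ⊓ C(D)).relIndex (Oc {q} M) = q ^ #K) ∧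
      (⁅⁅M, M⁆, ⁅M, M⁆⁆ ≤ Fit M ∧ Oc {q} M ⊔ (M ⊓ C(Oc {q} M)) = Fit M ∧ Fit M < Ms M)) ∧
      ¬ Kst M K ≤ Oc {q} M ⊓ C(D) := by
  have hn : ¬ Nil (Ms M) := fun h => hne ((Fcore_eq_iff hM).2 h)
  have P1 := P1_of_not_nil hM hn
  obtain ⟨sd, hd, hp⟩ := P1_sdprod P1 hK
  obtain ⟨hKQ, hQs, sQ, sQM, hnil⟩ := Fcore_sylow hM hK hn hq
  have solS : Sol (Ms M) := mmax_sub_sol hM (Ms_le M)
  obtain ⟨D1, hD1, hKD⟩ := inv_hall_exists {q}ᶜ sd.norm (cop_Ms (kap_sigma'_pi hK.pi)) solS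
  obtain ⟨hch, hnK, pK, hidx, hD'⟩ := Fcore_chief hM hK hn hq hD1 hKD rfl
  generalize hQ : Oc {q} M = Q at *
  have nQ : Q ⊴ M := hQ ▸ Oc_normal _ _
  have e0 : Q ⊓ C(D1) = Q ⊓ C(D) := by
    obtain ⟨m, hm, rfl⟩ := hD1.conj hD solS
    rw [← cj_cent, ← nQ.cj_eq (Ms_le M hm), ← cj_inf, hch.normV.cj_eq (Ms_le M hm),
      nQ.cj_eq (Ms_le M hm)]
  have sdQ : Sdprod Q D (Ms M) := sdprod_of_hall sQ ((Ms_le M).trans nQ.norm) hD
  have sdQ1 : Sdprod Q D1 (Ms M) := sdprod_of_hall sQ ((Ms_le M).trans nQ.norm) hD1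
  rw [e0] at hch hnK hidx
  have hqp : q.Prime := hq ▸ hp
  obtain ⟨r, hr, c1, c2, c3⟩ := G1a.chief_abelem hch (mmax_sol hM)
  obtain rfl : q = r := c3.eq_of_dvd hqp (hidx ▸ dvd_pow_self q pK.ne_zero)
  have hC : M ⊓ C(Q) ≤ Ms M := by
    rcases inf_eq_bot_or_le_of_prime pK (M ⊓ C(Q)) with h | h
    · have := hK.inf_normal nQ.inf_cent
      rw [h] at this
      exact (Hall.der_of_sd hK sd).le_of_normal (Ms_norm M) inf_le_left this.pi'_of_eq_bot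
    · exact absurd (le_inf hQs (cents_symm (h.trans inf_le_right)))
        ((B14_2.Ptype_structure P1.1 hK).2.2.2.1 q Q hq.dvd hqp sQ).2
  have hF : Q ⊔ (M ⊓ C(Q)) = Fit M := by
    refine le_antisymm (sup_le (le_Fit nQ sQ.pi.nil) (le_Fit nQ.inf_cent ?_)) ?_
    · exact nil_of_quo_cent (nQ.norms inf_le_left) (inf_le_left.trans (cents_symm inf_le_right))
        (nil_mono hnil (quo_mono _ hC))
    · have := nil_dprod (Fit_nil M) {q}
      rw [Oc_Fit, hQ] at this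
      rw [← this.sup]
      exact sup_le_sup_left (le_inf ((Oc_le _ _).trans (Fit_le M)) (cents_symm this.cent)) _
  refine ⟨⟨⟨P1, sd, hd⟩, ⟨pK, hqp, ?_, ?_⟩, ⟨sQM, nil_of_quo_disjoint sdQ.norm sdQ.inf
    (nil_mono hnil (quo_mono _ hD.le)), hch.normV.norm⟩, ⟨hch, c1, c2, hidx⟩, ?_, hF, ?_⟩, hnK⟩
  · rw [hq]
    exact card_dvd (hKQ.trans (hQ ▸ Oc_le_Fcore (hQ ▸ sQM)))
  · by_contra hb
    have := hD.eq_Oc' (B10_8.beta_max_pdiv hM hb).2.1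
    refine hch.lt.ne (inf_eq_left.2 (cents_symm ?_))
    rw [this]
    exact Oc_cents' (nQ.of_le hQs (Ms_le M)) sQ.pi
  · rw [← hd, ← sdQ1.sup, ← hF]
    exact (der_sup_le sdQ1.norm).trans (sup_le_sup_left
      (le_inf ((der_le _).trans (hD1.le.trans (Ms_le M))) hD') _)
  · refine lt_of_le_of_ne (hF ▸ sup_le hQs hC) fun e => hn (e ▸ Fit_nil M)

/-- part of 15.2(g): a `q'`-subgroup of `M_σ` centralizing `K*` centralizes `O_q(M)` -/
theorem cent_Oc_of_cent_Kst (hM : Mx M) (hK : Hall (kap M) K M) (hne : Fcore M ≠ Ms M)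
    (hq : q = #(Kst M K)) (hA : A ≤ Ms M) (hp : PiG {q}ᶜ A) (hc : A ≤ C(Kst M K)) :
    A ≤ C(Oc {q} M) := by
  obtain ⟨D, hD, hAD⟩ := hp.exists_hall (mmax_sub_sol hM (Ms_le M)) hA
  obtain ⟨⟨⟨-, sd, hd⟩, -, ⟨sQ, -, n0⟩, ⟨hch, c1, -⟩, h2, hF, hlt⟩, hnK⟩ :=
    Fcore_structure hM hK hne hq hD
  have hKQ := (Fcore_sylow hM hK (fun h => hne ((Fcore_eq_iff hM).2 h)) hq).1
  generalize Oc {q} M = Q at *
  set Q0 := Q ⊓ C(D)
  set Y := Fit M ⊔ (Ms M ⊓ C(Kst M K))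
  have hY : Y ≤ Ms M := sup_le hlt.le inf_le_left
  have hYM : Y ≤ M := hY.trans (Ms_le M)
  have nY : M ≤ N(Y) := by
    rw [← sd.sup]
    refine sup_le (norms_of_der_le (by rw [hd]; exact h2.trans le_sup_left) hY) ?_
    exact norms_sup ((Fit_normal M).norms hK.le)
      (norms_inf sd.norm (norms_cent (norms_of_cents (cents_symm inf_le_right))))
  have hW : Kst M K ≤ qpre Q0 (quo Q0 Q ⊓ C(quo Q0 Y)) := by
    have nK : Kst M K ≤ N(Q0) := (hKQ.trans sQ.le).trans n0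
    rw [← quo_le_iff nK]
    refine le_inf (quo_mono _ hKQ) ((quo_cents_iff nK (hYM.trans n0)).2 ?_)
    refine commg_sup_right_le ?_ ?_ ((Fit_le M).trans n0) ((inf_le_left.trans (Ms_le M)).trans n0)
    · rw [← hF]
      refine commg_sup_right_le ((commutator_mono hKQ le_rfl).trans c1) ?_ (sQ.le.trans n0)
        (inf_le_left.trans n0)
      rw [commg_eq_bot.2 (cents_symm (inf_le_right.trans (cent_mono hKQ)))]; exact bot_le
    · rw [commg_eq_bot.2 (cents_symm inf_le_right)]; exact bot_le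
  rcases hch.min (qpre Q0 (quo Q0 Q ⊓ C(quo Q0 Y))) (le_qpre _) (qpre_le inf_le_left inf_le_left)
    (norms_qpre n0 (norms_inf (quo_norms hch.normU.norm) (norms_cent (quo_norms nY)))) with h | h
  · exact absurd (h ▸ hW) hnK
  · have h3 : quo Q0 Q ≤ C(quo Q0 Y) := ((quo_le_iff (sQ.le.trans n0)).2 h.ge).trans inf_le_right
    rw [quo_cents_iff (sQ.le.trans n0) (hYM.trans n0)] at h3
    exact cents_of_stable ((sQ.pi.of_le inf_le_left).coprime hp)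
      (hAD.trans (cents_symm inf_le_right))
      ((commutator_mono le_rfl ((le_inf hA hc).trans le_sup_right)).trans h3)

theorem Fcore_ne_bot (hM : Mx M) : Fcore M ≠ ⊥ := by
  by_cases hne : Fcore M = Ms M
  · exact hne ▸ B10_2.Msigma_neq1 hM
  obtain ⟨K, hK⟩ := exists_hall (kap M) (mmax_sol hM)
  obtain ⟨D, hD⟩ := exists_hall {#(Kst M K)}ᶜ (mmax_sub_sol hM (Ms_le M))
  obtain ⟨⟨-, ⟨-, h1, h2, -⟩, -⟩, -⟩ := Fcore_structure hM hK hne rfl hD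
  intro h0
  rw [h0, card_bot] at h2
  exact h1.one_lt.ne' (Nat.dvd_one.1 h2)

instance inst_B15_2 : B15_2 G :=
  ⟨fun hM => ⟨Fcore_ne_bot hM, Fcore_le_Ms hM, B10_2.Msigma_der1 hM, der_lt_mmax hM, Fcore_eq_iff hM⟩,
    fun hM hK hne hq hD => (Fcore_structure hM hK hne hq hD).1⟩

end

end H13.V
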