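/-
Port of `H18/PF11a` to the `ϖ`-local setting.
-/
import Cfsg.Agent.H13.V21

set_option autoImplicit false
set_option linter.unusedSectionVars false

namespace H13.V
universe u
section
open Cfsg Subgroup
open H18
open H19 H17 H20 H9
open scoped ComplexConjugate Classical
attribute [-instance] H18.fintypeSubgroup
variable {G : Type u} [Group G] [Finite G] [VS G] {M W₁ U W₂ H₀ : Subgroup G} {p : ℕ}

omit [Finite G] in
theorem t345 (ht : T34 M) : T345 M := ht.elim Or.inl fun h => Or.inr (Or.inl h)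

variable [PF8a G] [PF9a G]

/-- `H₀ = C_H(U)` and `C_U(H / H₀) = C_U(H)` -/
theorem p9_ker (h : P9 M W₁ U W₂ H₀ p) (ht : T34 M) :
    H₀ = Fcore M ⊓ C(U) ∧ cU M U H₀ = U ⊓ C(Fcore M) := by
  obtain ⟨idx, -, hp, -⟩ := PF9a.facts h
  obtain ⟨-, -, hc⟩ := PF9a.card34 h.tp ht
  have h1 : H₀ = Fcore M ⊓ C(U) := by
    refine (eq_of_le_of_card_eq h.cent_le ?_).symm
    have := card_mul_relIndex h.lt.le
    rw [idx, hc, hp ht, mul_comm] at this
    exact (Nat.eq_of_mul_eq_mul_left (pow_pos (card_pos W₂) _) this).symm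
  refine ⟨h1, le_antisymm (le_inf inf_le_left ?_) (inf_le_inf_left U ?_)⟩
  · refine cents_of_stable (H := H₀) ?_ (inf_le_left.trans (cents_symm (h1.le.trans inf_le_right)))
      (by rw [commutator_comm]; exact H0.commg_astab_le inf_le_right)
    exact Nat.Coprime.coprime_dvd_left (card_dvd h.lt.le) (Nat.Coprime.coprime_dvd_right
      (card_dvd (inf_le_left.trans le_sup_left)) (PF8a.typeP h.tp).2.2.2.2.2.2.2.2.2.2.2.2.1)
  · intro x hx
    refine ⟨cent_le_norm _ (cent_mono h.lt.le hx), fun y hy => ?_⟩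
    rw [← mem_cent.1 hx y hy]; simp

variable [PF5b.{u}] [PF6a.{u, u}] [PF8b G] [PF10b G]

/-- Peterfalvi (11.3) -/
theorem pf11_3 (h : P9 M W₁ U W₂ H₀ p) (ht : T34 M) :
    ¬ Coherent M (S10 M (H₀ ⊔ (U ⊓ C(Fcore M)))) (tauM M) := fun hc => by
  obtain ⟨R, hR, -⟩ := PF5b.subcoh (tp_pd h.tp (t345 ht)) h.tp.max.1.odd
  obtain ⟨idx, -, hp, -, -, -, n1, n2, -⟩ := PF9a.facts h
  obtain ⟨sd1, sd2, -, -, -, pti, cti, -, dp, -⟩ := PF8a.typeP h.tp
  rw [(p9_ker h ht).2] at n1 n2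
  refine PF10b.not_coh h.tp (t345 ht) (PF6a.nil_step (der_normal M) (tp_sol_D1 h.tp) hR
    (NormalIn.bot M).norm n1 n2 bot_le (sup_le_sup_right h.lt.le _)
    (sup_le sd2.left_le (inf_le_left.trans sd2.right_le)) ?_ hc ?_)
  · obtain ⟨n, hn⟩ := (isNilpotent_iff_lowerCentralSeries _).1 (dp.sup ▸ Fit_nil M)
    exact ⟨n, hn.le⟩
  · have e : Fcore M ⊔ (U ⊓ C(Fcore M)) = (H₀ ⊔ (U ⊓ C(Fcore M))) ⊔ Fcore M := by
      rw [sup_right_comm, sup_eq_right.2 h.lt.le]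
    rw [e, relIndex_sup_of_norm ((Fcore_le M).trans n2), ← inf_relIndex_right (H₀ ⊔ _),
      sup_inf_modl (inf_le_right.trans (norms_of_cents (cent_mono h.lt.le))) h.lt.le,
      inf_comm _ (Fcore M), dp.inf, sup_bot_eq, idx, pti_relIndex pti, hp ht]
    exact lb_expn_odd cti.three₂ cti.three₁ cti.odd₂ cti.odd₁ cti.ne.symm

variable [PF5a.{u, u}] [PF10a G]

/-- Peterfalvi (11.4), (11.5) -/
theorem pf11_5 (h : P9 M W₁ U W₂ H₀ p) (ht : T34 M) :
    D2 M = Fcore M ⊔ (U ⊓ C(Fcore M)) := by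
  obtain ⟨R, hR, -⟩ := PF5b.subcoh (tp_pd h.tp (t345 ht)) h.tp.max.1.odd
  obtain ⟨idx, -, hp, hlt, -, -, n1, n2, -⟩ := PF9a.facts h
  obtain ⟨sd1, sd2, -, -, -, pti, cti, -, dp, hU', -⟩ := PF8a.typeP h.tp
  rw [(p9_ker h ht).2] at n1 n2 hlt
  set C := U ⊓ C(Fcore M) with hC
  have hUC : ⁅U, U⁆ ≤ C := le_inf (der_le U) hU'
  have hle : D2 M ≤ Fcore M ⊔ C := by
    show ⁅D1 M, D1 M⁆ ≤ _
    rw [← sd2.sup]
    exact (der_sup_le sd2.norm).trans (sup_le_sup_left hUC _)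
  have hCK : Fcore M ⊔ C ≤ D1 M := sup_le sd2.left_le (inf_le_left.trans sd2.right_le)
  have nD : M ≤ N(D2 M) := (der_normal M).der.norm
  have hcoh : Coherent M (S10 M (D2 M)) (tauM M) :=
    PF5a.uniform hR (csub_SInd le_rfl bot_le) fun χ hχ φ hφ => by
      rw [((PF10a.lin h.tp).2 χ hχ).2.1, ((PF10a.lin h.tp).2 φ hφ).2.1]
  have hb : ¬ 4 * ((Fcore M ⊔ C).relIndex M) ^ 2 * (Fcore M ⊔ C).relIndex (Fcore M ⊔ C) <
      ((D2 M).relIndex (D1 M) - 1) ^ 2 := fun hb =>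
    pf11_3 h ht (PF6a.bound (der_normal M) (tp_sol_D1 h.tp) hR nD n2 n1 n1 (tp_D2_lt h.tp)
      (sup_le_sup_right h.lt.le _) le_rfl hCK (by
        rw [der_sup_cent inf_le_right]
        exact sup_le_sup h.der_le (der_le C)) hcoh hb)
  rw [relIndex_self, mul_one, ← relIndex_mul_relIndex _ _ _ hCK (der_le M),
    ← relIndex_mul_relIndex _ _ _ hle hCK, pti_relIndex pti, not_lt,
    show ∀ a : ℕ, 4 * a ^ 2 = (2 * a) ^ 2 from fun a => by ring,
    Nat.pow_le_pow_iff_left two_ne_zero] at hb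
  have hu : 1 < (Fcore M ⊔ C).relIndex (D1 M) := by
    refine lt_of_le_of_ne (relIndex_pos _ _) fun e => hlt.not_ge ?_
    have h1 := le_inf (sd2.right_le.trans (relIndex_eq_one.1 e.symm)) (le_refl U)
    rwa [sup_inf_modr (inf_le_right.trans (cent_le_norm _)) inf_le_left, sd2.inf, bot_sup_eq] at h1
  by_contra hne
  have hW : W₁ ≤ M := sd1.right_le
  have hq := (PF8a.type234 h.tp (Or.inr ht)).2.1
  have hn1 : Fcore M ⊔ C ≤ N(D2 M) := (hCK.trans (der_le M)).trans nD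
  have c1 : #(quo (D2 M) W₁) = #W₁ := card_quo_of_disjoint (hW.trans nD)
    (H19.eq_bot_mono (inf_le_inf_right _ (der_le _)) sd1.inf)
  have hreg : Semireg (quo (D2 M) (Fcore M ⊔ C)) (quo (D2 M) W₁) := by
    refine H19.semireg_of_prime (c1 ▸ hq) ?_
    rw [quo_inf_cent' (hW.trans nD) hle (Nat.Coprime.coprime_dvd_left (card_dvd (der_le _))
      pti.cop.symm) (Or.inl (sol_of_prime hq))]
    refine quo_eq_bot (le_trans ?_ (tp_W2_le h.tp))
    obtain ⟨x, hx, hx1⟩ := exists_ne_one pti.W1_ne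
    rw [← pti.cent x hx hx1]
    exact inf_le_inf hCK (cent_le_cent1 hx)
  have h2 := semireg_two_mul_le hreg (quo_norms (hW.trans n1))
    (fun e => hne (le_antisymm hle ((quo_eq_bot_iff hn1).1 e))) (mFT_quo_odd _ (h.tp.max.loc (hCK.trans (der_le M))))
    (mFT_quo_odd _ (h.tp.max.loc hW))
  rw [c1, card_quo hn1] at h2
  generalize (D2 M).relIndex (Fcore M ⊔ C) = k at h2 hb
  generalize (Fcore M ⊔ C).relIndex (D1 M) = u at hu hb
  have h3 := Nat.mul_le_mul_right u h2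
  have h4 : k * u ≤ 2 * (u * #W₁) + 1 := by omega
  nlinarith

variable [PF9b G]

/-- Peterfalvi (11.6), (11.7) -/
theorem pf11_struct (h : TP M W₁ U W₂) (ht : T34 M) :
    P9 M W₁ U W₂ ⊥ #W₂ ∧ D2 M = Fcore M ⊔ (U ⊓ C(Fcore M)) ∧ U ⊓ C(Fcore M) = ⁅U, U⁆ ∧
    ¬ Coherent M (S10 M (U ⊓ C(Fcore M))) (tauM M) := by
  obtain ⟨H₀, p, h9⟩ := PF9a.ex h (Or.inr ht)
  obtain ⟨idx, -, hp, -⟩ := PF9a.facts h9
  obtain ⟨sd1, sd2, -, sd3, -, pti, cti, -, dp, hU', -, -, cop, -⟩ := PF8a.typeP h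
  obtain rfl := hp ht
  have h5 := pf11_5 h9 ht
  have hk := (p9_ker h9 ht).1
  have hd : H₀ = ⁅Fcore M, Fcore M⁆ := le_antisymm (hk.le.trans (coprime_der1_sdprod sd2
    (Nat.Coprime.coprime_dvd_right (card_dvd le_sup_left) cop) (sol_of_nil (Fcore_nil M))
    (le_sup_left.trans h5.ge)).2) h9.der_le
  have h0 : H₀ = ⊥ := by
    by_contra h1
    have hc : U ≤ C(H₀) := cents_symm (hk.le.trans inf_le_right)
    subst hd
    obtain ⟨l, F, r1, r2⟩ := exists_cform (Fcore_nil M) h1 h9.prime cti.odd₁ idx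
    rcases (p9_no_irr h9).1 F.rad (fun x hx => ⟨F.le hx, fun y hy => F.left_zero hx hy⟩)
      (fun x hx => hx.1) (F.rad_norm sd2.norm hc) with e | e
    exacts [r2 e, r1 e]
  subst h0
  refine ⟨h9, h5, le_antisymm ?_ (le_inf (der_le U) hU'), by simpa using pf11_3 h9 ht⟩
  have h1 : U ⊓ C(Fcore M) ≤ (Fcore M ⊔ ⁅U, U⁆) ⊓ U := by
    refine le_inf (le_sup_right.trans (h5.ge.trans ?_)) inf_le_left
    show ⁅D1 M, D1 M⁆ ≤ _
    rw [← sd2.sup]
    exact der_sup_le sd2.norm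
  rwa [sup_inf_modr ((der_le U).trans sd2.norm) (der_le U), sd2.inf, bot_sup_eq] at h1

theorem inst_PF11a : PF11a G := ⟨pf11_struct⟩

end

end H13.V
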