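import Cfsg.Agent.H13.W2a

/-! S5807, the case `q = 8`: the unipotent radical of the centraliser of `z`. -/

set_option autoImplicit false
set_option linter.unusedSectionVars false

namespace H13.W2
open Matrix Cfsg.Geo H27.Asch H12.D5 H11.T5 H20.WL F8

/-- a basis of the even functions -/
def Ip : Matrix (ZMod 7) (Fin 4) F8 := of fun i k => e (0x8040200200040008001 >>> (3 * (4 * i.val + k.val)))
/-- unipotent elements -/
def qm (X : M4) : M7 := 1 + Ip * X * Ipᵀ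
/-- unipotent elements in `G` -/
def Q (G : Subgroup G7) (X : M4) : Prop := ∃ g ∈ G, g.val = qm X
/-- the abelian part -/
def QA (G : Subgroup G7) (X : M4) : Prop := Q G X ∧ ∀ k, X k 0 = 0
/-- operators -/
def Op (G : Subgroup G7) (o : ℕ × ℕ) : Prop :=
  (∃ g ∈ G, g.val * Ip = Ip * d4 o.1 ∧ (g⁻¹).valᵀ * Ip = Ip * d4 o.2) ∧ ∀ k, k ≠ 0 → d4 o.2 0 k = 0
/-- conjugation -/
def R (o : ℕ × ℕ) : M4 →ₗ[F8] M4 := LinearMap.mulLeftRight F8 (d4 o.1, (d4 o.2)ᵀ)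
/-- coding -/
def e4 (A : M4) : ℕ := ∑ i, ∑ j, (A i j).1 <<< (3 * (4 * i.val + j.val))
/-- checked product -/
def st4 (a b : ℕ × ℕ) : ℕ × ℕ := force (e4 (d4 a.1 * d4 b.1)) fun c => force (e4 (d4 a.2 * d4 b.2)) fun d =>
  if d4 c = d4 a.1 * d4 b.1 ∧ d4 d = d4 a.2 * d4 b.2 ∧ ∀ k, k ≠ 0 → d4 d 0 k = 0 then (c, d) else a
/-- words in `T` and `Φ` -/
def ow (w : List ℕ) : ℕ × ℕ := w.foldl (fun a i => st4 a (if i = 0 then (0x800180010001, 0xe000c0028001)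
  else (0x7e9f59af9001, 0x7e9f59af9001))) (0x200040008001, 0x200040008001)

variable {G : Subgroup G7} {X Y : M4} {o o' : ℕ × ℕ}

theorem Q.mul (h : Q G X) (k : Q G Y) : Q G (X + Y + X * single 0 0 1 * Y) := by
  obtain ⟨g, hg, e⟩ := h
  obtain ⟨g', hg', e'⟩ := k
  refine ⟨g * g', mul_mem hg hg', ?_⟩
  rw [Units.val_mul, e, e', ← show Ipᵀ * Ip = single 0 0 1 by decide +kernel]
  simp only [qm, Matrix.mul_add, Matrix.add_mul, Matrix.mul_one, Matrix.one_mul, Matrix.mul_assoc]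
  abel
theorem Q.R (h : Q G X) (k : Op G o) : Q G (R o X) := by
  obtain ⟨g, hg, e⟩ := h
  obtain ⟨⟨s, hs, e1, e2⟩, -⟩ := k
  refine ⟨s * g * s⁻¹, mul_mem (mul_mem hs hg) (inv_mem hs), ?_⟩
  have := congrArg transpose e2
  rw [transpose_mul, transpose_mul, transpose_transpose] at this
  rw [Units.val_mul, Units.val_mul, e, qm, mul_add, add_mul, mul_one, Units.mul_inv, ← Matrix.mul_assoc, ← Matrix.mul_assoc, e1,
    Matrix.mul_assoc, this]
  simp [qm, W2.R, Matrix.mul_assoc]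
theorem QA.add (h : QA G X) (k : QA G Y) : QA G (X + Y) :=
  ⟨by simpa [show X * single 0 0 1 = 0 by ext i j; simp [mul_apply, single, h.2, Fin.sum_univ_four]] using h.1.mul k.1,
    fun i => by simp [h.2, k.2]⟩
theorem QA.R (h : QA G X) (k : Op G o) : QA G (R o X) :=
  ⟨h.1.R k, fun i => by simp [W2.R, mul_apply, Fin.sum_univ_four, h.2, k.2]⟩
theorem Op.st (h : Op G o) (k : Op G o') : Op G (st4 o o') := by
  rw [st4, force_eq, force_eq]
  split_ifs with e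
  · obtain ⟨⟨g, hg, e1, e2⟩, -⟩ := h
    obtain ⟨⟨g', hg', e3, e4⟩, -⟩ := k
    exact ⟨⟨g * g', mul_mem hg hg', by rw [e.1, Units.val_mul, Matrix.mul_assoc, e3, ← Matrix.mul_assoc, e1, Matrix.mul_assoc], by
      rw [e.2.1, _root_.mul_inv_rev, Units.val_mul, transpose_mul, Matrix.mul_assoc, e4, ← Matrix.mul_assoc, e2,
        Matrix.mul_assoc]⟩, e.2.2⟩
  · exact h
theorem op_ow (h : St C0 G) (w : List ℕ) : Op G (ow w) :=
  List.foldlRecOn w _ ⟨⟨1, one_mem G, by decide +kernel⟩, by decide +kernel⟩ fun a ha i _ => ha.st (by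
    split_ifs
    exacts [⟨⟨_, h.T 1, by decide +kernel⟩, by decide +kernel⟩, ⟨⟨_, h.fo, by decide +kernel⟩, by decide +kernel⟩])

/-- powers of `T` -/
def pil : List (ℕ × ℕ) := [(0x200040008001, 0x200040008001), (0x800180010001, 0xe000c0028001), (0xc00080020001, 0x600140038001),
  (0xa001c0018001, 0x400100030001), (0x400100030001, 0xa001c0018001), (0x600140038001, 0xc00080020001), (0xe000c0028001, 0x800180010001)]
/-- a dihedral group -/
def d8 : List (ℕ × ℕ) := [(0x200040008001, 0x200040008001), (0x7e9f59af9001, 0x7e9f59af9001), (0xb3c7f655a001, 0x28f263c4d001),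
  (0x79ab549fe001, 0x765d7f6bb001), (0xb4e3fa65c001, 0xa5bbcd3df001), (0xea7ce3cad001, 0xfb44d692a001),
  (0x27544f30b001, 0xad29ecf9e001), (0xed38edfaf001, 0xf3e6f256c001)]
/-- further operators -/
def ol : List (ℕ × ℕ) := [(0x40008200001, 0x40008200001), (0xf092f1469001, 0x4b9721d71001), (0x8e1da9e91001, 0xc59a893e1001)]

theorem ops (h : St C0 G) : ∀ o ∈ pil ++ d8 ++ ol, Op G o := by
  rw [show pil ++ d8 ++ ol = List.map ow [[], [0], [0, 0], [0, 0, 0], [0, 0, 0, 0], [0, 0, 0, 0, 0], [0, 0, 0, 0, 0, 0],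
    [], [1], [0, 1, 0, 0, 0, 0], [0, 1, 0, 0, 0, 0, 1], [0, 1, 0, 1, 0, 0, 0, 1], [0, 1, 0, 1, 0, 0, 0], [1, 0, 1, 0, 0, 0, 0, 1],
    [1, 0, 1, 0, 0, 0, 0], [1, 0, 1, 0, 0, 1, 0], [1, 0], [1, 0, 0, 0]] by decide +kernel]
  exact List.forall_mem_map.2 fun w _ => op_ow h w

theorem QA.sum (h : QA G X) {w : List (ℕ × ℕ)} (k : ∀ o ∈ w, Op G o) : QA G ((w.map W2.R).sum X) := by
  induction w with
  | nil => exact ⟨⟨1, one_mem G, by simp [qm]⟩, by simp⟩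
  | cons o w ih => simpa using (h.R (k o (by simp))).add (ih fun x hx => k x (by simp [hx]))

theorem lin_ext {N : Type} [AddCommGroup N] [Module F8 N] (f g : M4 →ₗ[F8] N)
    (h : ∀ k l, l ≠ 0 → f (single k l 1) = g (single k l 1)) (hX : ∀ k, X k 0 = 0) : f X = g X := by
  rw [matrix_eq_sum_single X, map_sum, map_sum]
  refine Finset.sum_congr rfl fun k _ => ?_
  rw [map_sum, map_sum]
  refine Finset.sum_congr rfl fun l _ => ?_
  by_cases e : l = 0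
  · simp [e, hX]
  · rw [← mul_one (X k l), ← smul_eq_mul, ← smul_single, map_smul, map_smul, h k l e]

/-- the diagonal part -/
def Dg : M4 →ₗ[F8] M4 := diagonalLinearMap _ F8 F8 ∘ₗ diagLinearMap _ F8 F8
/-- diagonal entries -/
def en (k : Fin 4) : M4 →ₗ[F8] F8 := entryLinearMap F8 F8 k k
/-- vectors -/
def dv (c : ℕ) : ZMod 7 → F8 := fun i => e (c >>> (3 * i.val))
/-- the involution -/
def Z0 : M4 := d4 0x200040008000

variable (h : St C0 G) (n : ¬ specialLinear _ F8 ≤ G)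
include h n

theorem tvE {ν : F8} (k : Q G (ν • d4 0x6505e8ca0000)) : ν = 0 := by_contra fun ν0 => by
  obtain ⟨t, -, e1, e2, e3, e4⟩ := (by decide +kernel : ∀ ν : F8, ν ≠ 0 → ∃ t ∈ [
    (0x55b282e4bd08a65045a285e96a22d95000001, [0, 0, 4, 7, 2], 0x4a4cd07739887cbc424de0fe5b0d2658),
    (0x29fc60c929117ca08b7501b2421cfe2000001, [0, 0, 7, 2, 4], 0x16c3160754588e39c15616143361eebe8),
    (0x6c4ee23d9419caf0cec7845b383e276000001, [0, 7, 2, 4], 0x154a7909fba86daa825e6a24a4916bd18),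
    (0x776bc106ca0e6f1873e8c22d8433b5f000001, [0, 2, 7, 2], 0xa32860e3dd4275541b26a0d7a285942c6),
    (0x32d943f27706d948365a47c4fe116cb000001, [2, 7, 0], 0x2d9418c9483278c375bc34fdb0ec960200008),
    (0x4e97a1dfe31f03b8f88dc39fd62f4bc000001, [4, 2, 7, 2], 0xa36ae09d334363c43b6221d27a87b57c5),
    (0xb25232b5e17b5e8bd3f4676ac0d928000001, [0, 7, 2], 0x42f751dc69826f7c138be3f8eb097b80)],
    d7 t.1 = 1 - vecMulVec (dv 0x12a560) (ν • dv 0x6c948) ∧ qm (ν • d4 0x6505e8ca0000) = d7 t.1 ∧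
    (ν • dv 0x6c948) ⬝ᵥ dv 0x12a560 = 0 ∧ force (wd t.1 t.2.1) (fun a => decide (d7 a * d7 t.2.2 = 1 ∧
      (ν • dv 0x6c948) ⬝ᵥ d7 t.2.2 *ᵥ dv 0x12a560 = 0 ∧ ∀ l, l = (ν • dv 0x6c948) ⬝ᵥ d7 a *ᵥ dv 0x12a560 *
        ((ν • dv 0x6c948) ᵥ* d7 t.2.2) ⬝ᵥ d7 t.2.2 *ᵥ dv 0x12a560 * ((ν • dv 0x6c948) ᵥ* d7 a) ⬝ᵥ dv 0x12a560 →
        l ≠ 0 ∧ l ≠ 1)) = true) ν ν0
  rw [force_eq, decide_eq_true_iff] at e4
  obtain ⟨g, hg, e⟩ := k
  exact n (tv9 h (tv_mk e3 hg (e.trans (e2.trans e1))) (In.wd h ⟨g, hg, e.trans e2⟩ _) e4.1 e4.2.1 rfl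
    (e4.2.2 _ rfl).1 (e4.2.2 _ rfl).2)

theorem dg0 (k : QA G X) : QA G (Dg X) :=
  lin_ext (pil.map R).sum Dg (by decide +kernel) k.2 ▸ k.sum fun o ho => ops h o (by simp [ho])

theorem dg1 (k : QA G X) : X 1 1 + e 3 * X 2 2 + e 2 * X 3 3 = 0 := by
  have := ((dg0 h n k).sum fun o (ho : o ∈ d8) => ops h o (by simp [ho])).1
  rw [← LinearMap.comp_apply, lin_ext _ ((en 1 + e 3 • en 2 + e 2 • en 3).smulRight (d4 0x6505e8ca0000))
    (by decide +kernel) k.2] at this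
  exact tvE h n this

theorem dg2 (k : QA G X) : X 1 1 = X 2 2 ∧ X 2 2 = X 3 3 := by
  have := dg1 h n (k.R (ops h (0x40008200001, 0x40008200001) (by simp [ol])))
  have e1 := lin_ext (en 1 ∘ₗ R (0x40008200001, 0x40008200001)) (en 3) (by decide +kernel) k.2
  have e2 := lin_ext (en 2 ∘ₗ R (0x40008200001, 0x40008200001)) (en 1) (by decide +kernel) k.2
  have e3 := lin_ext (en 3 ∘ₗ R (0x40008200001, 0x40008200001)) (en 2) (by decide +kernel) k.2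
  simp only [en, LinearMap.comp_apply, entryLinearMap_apply] at e1 e2 e3
  rw [e1, e2, e3] at this
  exact (by decide +kernel : ∀ a b c : F8, a + e 3 * b + e 2 * c = 0 → c + e 3 * a + e 2 * b = 0 → a = b ∧ b = c) _ _ _
    (dg1 h n k) this

theorem nq {a x : ℕ} (k : In G a) (c : force a (fun a => decide (d7 a = qm (d4 x) ∧ (∀ k, d4 x k 0 = 0) ∧
    ¬ (d4 x 1 1 = d4 x 2 2 ∧ d4 x 2 2 = d4 x 3 3))) = true) : False := by
  rw [force_eq, decide_eq_true_iff] at c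
  exact c.2.2 (dg2 h n ⟨k.imp fun g hg => ⟨hg.1, hg.2.trans c.1⟩, c.2.1⟩)

theorem dg3 (k : QA G X) : X 1 1 = 0 ∨ X 1 1 = 1 := by
  obtain ⟨g, hg, e⟩ := (dg0 h n k).1
  rw [show Dg X = X 1 1 • Z0 by
    obtain ⟨e1, e2⟩ := dg2 h n k
    rw [show Z0 = diagonal ![0, 1, 1, 1] by decide +kernel, ← diagonal_smul]
    refine congrArg diagonal (funext fun i => ?_)
    fin_cases i <;> simp [k.2, ← e2, ← e1]] at e
  refine or_iff_not_imp_left.2 fun h0 => by_contra fun h1 => ?_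
  obtain ⟨t, -, e1, e2⟩ := (by decide +kernel : ∀ μ : F8, μ ≠ 0 → μ ≠ 1 → ∃ t ∈ [
    (0x3000403010003400013000403010003000001, [7, 0, 7, 1, 7, 0], 0x200000000000),
    (0x5000805020005800025000805020005000001, [7, 0, 7, 1, 7, 0], 0x8000),
    (0x7000c07030007c00037000c07030007000001, [7, 0, 7, 1, 7, 0], 0x40000000),
    (0x200060201800260001a000602018002000001, [7, 0, 7, 0, 7, 0, 6], 0x200000000000),
    (0x4000a04028004a0002c000a04028004000001, [7, 0, 7, 0, 7, 0, 6], 0x8000),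
    (0x6000e06038006e0003e000e06038006000001, [7, 0, 7, 0, 7, 0, 6], 0x40000000)],
    qm (μ • Z0) = d7 t.1 ∧ force (pw 6 (pw 2 (pw 2 (wd t.1 t.2.1)))) (fun a => decide (d7 a = qm (d4 t.2.2) ∧
      (∀ k, d4 t.2.2 k 0 = 0) ∧ ¬ (d4 t.2.2 1 1 = d4 t.2.2 2 2 ∧ d4 t.2.2 2 2 = d4 t.2.2 3 3))) = true) _ h0 h1
  exact nq h n ((((In.wd h ⟨g, hg, e.trans e1⟩ _).pw 2).pw 2).pw 6) e2

/-- reconstruction -/
def S (o : ℕ × ℕ) (a b c : ℕ) : M4 →ₗ[F8] M4 :=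
  (en 1 ∘ₗ R o).smulRight (d4 a) + (en 2 ∘ₗ R o).smulRight (d4 b) + (en 3 ∘ₗ R o).smulRight (d4 c)

theorem S_eq (k : QA G X) (ho : o ∈ pil ++ d8 ++ ol) :
    ∃ ε : F8, (ε = 0 ∨ ε = 1) ∧ ∀ a b c, S o a b c X = ε • (d4 a + d4 b + d4 c) := by
  have k' := k.R (ops h o ho)
  obtain ⟨e1, e2⟩ := dg2 h n k'
  exact ⟨_, dg3 h n k', fun a b c => by simp [S, en, ← e2, ← e1]⟩

theorem rowA (k : QA G X) : X = 0 ∨ X = Z0 := by
  obtain ⟨ε1, a1, b1⟩ := S_eq h n k (o := (0x200040008001, 0x200040008001)) (by simp [pil])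
  obtain ⟨ε2, a2, b2⟩ := S_eq h n k (o := (0x7e9f59af9001, 0x7e9f59af9001)) (by simp [d8])
  obtain ⟨ε3, a3, b3⟩ := S_eq h n k (o := (0xf092f1469001, 0x4b9721d71001)) (by simp [ol])
  obtain ⟨ε4, a4, b4⟩ := S_eq h n k (o := (0x8e1da9e91001, 0xc59a893e1001)) (by simp [ol])
  have := lin_ext .id (S (0x200040008001, 0x200040008001) 0x10018188ee8 0x1c0840180ee8 0x210800a00ee8 +
    S (0x7e9f59af9001, 0x7e9f59af9001) 0x190a10e40778 0x198228980778 0xc88109c0778 +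
    S (0xf092f1469001, 0x4b9721d71001) 0xa8828f40530 0xd0628cc0530 0xf8e20f80530 +
    S (0x8e1da9e91001, 0xc59a893e1001) 0xa0410d80ca0 0x1b0820c80ca0 0x90c20900ca0) (by decide +kernel) k.2
  simp only [LinearMap.add_apply, b1, b2, b3, b4, LinearMap.id_apply] at this
  have z : QA G Z0 := ⟨⟨_, h.zz, by decide +kernel⟩, by decide +kernel⟩
  have x0 : ¬ QA G (d4 0x40008200248) := fun ⟨⟨g, hg, e⟩, _⟩ => nq h n (x := 0x48048048048) ((In.wd h
    (a := 0x1048009001009040041201001200241049249) ⟨g, hg, e.trans (by decide +kernel)⟩ [7, 2, 7, 3, 6]).pw 5) (by decide +kernel)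
  rcases (by decide +kernel : ∀ ε1 : F8, ε1 = 0 ∨ ε1 = 1 → ∀ ε2 : F8, ε2 = 0 ∨ ε2 = 1 → ∀ ε3 : F8, ε3 = 0 ∨ ε3 = 1 →
    ∀ ε4 : F8, ε4 = 0 ∨ ε4 = 1 → force (e4 (ε1 • (d4 0x10018188ee8 + d4 0x1c0840180ee8 + d4 0x210800a00ee8) +
      ε2 • (d4 0x190a10e40778 + d4 0x198228980778 + d4 0xc88109c0778) + ε3 • (d4 0xa8828f40530 + d4 0xd0628cc0530 +
      d4 0xf8e20f80530) + ε4 • (d4 0xa0410d80ca0 + d4 0x1b0820c80ca0 + d4 0x90c20900ca0))) (fun x => decide (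
      ε1 • (d4 0x10018188ee8 + d4 0x1c0840180ee8 + d4 0x210800a00ee8) +
      ε2 • (d4 0x190a10e40778 + d4 0x198228980778 + d4 0xc88109c0778) + ε3 • (d4 0xa8828f40530 + d4 0xd0628cc0530 +
      d4 0xf8e20f80530) + ε4 • (d4 0xa0410d80ca0 + d4 0x1b0820c80ca0 + d4 0x90c20900ca0) = d4 x ∧
      (d4 x = 0 ∨ d4 x = Z0 ∨ ∃ o ∈ pil, R o (d4 x) = d4 0x40008200248 ∨ R o (d4 x) + Z0 = d4 0x40008200248))) = true)
    ε1 a1 ε2 a2 ε3 a3 ε4 a4 with c
  rw [force_eq, decide_eq_true_iff, ← this] at c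
  obtain ⟨c1, c⟩ := c
  rw [← c1] at c
  rcases c with c | c | ⟨o, ho, c | c⟩ <;> [exact .inl c; exact .inr c; skip; skip] <;> rw [← c] at x0
  exacts [absurd (k.R (ops h o (by simp [ho]))) x0, absurd ((k.R (ops h o (by simp [ho]))).add z) x0]

end H13.W2
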