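import Cfsg.Agent.H13.BK11
import Cfsg.Agent.H13.Sm1

/-! Simple groups of order 244823040: the sieves. -/

namespace H13.Z
open BK

def F : List (ℕ × ℕ) := [(2, 10), (3, 3), (5, 1), (7, 1), (11, 1), (23, 1)]
def D : List ℕ :=
  [15456, 15360, 15180, 15120, 14784, 14720, 14490, 14168, 14080, 13860, 13824, 13662, 13440, 13248, 12880,
  12672, 12420, 12320, 12144, 12096, 11880, 11776, 11592, 11520, 11385, 11264, 11088, 11040, 10752, 10626,
  10560, 10395, 10304, 10120, 10080, 9936, 9856, 9660, 9504, 9240, 9216, 9108, 8960, 8855, 8832, 8694, 8640,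
  8448, 8316, 8280, 8096, 8064, 7920, 7728, 7680, 7590, 7560, 7392, 7360, 7245, 7168, 7084, 7040, 6930, 6912,
  6831, 6720, 6624, 6440, 6336, 6210, 6160, 6072, 6048, 5940, 5888, 5796, 5760, 5632, 5544, 5520, 5376, 5313,
  5280, 5152, 5120, 5060, 5040, 4968, 4928, 4830, 4752, 4620, 4608, 4554, 4480, 4416, 4347, 4320, 4224, 4158,
  4140, 4048, 4032, 3960, 3864, 3840, 3795, 3780, 3696, 3680, 3584, 3542, 3520, 3465, 3456, 3360, 3312, 3220,
  3168, 3105, 3080, 3072, 3036, 3024, 2970, 2944, 2898, 2880, 2816, 2772, 2760, 2688, 2640, 2576, 2560, 2530,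
  2520, 2484, 2464, 2415, 2376, 2310, 2304, 2277, 2240, 2208, 2160, 2112, 2079, 2070, 2024, 2016, 1980, 1932,
  1920, 1890, 1848, 1840, 1792, 1771, 1760, 1728, 1680, 1656, 1610, 1584, 1540, 1536, 1518, 1512, 1485, 1472,
  1449, 1440, 1408, 1386, 1380, 1344, 1320, 1288, 1280, 1265, 1260, 1242, 1232, 1188, 1155, 1152, 1120, 1104,
  1080, 1056, 1035, 1024, 1012, 1008, 990, 966, 960, 945, 924, 920, 896, 880, 864, 840, 828, 805, 792, 770,
  768, 759, 756, 736, 720, 704, 693, 690, 672, 660, 644, 640, 630, 621, 616, 594, 576, 560, 552, 540, 528,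
  512, 506, 504, 495, 483, 480, 462, 460, 448, 440, 432, 420, 414, 396, 385, 384, 378, 368, 360, 352, 345,
  336, 330, 322, 320, 315, 308, 297, 288, 280, 276, 270, 264, 256, 253, 252, 240, 231, 230, 224, 220, 216,
  210, 207, 198, 192, 189, 184, 180, 176, 168, 165, 161, 160, 154, 144, 140, 138, 135, 132, 128, 126, 120,
  115, 112, 110, 108, 105, 99, 96, 92, 90, 88, 84, 80, 77, 72, 70, 69, 66, 64, 63, 60, 56, 55, 54, 48, 46, 45,
  44, 42, 40, 36, 35, 33, 32, 30, 28, 27, 24, 23, 22, 21, 20, 18, 16, 15, 14, 12, 11, 10, 9, 8, 7, 6, 5, 4, 3,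
  2, 1]
def qA : List ℤ := [-5544, -414, 161, 5796]
def qB : List ℤ := [-2024, 231, 896, 896]
def qC : List ℤ := [-414, 126, 126, 161]
def qD : List ℤ := [-5544, -2024, 1771, 5796]
def qE : List ℤ := [-2024, 126, 126, 1771]
def qF : List ℤ := [-759, 11, 11, 736]
def Q5 : List (ℕ × ℕ × List ℤ) := [(4, 2, qA), (4, 2, qB), (4, 2, qC), (4, 7, qF), (4, 12, qD), (4, 12, qA),
  (4, 12, qE), (4, 12, qB), (4, 12, qC), (4, 32, qA), (4, 32, qC), (4, 42, qF), (4, 72, qB), (4, 112, qF),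
  (4, 192, qD), (4, 192, qA), (4, 192, qE), (4, 192, qC), (4, 252, qF), (4, 672, qF)]

theorem r23 : chk 244823040 23 F D (fun e c => e == 2 || c % 2 == 1 && c != 1) (fun _ => true)
    (fun _ _ _ _ => true) [] = true := by
  decide +kernel

theorem r11 : chk 244823040 11 F D (fun e c => c % 23 != 0 && (e == 2 || c % 5 == 0)) (res 23 11)
    (fun _ _ => wrel 23 11) [] = true := by
  decide +kernel

theorem r11' : chk 244823040 11 F D (fun e c => e == 5 && c == 2) (res 23 11)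
    (fun _ _ l s => s.natAbs == 896 && wrel 23 11 l s) [] = true := by
  decide +kernel

theorem r5 : chk 244823040 5 F D (fun _ c => c % 23 != 0 && c % 11 != 0) (res 23 11)
    (fun _ _ => wrel 23 11) Q5 = true := by
  decide +kernel

end H13.Z
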