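import Cfsg.Statements.S0422

/-! Interface between the character theory and the local analysis for groups of order `|M₂₄|`. -/

set_option autoImplicit false

namespace H13.Z
open Subgroup

variable {G : Type*} [Group G]

/-- Local data at the prime 5: `C(w) = ⟨w⟩ × (R ⋊ ⟨u⟩)`, `|N(⟨w⟩) : C(w)| = 4`. -/
structure L5 (w u : G) (R : Subgroup G) : Prop where
  simple : IsSimpleGroup G
  card : Nat.card G = 244823040
  ow : orderOf w = 5
  ou : orderOf u = 3
  uw : u * w = w * u
  Rle : R ≤ centralizer {w}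
  R2 : IsPGroup 2 R
  Rn : ∀ g ∈ normalizer (zpowers w : Set G), ∀ x ∈ R, g * x * g⁻¹ ∈ R
  cardC : Nat.card (centralizer ({w} : Set G)) = 15 * Nat.card R
  cardN : Nat.card (normalizer (zpowers w : Set G)) = 60 * Nat.card R
  fpf : ∀ x ∈ R, u * x = x * u → x = 1
  no35 : ∀ g : G, orderOf g ≠ 35

/-- The elementary abelian subgroup `E = O₂(C(r)) = O₂(C(R))` of order 64. -/
structure EE (w r : G) (R E : Subgroup G) : Prop where
  card : Nat.card E = 64
  sq : ∀ x ∈ E, x * x = 1
  Rle : R ≤ E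
  nr : centralizer {r} ≤ normalizer (E : Set G)
  nw : normalizer (zpowers w : Set G) ≤ normalizer (E : Set G)
  cw : ∀ x ∈ E, x * w = w * x → x ∈ R
  sc : centralizer (E : Set G) ≤ E

/-- All hypotheses of the endgame. -/
structure EG (w u r : G) (R E : Subgroup G) : Prop where
  l5 : L5 w u R
  c4 : Nat.card R = 4
  rR : r ∈ R
  r1 : r ≠ 1
  cr : Nat.card (centralizer ({r} : Set G)) = 7680
  ee : EE w r R E
  fu : ∀ x ∈ E, u * x = x * u → x = 1
  c18 : Nat.card {x : G // x ∈ E ∧ IsConj r x} = 18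
  j15 : Nat.card {s : G // IsConj r s ∧ s * w * s⁻¹ = w⁻¹} = 15

end H13.Z
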